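import Mathlib.Algebra.BigOperators.Group.Finset.Basic
import Mathlib.Algebra.BigOperators.Ring.Finset
import Mathlib.Data.Complex.BigOperators
import Cfsg.Prelude.Def_Characters

/-!
# classInner bilinearity, indFun linearity, Frobenius reciprocity (helper34)

Everything is about the plain functions `Cfsg.classInner`, `Cfsg.extendByZero`, `Cfsg.indFun`
of `Def_Characters`; no representation theory is used here.
-/

set_option autoImplicit false

namespace Cfsg.Agent.Lib.Helper34

open scoped ComplexConjugate
open Cfsg

section Inner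

variable {G : Type*} [Group G] [Fintype G]

theorem classInner_def (φ ψ : G → ℂ) :
    classInner φ ψ = (Nat.card G : ℂ)⁻¹ * ∑ g : G, φ g * conj (ψ g) := rfl

theorem classInner_add_left (φ φ' ψ : G → ℂ) :
    classInner (φ + φ') ψ = classInner φ ψ + classInner φ' ψ := by
  simp only [classInner_def, Pi.add_apply, add_mul, Finset.sum_add_distrib, mul_add]

theorem classInner_add_right (φ ψ ψ' : G → ℂ) :
    classInner φ (ψ + ψ') = classInner φ ψ + classInner φ ψ' := by
  simp only [classInner_def, Pi.add_apply, map_add, mul_add, Finset.sum_add_distrib]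

theorem classInner_smul_left (c : ℂ) (φ ψ : G → ℂ) :
    classInner (c • φ) ψ = c * classInner φ ψ := by
  simp only [classInner_def, Pi.smul_apply, smul_eq_mul, Finset.mul_sum]
  apply Finset.sum_congr rfl
  intro g _
  ring

theorem classInner_smul_right (c : ℂ) (φ ψ : G → ℂ) :
    classInner φ (c • ψ) = conj c * classInner φ ψ := by
  simp only [classInner_def, Pi.smul_apply, smul_eq_mul, map_mul, Finset.mul_sum]
  apply Finset.sum_congr rfl
  intro g _
  ring

theorem classInner_neg_left (φ ψ : G → ℂ) : classInner (-φ) ψ = -classInner φ ψ := by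
  have := classInner_smul_left (-1) φ ψ
  simpa using this

theorem classInner_neg_right (φ ψ : G → ℂ) : classInner φ (-ψ) = -classInner φ ψ := by
  have := classInner_smul_right (-1) φ ψ
  simpa using this

theorem classInner_sub_left (φ φ' ψ : G → ℂ) :
    classInner (φ - φ') ψ = classInner φ ψ - classInner φ' ψ := by
  rw [sub_eq_add_neg, classInner_add_left, classInner_neg_left, sub_eq_add_neg]

theorem classInner_sub_right (φ ψ ψ' : G → ℂ) :
    classInner φ (ψ - ψ') = classInner φ ψ - classInner φ ψ' := by
  rw [sub_eq_add_neg, classInner_add_right, classInner_neg_right, sub_eq_add_neg]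

theorem classInner_zero_left (ψ : G → ℂ) : classInner (0 : G → ℂ) ψ = 0 := by
  simp [classInner_def]

theorem classInner_zero_right (φ : G → ℂ) : classInner φ (0 : G → ℂ) = 0 := by
  simp [classInner_def]

theorem classInner_sum_left {ι : Type*} (s : Finset ι) (f : ι → G → ℂ) (ψ : G → ℂ) :
    classInner (∑ i ∈ s, f i) ψ = ∑ i ∈ s, classInner (f i) ψ := by
  classical
  induction s using Finset.induction_on with
  | empty => simp [classInner_zero_left]
  | insert a s ha ih => rw [Finset.sum_insert ha, Finset.sum_insert ha, classInner_add_left, ih]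

theorem classInner_sum_right {ι : Type*} (s : Finset ι) (φ : G → ℂ) (f : ι → G → ℂ) :
    classInner φ (∑ i ∈ s, f i) = ∑ i ∈ s, classInner φ (f i) := by
  classical
  induction s using Finset.induction_on with
  | empty => simp [classInner_zero_right]
  | insert a s ha ih => rw [Finset.sum_insert ha, Finset.sum_insert ha, classInner_add_right, ih]

theorem classInner_conj_symm (φ ψ : G → ℂ) : conj (classInner φ ψ) = classInner ψ φ := by
  simp only [classInner_def, map_mul, map_inv₀, map_natCast, map_sum, Complex.conj_conj]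
  congr 1
  apply Finset.sum_congr rfl
  intro g _
  ring

theorem classInner_zsmul_left (n : ℤ) (φ ψ : G → ℂ) :
    classInner (n • φ) ψ = (n : ℂ) * classInner φ ψ := by
  have h : n • φ = (n : ℂ) • φ := by
    funext g; simp
  rw [h, classInner_smul_left]

theorem classInner_zsmul_right (n : ℤ) (φ ψ : G → ℂ) :
    classInner φ (n • ψ) = (n : ℂ) * classInner φ ψ := by
  have h : n • ψ = (n : ℂ) • ψ := by
    funext g; simp
  rw [h, classInner_smul_right]
  simp

theorem classInner_nsmul_left (n : ℕ) (φ ψ : G → ℂ) :
    classInner (n • φ) ψ = (n : ℂ) * classInner φ ψ := by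
  have h : n • φ = (n : ℂ) • φ := by
    funext g; simp
  rw [h, classInner_smul_left]

theorem classInner_nsmul_right (n : ℕ) (φ ψ : G → ℂ) :
    classInner φ (n • ψ) = (n : ℂ) * classInner φ ψ := by
  have h : n • ψ = (n : ℂ) • ψ := by
    funext g; simp
  rw [h, classInner_smul_right]
  simp

/-- `⟨φ, φ⟩` is the (real) average of the squared norms. -/
theorem classInner_self (φ : G → ℂ) :
    classInner φ φ = (((Nat.card G : ℝ)⁻¹ * ∑ g : G, ‖φ g‖ ^ 2 : ℝ) : ℂ) := by
  simp only [classInner_def, Complex.mul_conj, Complex.normSq_eq_norm_sq]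
  push_cast
  rfl

theorem classInner_self_re (φ : G → ℂ) :
    (classInner φ φ).re = (Nat.card G : ℝ)⁻¹ * ∑ g : G, ‖φ g‖ ^ 2 := by
  rw [classInner_self, Complex.ofReal_re]

theorem classInner_self_im (φ : G → ℂ) : (classInner φ φ).im = 0 := by
  rw [classInner_self, Complex.ofReal_im]

theorem classInner_self_re_nonneg (φ : G → ℂ) : 0 ≤ (classInner φ φ).re := by
  rw [classInner_self_re]
  positivity

theorem classInner_self_eq_zero (φ : G → ℂ) : classInner φ φ = 0 ↔ φ = 0 := by
  constructor
  · intro h
    have h1 : (classInner φ φ).re = 0 := by rw [h]; rfl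
    rw [classInner_self_re] at h1
    have hG : (0 : ℝ) < (Nat.card G : ℝ) := by exact_mod_cast Nat.card_pos
    have h2 : ∑ g : G, ‖φ g‖ ^ 2 = 0 := by
      rcases mul_eq_zero.mp h1 with h3 | h3
      · exact absurd (inv_eq_zero.mp h3) hG.ne'
      · exact h3
    funext g
    have h3 := (Finset.sum_eq_zero_iff_of_nonneg (fun i _ => by positivity)).mp h2 g (Finset.mem_univ g)
    simpa using h3
  · rintro rfl
    exact classInner_zero_left 0

end Inner

section Ind

variable {G : Type*} [Group G]

theorem extendByZero_apply_mem (H : Subgroup G) (θ : H → ℂ) {g : G} (hg : g ∈ H) :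
    extendByZero H θ g = θ ⟨g, hg⟩ := by
  have := Subtype.val_injective.extend_apply θ (0 : G → ℂ) (⟨g, hg⟩ : H)
  simpa [extendByZero] using this

theorem extendByZero_coe (H : Subgroup G) (θ : H → ℂ) (h : H) :
    extendByZero H θ (h : G) = θ h :=
  extendByZero_apply_mem H θ h.2

theorem extendByZero_apply_not_mem (H : Subgroup G) (θ : H → ℂ) {g : G} (hg : g ∉ H) :
    extendByZero H θ g = 0 := by
  unfold extendByZero
  rw [Function.extend_apply']
  · rfl
  · rintro ⟨a, rfl⟩
    exact hg a.2

theorem extendByZero_add (H : Subgroup G) (θ θ' : H → ℂ) :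
    extendByZero H (θ + θ') = extendByZero H θ + extendByZero H θ' := by
  funext g
  by_cases hg : g ∈ H
  · simp [extendByZero_apply_mem H _ hg]
  · simp [extendByZero_apply_not_mem H _ hg]

theorem extendByZero_smul (H : Subgroup G) (c : ℂ) (θ : H → ℂ) :
    extendByZero H (c • θ) = c • extendByZero H θ := by
  funext g
  by_cases hg : g ∈ H
  · simp [extendByZero_apply_mem H _ hg]
  · simp [extendByZero_apply_not_mem H _ hg]

theorem extendByZero_zero (H : Subgroup G) : extendByZero H (0 : H → ℂ) = 0 := by
  funext g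
  by_cases hg : g ∈ H
  · simp [extendByZero_apply_mem H _ hg]
  · simp [extendByZero_apply_not_mem H _ hg]

/-- sum over `G` of an extension by zero is the sum over the subgroup -/
theorem sum_extendByZero_mul [Fintype G] (H : Subgroup G) [Fintype H] (θ : H → ℂ) (f : G → ℂ) :
    ∑ g : G, extendByZero H θ g * f g = ∑ h : H, θ h * f h := by
  classical
  have h1 : ∑ g : G, extendByZero H θ g * f g
      = ∑ g ∈ (Finset.univ : Finset G).filter (· ∈ H), extendByZero H θ g * f g := by
    rw [Finset.sum_filter]
    apply Finset.sum_congr rfl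
    intro g _
    by_cases hg : g ∈ H
    · rw [if_pos hg]
    · rw [if_neg hg, extendByZero_apply_not_mem H θ hg, zero_mul]
  rw [h1]
  symm
  apply Finset.sum_bij (fun (h : H) _ => (h : G))
  · intro h _; simp
  · intro a _ b _ hab; exact Subtype.ext hab
  · intro g hg
    simp only [Finset.mem_filter, Finset.mem_univ, true_and] at hg
    exact ⟨⟨g, hg⟩, Finset.mem_univ _, rfl⟩
  · intro h _
    rw [extendByZero_coe]

variable [Fintype G]

theorem indFun_apply (H : Subgroup G) (θ : H → ℂ) (g : G) :
    indFun H θ g = (Nat.card H : ℂ)⁻¹ * ∑ x : G, extendByZero H θ (x⁻¹ * g * x) := rfl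

theorem indFun_add (H : Subgroup G) (θ θ' : H → ℂ) :
    indFun H (θ + θ') = indFun H θ + indFun H θ' := by
  funext g
  simp only [indFun_apply, Pi.add_apply, extendByZero_add, Finset.sum_add_distrib, mul_add]

theorem indFun_smul (H : Subgroup G) (c : ℂ) (θ : H → ℂ) :
    indFun H (c • θ) = c • indFun H θ := by
  funext g
  simp only [indFun_apply, Pi.smul_apply, extendByZero_smul, smul_eq_mul, ← Finset.mul_sum]
  ring

theorem indFun_zero (H : Subgroup G) : indFun H (0 : H → ℂ) = 0 := by
  funext g
  simp [indFun_apply, extendByZero_zero]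

theorem indFun_neg (H : Subgroup G) (θ : H → ℂ) : indFun H (-θ) = -indFun H θ := by
  have := indFun_smul H (-1) θ
  simpa using this

theorem indFun_sub (H : Subgroup G) (θ θ' : H → ℂ) :
    indFun H (θ - θ') = indFun H θ - indFun H θ' := by
  rw [sub_eq_add_neg, indFun_add, indFun_neg, sub_eq_add_neg]

theorem indFun_zsmul (H : Subgroup G) (n : ℤ) (θ : H → ℂ) :
    indFun H (n • θ) = n • indFun H θ := by
  have h : n • θ = (n : ℂ) • θ := by funext g; simp
  have h' : n • indFun H θ = (n : ℂ) • indFun H θ := by funext g; simp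
  rw [h, h', indFun_smul]

theorem indFun_nsmul (H : Subgroup G) (n : ℕ) (θ : H → ℂ) :
    indFun H (n • θ) = n • indFun H θ := by
  have h : n • θ = (n : ℂ) • θ := by funext g; simp
  have h' : n • indFun H θ = (n : ℂ) • indFun H θ := by funext g; simp
  rw [h, h', indFun_smul]

theorem indFun_sum {ι : Type*} (H : Subgroup G) (s : Finset ι) (f : ι → H → ℂ) :
    indFun H (∑ i ∈ s, f i) = ∑ i ∈ s, indFun H (f i) := by
  classical
  induction s using Finset.induction_on with
  | empty => simp [indFun_zero]
  | insert a s ha ih => rw [Finset.sum_insert ha, Finset.sum_insert ha, indFun_add, ih]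

/-- An induced function is always a class function (no hypothesis on `θ`). -/
theorem indFun_isClassFunction (H : Subgroup G) (θ : H → ℂ) :
    IsClassFunction G (indFun H θ) := by
  intro g h
  simp only [indFun_apply]
  congr 1
  apply Fintype.sum_equiv (Equiv.mulLeft h⁻¹)
  intro x
  simp only [Equiv.coe_mulLeft]
  congr 1
  group

/-- **Frobenius reciprocity**, induced function on the left. `ψ` must be a class function of `G`;
`θ` is an arbitrary function on `H`. -/
theorem classInner_indFun_left (H : Subgroup G) [Fintype H] (θ : H → ℂ) (ψ : G → ℂ)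
    (hψ : IsClassFunction G ψ) :
    classInner (indFun H θ) ψ = classInner θ (fun h : H => ψ h) := by
  simp only [classInner_def, indFun_apply]
  have h1 : ∀ x : G, ∑ g : G, extendByZero H θ (x⁻¹ * g * x) * conj (ψ g)
      = ∑ h : H, θ h * conj (ψ h) := by
    intro x
    rw [← sum_extendByZero_mul H θ (fun g => conj (ψ g))]
    apply Fintype.sum_equiv (MulAut.conj x⁻¹).toEquiv
    intro g
    simp only [MulEquiv.toEquiv_eq_coe, EquivLike.coe_coe, MulAut.conj_apply, inv_inv]
    have h2 := hψ g x⁻¹
    rw [inv_inv] at h2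
    rw [h2]
  calc (Nat.card G : ℂ)⁻¹ * ∑ g : G, (Nat.card H : ℂ)⁻¹ * (∑ x : G, extendByZero H θ (x⁻¹ * g * x)) * conj (ψ g)
      = (Nat.card G : ℂ)⁻¹ * ((Nat.card H : ℂ)⁻¹ * ∑ x : G, ∑ g : G, extendByZero H θ (x⁻¹ * g * x) * conj (ψ g)) := by
        congr 1
        rw [Finset.sum_comm, Finset.mul_sum]
        apply Finset.sum_congr rfl
        intro g _
        rw [mul_assoc, Finset.sum_mul]
    _ = (Nat.card G : ℂ)⁻¹ * ((Nat.card H : ℂ)⁻¹ * ∑ _x : G, ∑ h : H, θ h * conj (ψ h)) := by
        congr 2
        exact Finset.sum_congr rfl (fun x _ => h1 x)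
    _ = (Nat.card H : ℂ)⁻¹ * ∑ h : H, θ h * conj (ψ h) := by
        rw [Finset.sum_const, Finset.card_univ, nsmul_eq_mul, ← Nat.card_eq_fintype_card]
        have hG : (Nat.card G : ℂ) ≠ 0 := by exact_mod_cast Nat.card_pos.ne'
        field_simp

/-- **Frobenius reciprocity**, induced function on the right. -/
theorem classInner_indFun_right (H : Subgroup G) [Fintype H] (θ : H → ℂ) (ψ : G → ℂ)
    (hψ : IsClassFunction G ψ) :
    classInner ψ (indFun H θ) = classInner (fun h : H => ψ h) θ := by
  rw [← classInner_conj_symm, classInner_indFun_left H θ ψ hψ, classInner_conj_symm]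

end Ind

end Cfsg.Agent.Lib.Helper34
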