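import Mathlib
import Cfsg.Agent.Lib.Helper83.Decompose
import Cfsg.Agent.Lib.Helper34.Induction

/-!
# Induced characters and generalized characters (helper34)

* `isCharacter_indFun`, `isGeneralizedCharacter_indFun`
* closure properties of `Cfsg.IsGeneralizedCharacter`
* integrality of inner products, decomposition with integer coefficients,
  generalized characters of norm 1 and 2.
-/

set_option autoImplicit false

namespace Cfsg.Agent.Lib.Helper34

open scoped ComplexConjugate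
open Cfsg

universe u

section

variable {G : Type u} [Group G]

/-! ### closure properties of generalized characters -/

theorem IsCharacter.isGeneralizedCharacter {χ : G → ℂ} (h : IsCharacter G χ) :
    IsGeneralizedCharacter G χ :=
  ⟨χ, 0, h, Helper83.isCharacter_zero, by simp⟩

theorem isGeneralizedCharacter_of_irr {χ : G → ℂ} (h : IsIrrCharacter G χ) :
    IsGeneralizedCharacter G χ :=
  IsCharacter.isGeneralizedCharacter (Helper83.isCharacter_of_irr h)

theorem isGeneralizedCharacter_zero : IsGeneralizedCharacter G (0 : G → ℂ) :=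
  IsCharacter.isGeneralizedCharacter Helper83.isCharacter_zero

theorem isGeneralizedCharacter_add {θ θ' : G → ℂ} (h : IsGeneralizedCharacter G θ)
    (h' : IsGeneralizedCharacter G θ') : IsGeneralizedCharacter G (θ + θ') := by
  obtain ⟨a, b, ha, hb, rfl⟩ := h
  obtain ⟨c, d, hc, hd, rfl⟩ := h'
  exact ⟨a + c, b + d, Helper83.isCharacter_add ha hc, Helper83.isCharacter_add hb hd, by abel⟩

theorem isGeneralizedCharacter_neg {θ : G → ℂ} (h : IsGeneralizedCharacter G θ) :
    IsGeneralizedCharacter G (-θ) := by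
  obtain ⟨a, b, ha, hb, rfl⟩ := h
  exact ⟨b, a, hb, ha, by abel⟩

theorem isGeneralizedCharacter_sub {θ θ' : G → ℂ} (h : IsGeneralizedCharacter G θ)
    (h' : IsGeneralizedCharacter G θ') : IsGeneralizedCharacter G (θ - θ') := by
  rw [sub_eq_add_neg]
  exact isGeneralizedCharacter_add h (isGeneralizedCharacter_neg h')

theorem isGeneralizedCharacter_nsmul (n : ℕ) {θ : G → ℂ} (h : IsGeneralizedCharacter G θ) :
    IsGeneralizedCharacter G (n • θ) := by
  induction n with
  | zero => simpa using isGeneralizedCharacter_zero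
  | succ n ih => rw [succ_nsmul]; exact isGeneralizedCharacter_add ih h

theorem isGeneralizedCharacter_zsmul (n : ℤ) {θ : G → ℂ} (h : IsGeneralizedCharacter G θ) :
    IsGeneralizedCharacter G (n • θ) := by
  obtain ⟨m, rfl | rfl⟩ := n.eq_nat_or_neg
  · rw [natCast_zsmul]; exact isGeneralizedCharacter_nsmul m h
  · rw [neg_zsmul, natCast_zsmul]
    exact isGeneralizedCharacter_neg (isGeneralizedCharacter_nsmul m h)

theorem isGeneralizedCharacter_intCast_smul (n : ℤ) {θ : G → ℂ} (h : IsGeneralizedCharacter G θ) :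
    IsGeneralizedCharacter G ((n : ℂ) • θ) := by
  have : (n : ℂ) • θ = n • θ := by funext g; simp
  rw [this]
  exact isGeneralizedCharacter_zsmul n h

theorem isGeneralizedCharacter_sum {ι : Type*} (s : Finset ι) (f : ι → G → ℂ)
    (h : ∀ i ∈ s, IsGeneralizedCharacter G (f i)) : IsGeneralizedCharacter G (∑ i ∈ s, f i) := by
  classical
  induction s using Finset.induction_on with
  | empty => simpa using isGeneralizedCharacter_zero
  | insert a s ha ih =>
    rw [Finset.sum_insert ha]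
    exact isGeneralizedCharacter_add (h a (Finset.mem_insert_self a s))
      (ih (fun i hi => h i (Finset.mem_insert_of_mem hi)))

theorem isGeneralizedCharacter_isClassFunction {θ : G → ℂ} (h : IsGeneralizedCharacter G θ) :
    IsClassFunction G θ := by
  obtain ⟨a, b, ha, hb, rfl⟩ := h
  exact Helper83.isClassFunction_sub (Helper83.char_isClassFunction ha)
    (Helper83.char_isClassFunction hb)

theorem isGeneralizedCharacter_restrict (H : Subgroup G) {θ : G → ℂ}
    (h : IsGeneralizedCharacter G θ) : IsGeneralizedCharacter H (fun x : H => θ x) := by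
  obtain ⟨a, b, ha, hb, rfl⟩ := h
  exact ⟨_, _, Helper83.isCharacter_restrict H ha, Helper83.isCharacter_restrict H hb, rfl⟩

theorem isGeneralizedCharacter_conj [Finite G] {θ : G → ℂ}
    (h : IsGeneralizedCharacter G θ) : IsGeneralizedCharacter G (fun g => conj (θ g)) := by
  obtain ⟨a, b, ha, hb, rfl⟩ := h
  refine ⟨_, _, Helper83.isCharacter_conj ha, Helper83.isCharacter_conj hb, ?_⟩
  funext g
  simp

theorem isGeneralizedCharacter_apply_one {θ : G → ℂ} (h : IsGeneralizedCharacter G θ) :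
    ∃ n : ℤ, θ 1 = n := by
  obtain ⟨a, b, ha, hb, rfl⟩ := h
  obtain ⟨n, hn⟩ := Helper83.char_one_eq_nat ha
  obtain ⟨m, hm⟩ := Helper83.char_one_eq_nat hb
  exact ⟨(n : ℤ) - m, by simp [hn, hm]⟩

end

section

variable {G : Type u} [Group G] [Fintype G]

/-! ### integrality of inner products -/

theorem classInner_genChar_int {θ θ' : G → ℂ} (h : IsGeneralizedCharacter G θ)
    (h' : IsGeneralizedCharacter G θ') : ∃ n : ℤ, classInner θ θ' = n := by
  obtain ⟨a, b, ha, hb, rfl⟩ := h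
  obtain ⟨c, d, hc, hd, rfl⟩ := h'
  obtain ⟨n1, h1⟩ := Helper83.classInner_char_nat ha hc
  obtain ⟨n2, h2⟩ := Helper83.classInner_char_nat ha hd
  obtain ⟨n3, h3⟩ := Helper83.classInner_char_nat hb hc
  obtain ⟨n4, h4⟩ := Helper83.classInner_char_nat hb hd
  refine ⟨(n1 : ℤ) - n2 - n3 + n4, ?_⟩
  rw [classInner_sub_left, classInner_sub_right, classInner_sub_right, h1, h2, h3, h4]
  push_cast
  ring

/-! ### induction -/

/-- **The function induced from a character is a character.** -/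
theorem isCharacter_indFun (H : Subgroup G) {θ : H → ℂ} (hθ : IsCharacter H θ) :
    IsCharacter G (indFun H θ) := by
  letI : Fintype H := Fintype.ofFinite _
  apply Helper83.isCharacter_of_classInner_nat (indFun_isClassFunction H θ)
  intro ψ
  rw [classInner_indFun_left H θ ψ (Helper83.char_isClassFunction (Helper83.IrrCharacter_isCharacter ψ))]
  exact Helper83.classInner_char_nat hθ (Helper83.isCharacter_restrict H (Helper83.IrrCharacter_isCharacter ψ))

theorem isGeneralizedCharacter_indFun (H : Subgroup G) {θ : H → ℂ}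
    (hθ : IsGeneralizedCharacter H θ) : IsGeneralizedCharacter G (indFun H θ) := by
  obtain ⟨a, b, ha, hb, rfl⟩ := hθ
  exact ⟨_, _, isCharacter_indFun H ha, isCharacter_indFun H hb, indFun_sub H a b⟩

/-! ### integer decompositions -/

variable [Fintype (IrrCharacter G)]

theorem classInner_combo (c d : IrrCharacter G → ℂ) :
    classInner (∑ φ : IrrCharacter G, c φ • (φ : G → ℂ)) (∑ φ : IrrCharacter G, d φ • (φ : G → ℂ))
      = ∑ φ : IrrCharacter G, c φ * conj (d φ) := by
  rw [classInner_sum_right]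
  apply Finset.sum_congr rfl
  intro ψ _
  rw [classInner_smul_right, Helper83.classInner_sum_irr_left, mul_comm]

/-- a generalized character is an integer combination of the irreducible characters -/
theorem exists_int_coeff {θ : G → ℂ} (h : IsGeneralizedCharacter G θ) :
    ∃ z : IrrCharacter G → ℤ, θ = ∑ ψ : IrrCharacter G, (z ψ : ℂ) • (ψ : G → ℂ) := by
  obtain ⟨a, b, ha, hb, rfl⟩ := h
  refine ⟨fun ψ => (Helper83.irrMult a ψ : ℤ) - Helper83.irrMult b ψ, ?_⟩
  conv_lhs => rw [Helper83.char_eq_sum_irrMult ha, Helper83.char_eq_sum_irrMult hb]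
  rw [← Finset.sum_sub_distrib]
  apply Finset.sum_congr rfl
  intro ψ _
  push_cast
  rw [sub_smul]

theorem classInner_int_combo (z w : IrrCharacter G → ℤ) :
    classInner (∑ φ : IrrCharacter G, (z φ : ℂ) • (φ : G → ℂ))
      (∑ φ : IrrCharacter G, (w φ : ℂ) • (φ : G → ℂ))
      = ((∑ φ : IrrCharacter G, z φ * w φ : ℤ) : ℂ) := by
  rw [classInner_combo]
  push_cast
  apply Finset.sum_congr rfl
  intro ψ _
  rw [map_intCast]

theorem int_combo_isGeneralizedCharacter (z : IrrCharacter G → ℤ) :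
    IsGeneralizedCharacter G (∑ φ : IrrCharacter G, (z φ : ℂ) • (φ : G → ℂ)) := by
  apply isGeneralizedCharacter_sum
  intro φ _
  exact isGeneralizedCharacter_intCast_smul _ (isGeneralizedCharacter_of_irr φ.2)

theorem int_combo_injective (z w : IrrCharacter G → ℤ)
    (h : (∑ φ : IrrCharacter G, (z φ : ℂ) • (φ : G → ℂ)) = ∑ φ : IrrCharacter G, (w φ : ℂ) • (φ : G → ℂ)) :
    z = w := by
  funext ψ
  have h1 := congrArg (fun f => classInner f (ψ : G → ℂ)) h
  simp only [Helper83.classInner_sum_irr_left] at h1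
  exact_mod_cast h1

end

section Norm

variable {G : Type u} [Group G] [Fintype G]

/-- a generalized character of norm one is plus or minus an irreducible character -/
theorem irr_or_neg_irr_of_norm_one {θ : G → ℂ} (h : IsGeneralizedCharacter G θ)
    (h1 : classInner θ θ = 1) : IsIrrCharacter G θ ∨ IsIrrCharacter G (-θ) := by
  classical
  letI : Fintype (IrrCharacter G) := Fintype.ofFinite _
  obtain ⟨z, rfl⟩ := exists_int_coeff h
  rw [classInner_int_combo] at h1
  have h2 : ∑ φ : IrrCharacter G, z φ * z φ = 1 := by exact_mod_cast h1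
  -- exactly one nonzero coefficient, equal to ±1
  have hex : ∃ ψ, z ψ ≠ 0 := by
    by_contra hne
    push Not at hne
    simp [hne] at h2
  obtain ⟨ψ, hψ⟩ := hex
  have hsplit : z ψ * z ψ + ∑ φ ∈ Finset.univ.erase ψ, z φ * z φ = 1 := by
    rw [Finset.add_sum_erase Finset.univ (fun φ => z φ * z φ) (Finset.mem_univ ψ)]
    exact h2
  have hnn : 0 ≤ ∑ φ ∈ Finset.univ.erase ψ, z φ * z φ :=
    Finset.sum_nonneg (fun φ _ => mul_self_nonneg (z φ))
  have hψ1 : 1 ≤ z ψ * z ψ := by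
    have : 0 < z ψ * z ψ := mul_self_pos.mpr hψ
    omega
  have hrest : ∑ φ ∈ Finset.univ.erase ψ, z φ * z φ = 0 := by omega
  have hψ2 : z ψ * z ψ = 1 := by omega
  have hzero : ∀ φ, φ ≠ ψ → z φ = 0 := by
    intro φ hφ
    have := (Finset.sum_eq_zero_iff_of_nonneg (fun φ _ => mul_self_nonneg (z φ))).mp hrest φ
      (Finset.mem_erase.mpr ⟨hφ, Finset.mem_univ φ⟩)
    exact mul_self_eq_zero.mp this
  have hsum : (∑ φ : IrrCharacter G, (z φ : ℂ) • (φ : G → ℂ)) = (z ψ : ℂ) • (ψ : G → ℂ) := by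
    rw [Finset.sum_eq_single ψ]
    · intro φ _ hφ
      rw [hzero φ hφ]; simp
    · intro hn; exact absurd (Finset.mem_univ ψ) hn
  rw [hsum]
  rcases (mul_self_eq_one_iff.mp hψ2) with h3 | h3
  · left; rw [h3]; simpa using ψ.2
  · right; rw [h3]; simpa using ψ.2

/-- a generalized character of norm two is `ε₁ ψ₁ + ε₂ ψ₂` for distinct irreducible `ψ₁, ψ₂`
and signs `εᵢ = ±1`. -/
theorem exists_two_irr_of_norm_two {θ : G → ℂ} (h : IsGeneralizedCharacter G θ)
    (h2 : classInner θ θ = 2) :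
    ∃ (ψ₁ ψ₂ : G → ℂ) (ε₁ ε₂ : ℤ), IsIrrCharacter G ψ₁ ∧ IsIrrCharacter G ψ₂ ∧ ψ₁ ≠ ψ₂ ∧
      (ε₁ = 1 ∨ ε₁ = -1) ∧ (ε₂ = 1 ∨ ε₂ = -1) ∧ θ = (ε₁ : ℂ) • ψ₁ + (ε₂ : ℂ) • ψ₂ := by
  classical
  letI : Fintype (IrrCharacter G) := Fintype.ofFinite _
  obtain ⟨z, rfl⟩ := exists_int_coeff h
  rw [classInner_int_combo] at h2
  have h3 : ∑ φ : IrrCharacter G, z φ * z φ = 2 := by exact_mod_cast h2
  have hex : ∃ ψ, z ψ ≠ 0 := by
    by_contra hne
    push Not at hne
    simp [hne] at h3
  obtain ⟨ψ₁, hψ₁⟩ := hex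
  have hsplit : z ψ₁ * z ψ₁ + ∑ φ ∈ Finset.univ.erase ψ₁, z φ * z φ = 2 := by
    rw [Finset.add_sum_erase Finset.univ (fun φ => z φ * z φ) (Finset.mem_univ ψ₁)]
    exact h3
  have hnn : 0 ≤ ∑ φ ∈ Finset.univ.erase ψ₁, z φ * z φ :=
    Finset.sum_nonneg (fun φ _ => mul_self_nonneg (z φ))
  have hpos1 : 0 < z ψ₁ * z ψ₁ := mul_self_pos.mpr hψ₁
  -- z ψ₁ ^ 2 is 1 (it cannot be 2)
  have hsq1 : z ψ₁ * z ψ₁ = 1 := by
    have hle : z ψ₁ * z ψ₁ ≤ 2 := by omega
    have habs : |z ψ₁| ≤ 1 := by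
      by_contra hc
      push Not at hc
      have : 2 ≤ |z ψ₁| := hc
      have h4 : 4 ≤ |z ψ₁| * |z ψ₁| := by nlinarith
      rw [abs_mul_abs_self] at h4
      omega
    have : z ψ₁ = 1 ∨ z ψ₁ = -1 ∨ z ψ₁ = 0 := by
      have := abs_le.mp habs
      omega
    rcases this with h | h | h
    · rw [h]; norm_num
    · rw [h]; norm_num
    · exact absurd h hψ₁
  have hrest : ∑ φ ∈ Finset.univ.erase ψ₁, z φ * z φ = 1 := by omega
  have hex2 : ∃ ψ ∈ Finset.univ.erase ψ₁, z ψ ≠ 0 := by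
    by_contra hne
    push Not at hne
    rw [Finset.sum_eq_zero (fun φ hφ => by rw [hne φ hφ, mul_zero])] at hrest
    omega
  obtain ⟨ψ₂, hψ₂m, hψ₂⟩ := hex2
  have hne12 : ψ₂ ≠ ψ₁ := (Finset.mem_erase.mp hψ₂m).1
  have hsplit2 : z ψ₂ * z ψ₂ + ∑ φ ∈ (Finset.univ.erase ψ₁).erase ψ₂, z φ * z φ = 1 := by
    rw [Finset.add_sum_erase _ (fun φ => z φ * z φ) hψ₂m]
    exact hrest
  have hnn2 : 0 ≤ ∑ φ ∈ (Finset.univ.erase ψ₁).erase ψ₂, z φ * z φ :=
    Finset.sum_nonneg (fun φ _ => mul_self_nonneg (z φ))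
  have hpos2 : 0 < z ψ₂ * z ψ₂ := mul_self_pos.mpr hψ₂
  have hsq2 : z ψ₂ * z ψ₂ = 1 := by omega
  have hrest2 : ∑ φ ∈ (Finset.univ.erase ψ₁).erase ψ₂, z φ * z φ = 0 := by omega
  have hzero : ∀ φ, φ ≠ ψ₁ → φ ≠ ψ₂ → z φ = 0 := by
    intro φ hφ1 hφ2
    have := (Finset.sum_eq_zero_iff_of_nonneg (fun φ _ => mul_self_nonneg (z φ))).mp hrest2 φ
      (Finset.mem_erase.mpr ⟨hφ2, Finset.mem_erase.mpr ⟨hφ1, Finset.mem_univ φ⟩⟩)
    exact mul_self_eq_zero.mp this
  refine ⟨ψ₁, ψ₂, z ψ₁, z ψ₂, ψ₁.2, ψ₂.2, fun hh => hne12 (Subtype.ext hh.symm),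
    mul_self_eq_one_iff.mp hsq1, mul_self_eq_one_iff.mp hsq2, ?_⟩
  rw [← Finset.add_sum_erase Finset.univ (fun φ : IrrCharacter G => (z φ : ℂ) • (φ : G → ℂ)) (Finset.mem_univ ψ₁),
    ← Finset.add_sum_erase _ (fun φ : IrrCharacter G => (z φ : ℂ) • (φ : G → ℂ)) hψ₂m]
  rw [Finset.sum_eq_zero, add_zero]
  intro φ hφ
  have hφ2 := (Finset.mem_erase.mp hφ).1
  have hφ1 := (Finset.mem_erase.mp (Finset.mem_erase.mp hφ).2).1
  rw [hzero φ hφ1 hφ2]
  simp

end Norm

end Cfsg.Agent.Lib.Helper34
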