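import Mathlib.GroupTheory.SpecificGroups.Cyclic
import Cfsg.Prelude.Def_OddOrderLocal
import Cfsg.Prelude.Def_Characters
import Cfsg.Agent.Lib.Helper34.Induction

/-!
# Self-normalising cyclic pairs: commutativity, the TI property, induction from `W₁ ⊔ W₂` (helper34)
-/

set_option autoImplicit false

namespace Cfsg.Agent.Lib.Helper34

open Cfsg

section

variable {G : Type*} [Group G]

/-- elements of a cyclic subgroup commute -/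
theorem comm_of_isCyclic (W : Subgroup G) (hc : IsCyclic ↥W) {a b : G} (ha : a ∈ W) (hb : b ∈ W) :
    a * b = b * a := by
  let _ := @IsCyclic.commGroup _ _ hc
  have h := mul_comm (⟨a, ha⟩ : ↥W) ⟨b, hb⟩
  exact congrArg Subtype.val h

/-- in a self-normalising cyclic pair, the centraliser of an element off `W₁ ∪ W₂` is in `W`. -/
theorem selfNormCyclic_centralizer (W₁ W₂ : Subgroup G) (hW : IsSelfNormalizingCyclic W₁ W₂)
    {v g : G} (hv : v ∈ W₁ ⊔ W₂) (hv1 : v ∉ W₁) (hv2 : v ∉ W₂) (hg : g * v = v * g) :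
    g ∈ W₁ ⊔ W₂ := by
  obtain ⟨_, _, _, _, _, hN⟩ := hW
  have h1 : Subgroup.normalizer ({v} : Set G) = W₁ ⊔ W₂ := by
    apply hN
    · intro y hy
      rw [Set.mem_singleton_iff] at hy
      subst hy
      refine ⟨hv, ?_⟩
      rintro (h | h)
      · exact hv1 h
      · exact hv2 h
    · exact Set.singleton_nonempty v
  rw [← h1, Subgroup.mem_set_normalizer_iff]
  intro h
  simp only [Set.mem_singleton_iff]
  constructor
  · rintro rfl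
    rw [hg, mul_inv_cancel_right]
  · intro h2
    have : h = g⁻¹ * v * g := by rw [← h2]; group
    rw [this, mul_assoc, ← hg, inv_mul_cancel_left]

/-- **TI property** of a self-normalising cyclic pair: if `w` and `x⁻¹ w x` both lie in
`W \ (W₁ ∪ W₂)` then `x ∈ W`. -/
theorem selfNormCyclic_TI (W₁ W₂ : Subgroup G) (hW : IsSelfNormalizingCyclic W₁ W₂)
    {w x : G} (hw : w ∈ W₁ ⊔ W₂) (hw1 : w ∉ W₁) (hw2 : w ∉ W₂)
    (hx : x⁻¹ * w * x ∈ W₁ ⊔ W₂) (hx1 : x⁻¹ * w * x ∉ W₁) (hx2 : x⁻¹ * w * x ∉ W₂) :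
    x ∈ W₁ ⊔ W₂ := by
  have hW' := hW
  obtain ⟨_, _, _, _, hcyc, hN⟩ := hW
  -- step 1 and 2: conjugation by x and x⁻¹ preserves W
  have s1 : ∀ y ∈ W₁ ⊔ W₂, x * y * x⁻¹ ∈ W₁ ⊔ W₂ := by
    intro y hy
    apply selfNormCyclic_centralizer W₁ W₂ hW' hw hw1 hw2
    have hc := comm_of_isCyclic _ hcyc hy hx
    calc x * y * x⁻¹ * w = x * (y * (x⁻¹ * w * x)) * x⁻¹ := by group
      _ = x * ((x⁻¹ * w * x) * y) * x⁻¹ := by rw [hc]
      _ = w * (x * y * x⁻¹) := by group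
  have s2 : ∀ y ∈ W₁ ⊔ W₂, x⁻¹ * y * x ∈ W₁ ⊔ W₂ := by
    intro y hy
    apply selfNormCyclic_centralizer W₁ W₂ hW' hx hx1 hx2
    have hc := comm_of_isCyclic _ hcyc hy hw
    calc x⁻¹ * y * x * (x⁻¹ * w * x) = x⁻¹ * (y * w) * x := by group
      _ = x⁻¹ * (w * y) * x := by rw [hc]
      _ = x⁻¹ * w * x * (x⁻¹ * y * x) := by group
  -- step 3: both are power maps
  let σ : ↥(W₁ ⊔ W₂) →* ↥(W₁ ⊔ W₂) :=
    { toFun := fun y => ⟨x * y * x⁻¹, s1 y y.2⟩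
      map_one' := by ext; simp
      map_mul' := by intro a b; ext; simp }
  let σ' : ↥(W₁ ⊔ W₂) →* ↥(W₁ ⊔ W₂) :=
    { toFun := fun y => ⟨x⁻¹ * y * x, s2 y y.2⟩
      map_one' := by ext; simp
      map_mul' := by
        intro a b
        ext
        show x⁻¹ * ((a : G) * (b : G)) * x = x⁻¹ * (a : G) * x * (x⁻¹ * (b : G) * x)
        group }
  obtain ⟨m, hm⟩ := @MonoidHom.map_cyclic _ _ hcyc σ
  obtain ⟨m', hm'⟩ := @MonoidHom.map_cyclic _ _ hcyc σ'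
  have p1 : ∀ y ∈ W₁ ⊔ W₂, x * y * x⁻¹ = y ^ m := by
    intro y hy
    have := congrArg Subtype.val (hm ⟨y, hy⟩)
    simpa [σ] using this
  have p2 : ∀ y ∈ W₁ ⊔ W₂, x⁻¹ * y * x = y ^ m' := by
    intro y hy
    have := congrArg Subtype.val (hm' ⟨y, hy⟩)
    simpa [σ'] using this
  have q1 : ∀ K : Subgroup G, K ≤ W₁ ⊔ W₂ → ∀ y ∈ K, x * y * x⁻¹ ∈ K := by
    intro K hK y hy
    rw [p1 y (hK hy)]
    exact K.zpow_mem hy m
  have q2 : ∀ K : Subgroup G, K ≤ W₁ ⊔ W₂ → ∀ y ∈ K, x⁻¹ * y * x ∈ K := by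
    intro K hK y hy
    rw [p2 y (hK hy)]
    exact K.zpow_mem hy m'
  have back : ∀ h : G, x⁻¹ * (x * h * x⁻¹) * x = h := by intro h; group
  -- step 5: x normalises X
  have hX : Subgroup.normalizer ((↑(W₁ ⊔ W₂) : Set G) \ (↑W₁ ∪ ↑W₂)) = W₁ ⊔ W₂ := by
    apply hN _ subset_rfl
    refine ⟨w, hw, ?_⟩
    rintro (h | h)
    · exact hw1 h
    · exact hw2 h
  rw [← hX, Subgroup.mem_set_normalizer_iff]
  intro h
  simp only [Set.mem_sdiff, SetLike.mem_coe, Set.mem_union, not_or]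
  constructor
  · rintro ⟨hh, hh1, hh2⟩
    refine ⟨s1 h hh, ?_, ?_⟩
    · intro h3
      apply hh1
      rw [← back h]
      exact q2 W₁ le_sup_left _ h3
    · intro h3
      apply hh2
      rw [← back h]
      exact q2 W₂ le_sup_right _ h3
  · rintro ⟨hh, hh1, hh2⟩
    have hh' : h ∈ W₁ ⊔ W₂ := by
      rw [← back h]
      exact s2 _ hh
    refine ⟨hh', ?_, ?_⟩
    · intro h3
      exact hh1 (q1 W₁ le_sup_left _ h3)
    · intro h3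
      exact hh2 (q1 W₂ le_sup_right _ h3)

/-- two linear characters of `W₁ ⊔ W₂` agreeing on `W₁` and on `W₂` are equal -/
theorem hom_ext_sup (W₁ W₂ : Subgroup G) (ω ω' : ↥(W₁ ⊔ W₂) →* ℂˣ)
    (h₁ : ∀ w : ↥(W₁ ⊔ W₂), (w : G) ∈ W₁ → ω w = ω' w)
    (h₂ : ∀ w : ↥(W₁ ⊔ W₂), (w : G) ∈ W₂ → ω w = ω' w) : ω = ω' := by
  let E : Subgroup ↥(W₁ ⊔ W₂) := (MonoidHom.eqLocus ω ω')
  have hle : W₁ ⊔ W₂ ≤ E.map (W₁ ⊔ W₂).subtype := by
    apply sup_le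
    · intro a ha
      have ha' : a ∈ W₁ ⊔ W₂ := (le_sup_left : W₁ ≤ W₁ ⊔ W₂) ha
      exact ⟨⟨a, ha'⟩, h₁ ⟨a, ha'⟩ ha, rfl⟩
    · intro a ha
      have ha' : a ∈ W₁ ⊔ W₂ := (le_sup_right : W₂ ≤ W₁ ⊔ W₂) ha
      exact ⟨⟨a, ha'⟩, h₂ ⟨a, ha'⟩ ha, rfl⟩
  ext w
  obtain ⟨w', hw', hww'⟩ := hle w.2
  have : w' = w := Subtype.ext hww'
  subst this
  exact congrArg Units.val hw'

/-- `φ ψ = ω` with `φ, ω` trivial on `W₂` and `ψ` trivial on `W₁` forces `ψ = 1`. -/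
theorem eq_one_of_mul_eq_right (W₁ W₂ : Subgroup G) (φ ψ ω : ↥(W₁ ⊔ W₂) →* ℂˣ)
    (hφ : ∀ w : ↥(W₁ ⊔ W₂), (w : G) ∈ W₂ → φ w = 1)
    (hψ : ∀ w : ↥(W₁ ⊔ W₂), (w : G) ∈ W₁ → ψ w = 1)
    (hω : ∀ w : ↥(W₁ ⊔ W₂), (w : G) ∈ W₂ → ω w = 1) (h : φ * ψ = ω) : ψ = 1 := by
  apply hom_ext_sup W₁ W₂
  · intro w hw; rw [hψ w hw]; rfl
  · intro w hw
    have h1 := DFunLike.congr_fun h w
    rw [MonoidHom.mul_apply, hφ w hw, hω w hw, one_mul] at h1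
    rw [h1]; rfl

/-- `φ ψ = ω` with `φ` trivial on `W₂` and `ψ, ω` trivial on `W₁` forces `φ = 1`. -/
theorem eq_one_of_mul_eq_left (W₁ W₂ : Subgroup G) (φ ψ ω : ↥(W₁ ⊔ W₂) →* ℂˣ)
    (hφ : ∀ w : ↥(W₁ ⊔ W₂), (w : G) ∈ W₂ → φ w = 1)
    (hψ : ∀ w : ↥(W₁ ⊔ W₂), (w : G) ∈ W₁ → ψ w = 1)
    (hω : ∀ w : ↥(W₁ ⊔ W₂), (w : G) ∈ W₁ → ω w = 1) (h : φ * ψ = ω) : φ = 1 := by
  apply hom_ext_sup W₁ W₂
  · intro w hw
    have h1 := DFunLike.congr_fun h w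
    rw [MonoidHom.mul_apply, hψ w hw, hω w hw, mul_one] at h1
    rw [h1]; rfl
  · intro w hw; rw [hφ w hw]; rfl

/-- `φ ψ = φ' ψ'` iff `φ = φ'` and `ψ = ψ'` (for `φ, φ'` trivial on `W₂`, `ψ, ψ'` trivial on `W₁`). -/
theorem mul_eq_mul_iff (W₁ W₂ : Subgroup G) (φ ψ φ' ψ' : ↥(W₁ ⊔ W₂) →* ℂˣ)
    (hφ : ∀ w : ↥(W₁ ⊔ W₂), (w : G) ∈ W₂ → φ w = 1)
    (hψ : ∀ w : ↥(W₁ ⊔ W₂), (w : G) ∈ W₁ → ψ w = 1)
    (hφ' : ∀ w : ↥(W₁ ⊔ W₂), (w : G) ∈ W₂ → φ' w = 1)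
    (hψ' : ∀ w : ↥(W₁ ⊔ W₂), (w : G) ∈ W₁ → ψ' w = 1) :
    φ * ψ = φ' * ψ' ↔ φ = φ' ∧ ψ = ψ' := by
  constructor
  · intro h
    constructor
    · apply hom_ext_sup W₁ W₂
      · intro w hw
        have h1 := DFunLike.congr_fun h w
        rw [MonoidHom.mul_apply, MonoidHom.mul_apply, hψ w hw, hψ' w hw, mul_one, mul_one] at h1
        exact h1
      · intro w hw
        rw [hφ w hw, hφ' w hw]
    · apply hom_ext_sup W₁ W₂
      · intro w hw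
        rw [hψ w hw, hψ' w hw]
      · intro w hw
        have h1 := DFunLike.congr_fun h w
        rw [MonoidHom.mul_apply, MonoidHom.mul_apply, hφ w hw, hφ' w hw, one_mul, one_mul] at h1
        exact h1
  · rintro ⟨rfl, rfl⟩; rfl

variable [Fintype G]

/-- For a self-normalising cyclic pair, a function on `W = W₁ ⊔ W₂` vanishing on `W₁ ∪ W₂`
induces to a function agreeing with it on `W \ (W₁ ∪ W₂)`. -/
theorem selfNormCyclic_indFun_apply (W₁ W₂ : Subgroup G) (hW : IsSelfNormalizingCyclic W₁ W₂)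
    (α : ↥(W₁ ⊔ W₂) → ℂ)
    (hα : ∀ w : ↥(W₁ ⊔ W₂), ((w : G) ∈ W₁ ∨ (w : G) ∈ W₂) → α w = 0)
    (w : ↥(W₁ ⊔ W₂)) (hw1 : (w : G) ∉ W₁) (hw2 : (w : G) ∉ W₂) :
    indFun (W₁ ⊔ W₂) α w = α w := by
  classical
  rw [indFun_apply]
  have hcyc : IsCyclic ↥(W₁ ⊔ W₂) := hW.2.2.2.2.1
  have h1 : ∀ x : G, extendByZero (W₁ ⊔ W₂) α (x⁻¹ * w * x) =
      if x ∈ W₁ ⊔ W₂ then α w else 0 := by
    intro x
    by_cases hx : x ∈ W₁ ⊔ W₂
    · rw [if_pos hx]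
      have hc := comm_of_isCyclic _ hcyc w.2 hx
      have : x⁻¹ * w * x = w := by rw [mul_assoc, hc, inv_mul_cancel_left]
      rw [this, extendByZero_coe]
    · rw [if_neg hx]
      by_cases hm : x⁻¹ * w * x ∈ W₁ ⊔ W₂
      · rw [extendByZero_apply_mem _ _ hm]
        by_cases hm1 : x⁻¹ * w * x ∈ W₁
        · exact hα ⟨_, hm⟩ (Or.inl hm1)
        by_cases hm2 : x⁻¹ * w * x ∈ W₂
        · exact hα ⟨_, hm⟩ (Or.inr hm2)
        exact absurd (selfNormCyclic_TI W₁ W₂ hW w.2 hw1 hw2 hm hm1 hm2) hx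
      · exact extendByZero_apply_not_mem _ _ hm
  simp only [h1]
  rw [Finset.sum_ite, Finset.sum_const_zero, add_zero, Finset.sum_const, nsmul_eq_mul]
  have hcard : ((Finset.univ.filter (fun x : G => x ∈ W₁ ⊔ W₂)).card : ℂ)
      = (Nat.card ↥(W₁ ⊔ W₂) : ℂ) := by
    congr 1
    rw [Nat.card_eq_fintype_card, Fintype.card_subtype]
  rw [hcard]
  have hne : (Nat.card ↥(W₁ ⊔ W₂) : ℂ) ≠ 0 := by exact_mod_cast Nat.card_pos.ne'
  field_simp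

end

end Cfsg.Agent.Lib.Helper34
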