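import Mathlib
import Cfsg.Prelude.Def_OddOrderLocal
import Cfsg.Prelude.Def_Characters
import Cfsg.Agent.Lib.Helper34.CyclicTI

/-!
# Linear characters of an internal direct product `W₁ ⊔ W₂` (helper34)

For commuting subgroups `W₁, W₂` with trivial intersection: the isomorphism
`W₁ × W₂ ≃* W₁ ⊔ W₂`, the linear character `joinChar ω₁ ω₂` of `W₁ ⊔ W₂` with given restrictions,
bijectivity of `(ω₁, ω₂) ↦ joinChar ω₁ ω₂`, and `|Hom(A, ℂˣ)| = |A|` for commutative subgroups.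
-/

set_option autoImplicit false

namespace Cfsg.Agent.Lib.Helper34

open Cfsg

section

variable {G : Type*} [Group G] (W₁ W₂ : Subgroup G)
  (hcomm : ∀ a ∈ W₁, ∀ b ∈ W₂, a * b = b * a) (hdisj : W₁ ⊓ W₂ = ⊥)

/-- the multiplication map `W₁ × W₂ → G` -/
def mulHom₁₂ : ↥W₁ × ↥W₂ →* G :=
  MonoidHom.noncommCoprod W₁.subtype W₂.subtype (fun a b => hcomm a a.2 b b.2)

theorem mulHom₁₂_apply (p : ↥W₁ × ↥W₂) : mulHom₁₂ W₁ W₂ hcomm p = (p.1 : G) * (p.2 : G) := rfl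

include hdisj in
theorem mulHom₁₂_injective : Function.Injective (mulHom₁₂ W₁ W₂ hcomm) := by
  refine (MonoidHom.noncommCoprod_injective W₁.subtype W₂.subtype
    (fun a b => hcomm a a.2 b b.2)).mpr
    ⟨Subgroup.subtype_injective _, Subgroup.subtype_injective _, ?_⟩
  rw [Subgroup.range_subtype, Subgroup.range_subtype, disjoint_iff, hdisj]

theorem mulHom₁₂_range : (mulHom₁₂ W₁ W₂ hcomm).range = W₁ ⊔ W₂ := by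
  have := MonoidHom.noncommCoprod_range W₁.subtype W₂.subtype (fun a b => hcomm a a.2 b b.2)
  rw [Subgroup.range_subtype, Subgroup.range_subtype] at this
  exact this

/-- `W₁ × W₂ ≃* W₁ ⊔ W₂` -/
noncomputable def prodEquiv : ↥W₁ × ↥W₂ ≃* ↥(W₁ ⊔ W₂) :=
  (MonoidHom.ofInjective (mulHom₁₂_injective W₁ W₂ hcomm hdisj)).trans
    (MulEquiv.subgroupCongr (mulHom₁₂_range W₁ W₂ hcomm))

theorem prodEquiv_coe (p : ↥W₁ × ↥W₂) :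
    ((prodEquiv W₁ W₂ hcomm hdisj p : ↥(W₁ ⊔ W₂)) : G) = (p.1 : G) * (p.2 : G) := rfl

theorem prodEquiv_symm_mul (a : ↥W₁) (b : ↥W₂) (h : (a : G) * (b : G) ∈ W₁ ⊔ W₂) :
    (prodEquiv W₁ W₂ hcomm hdisj).symm ⟨(a : G) * (b : G), h⟩ = (a, b) := by
  rw [MulEquiv.symm_apply_eq]
  apply Subtype.ext
  rw [prodEquiv_coe]

/-- the linear character of `W₁ ⊔ W₂` with restrictions `ω₁`, `ω₂` -/
noncomputable def joinChar (ω₁ : ↥W₁ →* ℂˣ) (ω₂ : ↥W₂ →* ℂˣ) : ↥(W₁ ⊔ W₂) →* ℂˣ :=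
  (ω₁.coprod ω₂).comp (prodEquiv W₁ W₂ hcomm hdisj).symm.toMonoidHom

theorem joinChar_apply (ω₁ : ↥W₁ →* ℂˣ) (ω₂ : ↥W₂ →* ℂˣ) (w : ↥(W₁ ⊔ W₂)) :
    joinChar W₁ W₂ hcomm hdisj ω₁ ω₂ w =
      ω₁ ((prodEquiv W₁ W₂ hcomm hdisj).symm w).1 * ω₂ ((prodEquiv W₁ W₂ hcomm hdisj).symm w).2 :=
  rfl

theorem joinChar_apply_mul (ω₁ : ↥W₁ →* ℂˣ) (ω₂ : ↥W₂ →* ℂˣ) (a : ↥W₁) (b : ↥W₂)
    (h : (a : G) * (b : G) ∈ W₁ ⊔ W₂) :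
    joinChar W₁ W₂ hcomm hdisj ω₁ ω₂ ⟨(a : G) * (b : G), h⟩ = ω₁ a * ω₂ b := by
  rw [joinChar_apply, prodEquiv_symm_mul]

theorem joinChar_apply_left (ω₁ : ↥W₁ →* ℂˣ) (ω₂ : ↥W₂ →* ℂˣ) (w : ↥(W₁ ⊔ W₂))
    (hw : (w : G) ∈ W₁) : joinChar W₁ W₂ hcomm hdisj ω₁ ω₂ w = ω₁ ⟨w, hw⟩ := by
  have h : ((⟨w, hw⟩ : ↥W₁) : G) * ((1 : ↥W₂) : G) ∈ W₁ ⊔ W₂ := by
    simp only [Subgroup.coe_one, mul_one]; exact w.2
  have e : w = ⟨((⟨w, hw⟩ : ↥W₁) : G) * ((1 : ↥W₂) : G), h⟩ := by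
    apply Subtype.ext; simp
  conv_lhs => rw [e]
  rw [joinChar_apply_mul, map_one, mul_one]

theorem joinChar_apply_right (ω₁ : ↥W₁ →* ℂˣ) (ω₂ : ↥W₂ →* ℂˣ) (w : ↥(W₁ ⊔ W₂))
    (hw : (w : G) ∈ W₂) : joinChar W₁ W₂ hcomm hdisj ω₁ ω₂ w = ω₂ ⟨w, hw⟩ := by
  have h : ((1 : ↥W₁) : G) * ((⟨w, hw⟩ : ↥W₂) : G) ∈ W₁ ⊔ W₂ := by
    simp only [Subgroup.coe_one, one_mul]; exact w.2
  have e : w = ⟨((1 : ↥W₁) : G) * ((⟨w, hw⟩ : ↥W₂) : G), h⟩ := by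
    apply Subtype.ext; simp
  conv_lhs => rw [e]
  rw [joinChar_apply_mul, map_one, one_mul]

theorem joinChar_mul (ω₁ : ↥W₁ →* ℂˣ) (ω₂ : ↥W₂ →* ℂˣ) :
    joinChar W₁ W₂ hcomm hdisj ω₁ ω₂ =
      joinChar W₁ W₂ hcomm hdisj ω₁ 1 * joinChar W₁ W₂ hcomm hdisj 1 ω₂ := by
  ext w
  simp [joinChar_apply]

/-- restriction of a linear character of `W₁ ⊔ W₂` to `W₁` -/
def resLeft (ω : ↥(W₁ ⊔ W₂) →* ℂˣ) : ↥W₁ →* ℂˣ :=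
  ω.comp (Subgroup.inclusion (le_sup_left : W₁ ≤ W₁ ⊔ W₂))

/-- restriction of a linear character of `W₁ ⊔ W₂` to `W₂` -/
def resRight (ω : ↥(W₁ ⊔ W₂) →* ℂˣ) : ↥W₂ →* ℂˣ :=
  ω.comp (Subgroup.inclusion (le_sup_right : W₂ ≤ W₁ ⊔ W₂))

theorem resLeft_apply (ω : ↥(W₁ ⊔ W₂) →* ℂˣ) (a : ↥W₁) :
    resLeft W₁ W₂ ω a = ω ⟨a, (le_sup_left : W₁ ≤ W₁ ⊔ W₂) a.2⟩ := rfl

theorem resRight_apply (ω : ↥(W₁ ⊔ W₂) →* ℂˣ) (b : ↥W₂) :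
    resRight W₁ W₂ ω b = ω ⟨b, (le_sup_right : W₂ ≤ W₁ ⊔ W₂) b.2⟩ := rfl

theorem joinChar_res (ω : ↥(W₁ ⊔ W₂) →* ℂˣ) :
    joinChar W₁ W₂ hcomm hdisj (resLeft W₁ W₂ ω) (resRight W₁ W₂ ω) = ω := by
  apply hom_ext_sup W₁ W₂
  · intro w hw
    rw [joinChar_apply_left W₁ W₂ hcomm hdisj _ _ w hw, resLeft_apply]
  · intro w hw
    rw [joinChar_apply_right W₁ W₂ hcomm hdisj _ _ w hw, resRight_apply]

theorem resLeft_joinChar (ω₁ : ↥W₁ →* ℂˣ) (ω₂ : ↥W₂ →* ℂˣ) :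
    resLeft W₁ W₂ (joinChar W₁ W₂ hcomm hdisj ω₁ ω₂) = ω₁ := by
  ext a
  rw [resLeft_apply, joinChar_apply_left W₁ W₂ hcomm hdisj ω₁ ω₂ _ a.2]

theorem resRight_joinChar (ω₁ : ↥W₁ →* ℂˣ) (ω₂ : ↥W₂ →* ℂˣ) :
    resRight W₁ W₂ (joinChar W₁ W₂ hcomm hdisj ω₁ ω₂) = ω₂ := by
  ext b
  rw [resRight_apply, joinChar_apply_right W₁ W₂ hcomm hdisj ω₁ ω₂ _ b.2]

/-- the linear characters of `W₁ ⊔ W₂` are the pairs of linear characters of `W₁` and `W₂` -/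
noncomputable def joinEquiv : (↥W₁ →* ℂˣ) × (↥W₂ →* ℂˣ) ≃ (↥(W₁ ⊔ W₂) →* ℂˣ) where
  toFun p := joinChar W₁ W₂ hcomm hdisj p.1 p.2
  invFun ω := (resLeft W₁ W₂ ω, resRight W₁ W₂ ω)
  left_inv p := by
    apply Prod.ext
    · exact resLeft_joinChar W₁ W₂ hcomm hdisj p.1 p.2
    · exact resRight_joinChar W₁ W₂ hcomm hdisj p.1 p.2
  right_inv ω := joinChar_res W₁ W₂ hcomm hdisj ω

end

section

variable {G : Type*} [Group G]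

/-- a finite subgroup with commuting elements has as many linear characters as elements -/
theorem card_linChar_of_comm (A : Subgroup G) [Finite A] (hA : ∀ a ∈ A, ∀ b ∈ A, a * b = b * a) :
    Nat.card (↥A →* ℂˣ) = Nat.card A := by
  letI : CommGroup ↥A :=
    { (inferInstance : Group ↥A) with
      mul_comm := fun a b => Subtype.ext (hA a a.2 b b.2) }
  have hne : NeZero (Monoid.exponent ↥A) := ⟨Monoid.exponent_ne_zero_of_finite⟩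
  exact CommGroup.card_monoidHom_of_hasEnoughRootsOfUnity ↥A ℂ

end

end Cfsg.Agent.Lib.Helper34
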