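import Mathlib
import Cfsg.Prelude.Def_OddOrderChar
import Cfsg.Prelude.Def_OddOrderLocal
import Cfsg.Agent.Lib.Helper34.Induction
import Cfsg.Agent.Lib.Helper34.CyclicTI
import Cfsg.Agent.Lib.Helper34.CyclicDual
import Cfsg.Agent.Lib.Helper83.Orthogonality
import Cfsg.Agent.Lib.Helper83.CharBasic
import Cfsg.Agent.S1506

/-!
# Uniqueness of the family of characters attached to a self-normalising cyclic pair (helper34)

* `PmIrr α` : `α` is an irreducible character or the negative of one.
* `comb2` : a function `f x + g y` on a grid with both sides of size at least three and at most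
  two nonzero values vanishes.
* `cyclicTIFamily_unique` : two families for the same pair `(W₁, W₂)` coincide.
-/

set_option autoImplicit false

namespace Cfsg.Agent.Lib.Helper34

open scoped ComplexConjugate
open Cfsg

section PmIrr

variable {G : Type*} [Group G] [Fintype G]

/-- an irreducible character up to sign -/
def PmIrr (α : G → ℂ) : Prop := IsIrrCharacter G α ∨ IsIrrCharacter G (-α)

theorem PmIrr.neg {α : G → ℂ} (h : PmIrr α) : PmIrr (-α) := by
  rcases h with h | h
  · right; rwa [neg_neg]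
  · left; exact h

theorem PmIrr.isClassFunction {α : G → ℂ} (h : PmIrr α) : IsClassFunction G α := by
  rcases h with h | h
  · exact Helper83.char_isClassFunction (Helper83.isCharacter_of_irr h)
  · have := Helper83.char_isClassFunction (Helper83.isCharacter_of_irr h)
    intro g x
    have h1 := this g x
    simp only [Pi.neg_apply] at h1
    exact neg_injective h1

theorem irr_eq_of_inner_ne_zero {α β : G → ℂ} (hα : IsIrrCharacter G α) (hβ : IsIrrCharacter G β)
    (h : classInner α β ≠ 0) : α = β := by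
  classical
  have := Helper83.irr_orthonormal (⟨α, hα⟩ : IrrCharacter G) ⟨β, hβ⟩
  simp only at this
  by_contra hne
  rw [if_neg (fun h' => hne (congrArg Subtype.val h'))] at this
  exact h this

theorem PmIrr.eq_or_eq_neg {α β : G → ℂ} (hα : PmIrr α) (hβ : PmIrr β)
    (h : classInner α β ≠ 0) : α = β ∨ α = -β := by
  rcases hα with hα | hα <;> rcases hβ with hβ | hβ
  · left; exact irr_eq_of_inner_ne_zero hα hβ h
  · right
    have : classInner α (-β) ≠ 0 := by rw [classInner_neg_right]; exact neg_ne_zero.mpr h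
    exact irr_eq_of_inner_ne_zero hα hβ this
  · right
    have : classInner (-α) β ≠ 0 := by rw [classInner_neg_left]; exact neg_ne_zero.mpr h
    have := irr_eq_of_inner_ne_zero hα hβ this
    rw [← this, neg_neg]
  · left
    have : classInner (-α) (-β) ≠ 0 := by rw [classInner_neg_left, classInner_neg_right, neg_neg]; exact h
    exact neg_injective (irr_eq_of_inner_ne_zero hα hβ this)

theorem PmIrr.inner_self {α : G → ℂ} (hα : PmIrr α) : classInner α α = 1 := by
  rcases hα with hα | hα
  · exact Helper83.irr_inner_self ⟨α, hα⟩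
  · have := Helper83.irr_inner_self ⟨-α, hα⟩
    simpa [classInner_neg_left, classInner_neg_right] using this

theorem PmIrr.eq_of_inner_eq_one {α β : G → ℂ} (hα : PmIrr α) (hβ : PmIrr β)
    (h : classInner α β = 1) : α = β := by
  rcases hα.eq_or_eq_neg hβ (by rw [h]; exact one_ne_zero) with h1 | h1
  · exact h1
  · exfalso
    rw [h1, classInner_neg_left, hβ.inner_self] at h
    norm_num at h

end PmIrr

section Comb

/-- a function `f x + g y` on a grid with both sides of size at least three and at most two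
nonzero values vanishes identically -/
theorem comb2 {α β : Type*} [Fintype α] [Fintype β] [DecidableEq α] [DecidableEq β]
    (f : α → ℂ) (g : β → ℂ) (hα : 3 ≤ Fintype.card α) (hβ : 3 ≤ Fintype.card β)
    (hfew : (Finset.univ.filter (fun p : α × β => f p.1 + g p.2 ≠ 0)).card ≤ 2) :
    ∀ x y, f x + g y = 0 := by
  classical
  intro x₀ y₀
  by_contra hne
  set NZ := Finset.univ.filter (fun p : α × β => f p.1 + g p.2 ≠ 0) with hNZ
  have hmem : (x₀, y₀) ∈ NZ := by simp [hNZ, hne]
  set rest := NZ.erase (x₀, y₀) with hrest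
  have hrc : rest.card ≤ 1 := by
    rw [hrest, Finset.card_erase_of_mem hmem]; omega
  -- choose x' and y'
  have hx : ∃ x', x' ∉ insert x₀ (rest.image Prod.fst) := by
    by_contra hall
    push Not at hall
    have : Finset.univ ⊆ insert x₀ (rest.image Prod.fst) := fun a _ => hall a
    have h1 := Finset.card_le_card this
    have h2 : (insert x₀ (rest.image Prod.fst)).card ≤ 2 :=
      (Finset.card_insert_le _ _).trans (by
        have := Finset.card_image_le (s := rest) (f := Prod.fst); omega)
    rw [Finset.card_univ] at h1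
    omega
  have hy : ∃ y', y' ∉ insert y₀ (rest.image Prod.snd) := by
    by_contra hall
    push Not at hall
    have : Finset.univ ⊆ insert y₀ (rest.image Prod.snd) := fun a _ => hall a
    have h1 := Finset.card_le_card this
    have h2 : (insert y₀ (rest.image Prod.snd)).card ≤ 2 :=
      (Finset.card_insert_le _ _).trans (by
        have := Finset.card_image_le (s := rest) (f := Prod.snd); omega)
    rw [Finset.card_univ] at h1
    omega
  obtain ⟨x', hx'⟩ := hx
  obtain ⟨y', hy'⟩ := hy
  rw [Finset.mem_insert, not_or] at hx' hy'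
  have hz : ∀ p : α × β, p ≠ (x₀, y₀) → p ∉ rest → f p.1 + g p.2 = 0 := by
    intro p hp hpr
    by_contra h
    apply hpr
    rw [hrest, Finset.mem_erase]
    exact ⟨hp, by simp [hNZ, h]⟩
  have h1 : f x₀ + g y' = 0 := hz (x₀, y') (by
    intro h; exact hy'.1 (Prod.ext_iff.mp h).2) (by
    intro h; exact hy'.2 (Finset.mem_image_of_mem Prod.snd h))
  have h2 : f x' + g y₀ = 0 := hz (x', y₀) (by
    intro h; exact hx'.1 (Prod.ext_iff.mp h).1) (by
    intro h; exact hx'.2 (Finset.mem_image_of_mem Prod.fst h))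
  have h3 : f x' + g y' = 0 := hz (x', y') (by
    intro h; exact hx'.1 (Prod.ext_iff.mp h).1) (by
    intro h; exact hx'.2 (Finset.mem_image_of_mem Prod.fst h))
  apply hne
  linear_combination h1 + h2 - h3

end Comb

section Unique

variable {G : Type*} [Group G] [Fintype G] (W₁ W₂ : Subgroup G)

/-- **Uniqueness** of the family attached to a self-normalising cyclic pair of odd order. -/
theorem cyclicTIFamily_unique (hW : IsSelfNormalizingCyclic W₁ W₂)
    (hodd : Odd (Nat.card ↥(W₁ ⊔ W₂))) (χ χ' : (↥(W₁ ⊔ W₂) →* ℂˣ) → (G → ℂ))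
    (hχ : IsCyclicTIFamily W₁ W₂ χ) (hχ' : IsCyclicTIFamily W₁ W₂ χ') : χ' = χ := by
  classical
  obtain ⟨hW₁ne, hW₂ne, hdisj, hcomm, hcyc, hnorm⟩ := hW
  set J := joinEquiv W₁ W₂ hcomm hdisj with hJ
  letI : Fintype (↥W₁ →* ℂˣ) := Fintype.ofFinite _
  letI : Fintype (↥W₂ →* ℂˣ) := Fintype.ofFinite _
  have hJapp : ∀ x y, J (x, y) = joinChar W₁ W₂ hcomm hdisj x y := fun x y => rfl
  have hc₁ : Fintype.card (↥W₁ →* ℂˣ) = Nat.card W₁ := by
    rw [← Nat.card_eq_fintype_card]
    exact card_linChar_of_comm W₁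
      (fun a ha b hb => comm_of_isCyclic _ hcyc (Subgroup.mem_sup_left ha) (Subgroup.mem_sup_left hb))
  have hc₂ : Fintype.card (↥W₂ →* ℂˣ) = Nat.card W₂ := by
    rw [← Nat.card_eq_fintype_card]
    exact card_linChar_of_comm W₂
      (fun a ha b hb => comm_of_isCyclic _ hcyc (Subgroup.mem_sup_right ha)
        (Subgroup.mem_sup_right hb))
  have hge : ∀ A : Subgroup G, A ≤ W₁ ⊔ W₂ → A ≠ ⊥ → 3 ≤ Nat.card A := by
    intro A hA hne
    have hdvd : Nat.card A ∣ Nat.card ↥(W₁ ⊔ W₂) := Subgroup.card_dvd_of_le hA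
    obtain ⟨k, hk⟩ := Odd.of_dvd_nat hodd hdvd
    have h1 : Nat.card A ≠ 1 := by
      intro h; exact hne (Subgroup.card_eq_one.mp h)
    omega
  have h3₁ : 3 ≤ Fintype.card (↥W₁ →* ℂˣ) := by rw [hc₁]; exact hge W₁ le_sup_left hW₁ne
  have h3₂ : 3 ≤ Fintype.card (↥W₂ →* ℂˣ) := by rw [hc₂]; exact hge W₂ le_sup_right hW₂ne
  funext ω₀
  have hp : PmIrr (χ ω₀) := hχ.irr_or_neg ω₀
  have hp' : PmIrr (χ' ω₀) := hχ'.irr_or_neg ω₀
  set θ : G → ℂ := χ' ω₀ - χ ω₀ with hθdef
  have hθ : IsClassFunction G θ := by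
    intro g x
    simp only [hθdef, Pi.sub_apply, hp.isClassFunction g x, hp'.isClassFunction g x]
  have hθV : ∀ w : ↥(W₁ ⊔ W₂), (w : G) ∉ W₁ → (w : G) ∉ W₂ → θ w = 0 := by
    intro w h1 h2
    simp only [hθdef, Pi.sub_apply, hχ.eq_on ω₀ w h1 h2, hχ'.eq_on ω₀ w h1 h2, sub_self]
  set a : (↥(W₁ ⊔ W₂) →* ℂˣ) → ℂ := fun ω => classInner θ (χ ω) with ha
  set f : (↥W₁ →* ℂˣ) → ℂ := fun x => a (J (x, 1)) - a 1 with hf
  set g : (↥W₂ →* ℂˣ) → ℂ := fun y => a (J (1, y)) with hg
  have hfg : ∀ x y, a (J (x, y)) = f x + g y := by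
    intro x y
    have hkey := Cfsg.Agent.S1506.key W₁ W₂ χ hχ θ hθ hθV (J (x, 1)) (J (1, y))
      (fun w hw => by rw [hJapp, joinChar_apply_right W₁ W₂ hcomm hdisj x 1 w hw]; rfl)
      (fun w hw => by rw [hJapp, joinChar_apply_left W₁ W₂ hcomm hdisj 1 y w hw]; rfl)
    have hmul : J (x, y) = J (x, 1) * J (1, y) := by
      rw [hJapp, hJapp, hJapp]
      exact joinChar_mul W₁ W₂ hcomm hdisj x y
    simp only [ha, hf, hg]
    rw [hmul, hkey]
    ring
  -- at most two nonzero values
  have ha_eq : ∀ ω, a ω = classInner (χ' ω₀) (χ ω) - (if ω₀ = ω then 1 else 0) := by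
    intro ω
    simp only [ha, hθdef]
    rw [classInner_sub_left, hχ.orthonormal]
    congr
  have hfew : (Finset.univ.filter
      (fun p : (↥W₁ →* ℂˣ) × (↥W₂ →* ℂˣ) => f p.1 + g p.2 ≠ 0)).card ≤ 2 := by
    by_cases hex : ∃ ω₁, classInner (χ' ω₀) (χ ω₁) ≠ 0
    · obtain ⟨ω₁, hω₁⟩ := hex
      have hsub : Finset.univ.filter
          (fun p : (↥W₁ →* ℂˣ) × (↥W₂ →* ℂˣ) => f p.1 + g p.2 ≠ 0) ⊆
          {J.symm ω₀, J.symm ω₁} := by
        intro p hp
        rw [Finset.mem_filter] at hp
        have h1 := hp.2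
        rw [← hfg, ha_eq] at h1
        rw [Finset.mem_insert, Finset.mem_singleton]
        by_cases h0 : ω₀ = J (p.1, p.2)
        · left; rw [h0]; simp
        · right
          rw [if_neg h0, sub_zero] at h1
          -- `χ (J p)` and `χ ω₁` both meet `χ' ω₀`
          have hpm := hχ.irr_or_neg
          have e1 := PmIrr.eq_or_eq_neg hp' (hpm (J (p.1, p.2))) h1
          have e2 := PmIrr.eq_or_eq_neg hp' (hpm ω₁) hω₁
          have hne0 : classInner (χ (J (p.1, p.2))) (χ ω₁) ≠ 0 := by
            have hs := PmIrr.inner_self hp'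
            rcases e1 with e1 | e1 <;> rcases e2 with e2 | e2
            · rw [← e1, ← e2, hs]; exact one_ne_zero
            · have : χ ω₁ = -χ' ω₀ := by rw [e2, neg_neg]
              rw [← e1, this, classInner_neg_right, hs]; norm_num
            · have : χ (J (p.1, p.2)) = -χ' ω₀ := by rw [e1, neg_neg]
              rw [this, ← e2, classInner_neg_left, hs]; norm_num
            · have h5 : χ (J (p.1, p.2)) = -χ' ω₀ := by rw [e1, neg_neg]
              have h6 : χ ω₁ = -χ' ω₀ := by rw [e2, neg_neg]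
              rw [h5, h6, classInner_neg_left, classInner_neg_right, hs]; norm_num
          rw [hχ.orthonormal] at hne0
          have : J (p.1, p.2) = ω₁ := by
            by_contra hh
            rw [if_neg hh] at hne0
            exact hne0 rfl
          rw [← this]; simp
      exact (Finset.card_le_card hsub).trans (Finset.card_le_two)
    · push Not at hex
      have hsub : Finset.univ.filter
          (fun p : (↥W₁ →* ℂˣ) × (↥W₂ →* ℂˣ) => f p.1 + g p.2 ≠ 0) ⊆ {J.symm ω₀} := by
        intro p hp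
        rw [Finset.mem_filter] at hp
        have h1 := hp.2
        rw [← hfg, ha_eq, hex, zero_sub] at h1
        rw [Finset.mem_singleton]
        by_cases h0 : ω₀ = J (p.1, p.2)
        · rw [h0]; simp
        · rw [if_neg h0, neg_zero] at h1
          exact absurd rfl h1
      exact (Finset.card_le_card hsub).trans (by simp)
  have hzero := comb2 f g h3₁ h3₂ hfew
  have h0 : a ω₀ = 0 := by
    have := hfg (J.symm ω₀).1 (J.symm ω₀).2
    rw [Prod.mk.eta, J.apply_symm_apply] at this
    rw [this, hzero]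
  rw [ha_eq, if_pos rfl, sub_eq_zero] at h0
  exact PmIrr.eq_of_inner_eq_one hp' hp h0

end Unique

end Cfsg.Agent.Lib.Helper34
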