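import Mathlib
import Cfsg.Prelude.Def_OddOrderChar
import Cfsg.Prelude.Def_OddOrderLocal
import Cfsg.Agent.Lib.Helper34.Induction
import Cfsg.Agent.Lib.Helper34.CyclicTIUnique
import Cfsg.Agent.Lib.Helper80.GaloisChar

/-!
# Galois conjugates of the family attached to a self-normalising cyclic pair (helper34)

* `indFun_pow_coprime` : `(Ind β)(x ^ k) = (Ind (β ∘ (· ^ k)))(x)` for `k` coprime to `|G|`.
* `twist_isCyclicTIFamily` : `ω ↦ (x ↦ χ (ω ^ l) (x ^ k))` is again a family when `k l ≡ 1`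
  modulo `|W|`.
* `cyclicTI_apply_pow` : `χ ω (x ^ k) = χ ω x` when moreover `k ≡ 1` modulo the order of `ω`.
-/

set_option autoImplicit false

namespace Cfsg.Agent.Lib.Helper34

open scoped ComplexConjugate
open Cfsg

section Twist

variable {G : Type*} [Group G] [Fintype G]

/-- induction commutes with coprime power maps -/
theorem indFun_pow_coprime (H : Subgroup G) (β : H → ℂ) (k : ℕ) (hk : k.Coprime (Nat.card G))
    (x : G) : indFun H β (x ^ k) = indFun H (fun h => β (h ^ k)) x := by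
  classical
  rw [indFun_apply, indFun_apply]
  congr 1
  apply Finset.sum_congr rfl
  intro y _
  have hconj : y⁻¹ * x ^ k * y = (y⁻¹ * x * y) ^ k := by
    have := conj_pow (a := y⁻¹) (b := x) (i := k)
    rw [inv_inv] at this
    exact this.symm
  rw [hconj]
  by_cases ht : y⁻¹ * x * y ∈ H
  · rw [extendByZero_apply_mem H _ (H.pow_mem ht k), extendByZero_apply_mem H _ ht]
    rfl
  · have hnot : (y⁻¹ * x * y) ^ k ∉ H := by
      intro h
      apply ht
      obtain ⟨m, hm⟩ := exists_pow_eq_self_of_coprime (x := y⁻¹ * x * y) (n := k)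
        (Nat.Coprime.coprime_dvd_right (orderOf_dvd_natCard _) hk)
      rw [← hm]
      exact H.pow_mem h m
    rw [extendByZero_apply_not_mem H _ hnot, extendByZero_apply_not_mem H _ ht]

theorem classInner_pow_coprime (α β : G → ℂ) (k : ℕ) (hk : k.Coprime (Nat.card G)) :
    classInner (fun x => α (x ^ k)) (fun x => β (x ^ k)) = classInner α β := by
  rw [classInner_def, classInner_def]
  congr 1
  exact Equiv.sum_comp (powCoprime hk.symm) (fun x => α x * conj (β x))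

variable (W₁ W₂ : Subgroup G)

omit [Fintype G] in
theorem linChar_pow_pow [Finite G] (ω : ↥(W₁ ⊔ W₂) →* ℂˣ) (k l : ℕ)
    (hkl : k * l ≡ 1 [MOD Nat.card ↥(W₁ ⊔ W₂)]) : (ω ^ l) ^ k = ω := by
  ext w
  rw [MonoidHom.pow_apply, MonoidHom.pow_apply, ← pow_mul, mul_comm]
  have hcard : (ω w) ^ Nat.card ↥(W₁ ⊔ W₂) = 1 := by
    rw [← map_pow, pow_card_eq_one', map_one]
  have hdvd : orderOf (ω w) ∣ Nat.card ↥(W₁ ⊔ W₂) := orderOf_dvd_of_pow_eq_one hcard
  have : (ω w) ^ (k * l) = (ω w) ^ 1 := by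
    rw [pow_eq_pow_iff_modEq]
    exact hkl.of_dvd hdvd
  rw [this, pow_one]

/-- the Galois-twisted family -/
theorem twist_isCyclicTIFamily (χ : (↥(W₁ ⊔ W₂) →* ℂˣ) → (G → ℂ))
    (hχ : IsCyclicTIFamily W₁ W₂ χ) (k l : ℕ) (hk : k.Coprime (Nat.card G))
    (hkl : k * l ≡ 1 [MOD Nat.card ↥(W₁ ⊔ W₂)]) :
    IsCyclicTIFamily W₁ W₂ (fun ω x => χ (ω ^ l) (x ^ k)) := by
  classical
  have hpp := fun ω => linChar_pow_pow W₁ W₂ ω k l hkl
  have happ : ∀ (ω : ↥(W₁ ⊔ W₂) →* ℂˣ) (w : ↥(W₁ ⊔ W₂)), (ω ^ l) (w ^ k) = ω w := by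
    intro ω w
    rw [map_pow, ← MonoidHom.pow_apply, hpp]
  have hinj : ∀ ω ω' : ↥(W₁ ⊔ W₂) →* ℂˣ, ω ^ l = ω' ^ l ↔ ω = ω' := by
    intro ω ω'
    constructor
    · intro h
      rw [← hpp ω, ← hpp ω', h]
    · intro h; rw [h]
  refine ⟨?_, ?_, ?_, ?_, ?_⟩
  · intro ω
    rcases hχ.irr_or_neg (ω ^ l) with h | h
    · left
      exact Helper80.isIrrCharacter_pow_coprime h k hk
    · right
      exact Helper80.isIrrCharacter_pow_coprime h k hk
  · intro ω ω'
    rw [classInner_pow_coprime _ _ k hk, hχ.orthonormal]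
    by_cases h : ω = ω'
    · rw [if_pos h, if_pos ((hinj ω ω').mpr h)]
    · rw [if_neg h, if_neg (fun h' => h ((hinj ω ω').mp h'))]
  · funext x
    show χ (1 ^ l) (x ^ k) = 1
    have h1 : (1 : ↥(W₁ ⊔ W₂) →* ℂˣ) ^ l = 1 := by ext w; simp
    rw [h1, hχ.map_one]
  · intro ω w h1 h2
    show χ (ω ^ l) ((w : G) ^ k) = (ω w : ℂ)
    have hcop : k.Coprime (orderOf (w : G)) :=
      Nat.Coprime.coprime_dvd_right (orderOf_dvd_natCard _) hk
    obtain ⟨m, hm⟩ := exists_pow_eq_self_of_coprime (x := (w : G)) (n := k) hcop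
    have hcoe : ((w ^ k : ↥(W₁ ⊔ W₂)) : G) = (w : G) ^ k := Subgroup.coe_pow _ _ _
    have h1' : ((w ^ k : ↥(W₁ ⊔ W₂)) : G) ∉ W₁ := by
      intro h
      apply h1
      rw [← hm, ← hcoe]
      exact W₁.pow_mem h m
    have h2' : ((w ^ k : ↥(W₁ ⊔ W₂)) : G) ∉ W₂ := by
      intro h
      apply h2
      rw [← hm, ← hcoe]
      exact W₂.pow_mem h m
    rw [← hcoe, hχ.eq_on (ω ^ l) (w ^ k) h1' h2', happ]
  · intro φ ψ hφ hψ hφ₂ hψ₁
    have hφl : φ ^ l ≠ 1 := by
      intro h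
      apply hφ
      rw [← hpp φ, h]
      ext w; simp
    have hψl : ψ ^ l ≠ 1 := by
      intro h
      apply hψ
      rw [← hpp ψ, h]
      ext w; simp
    have h := hχ.induced_eq (φ ^ l) (ψ ^ l) hφl hψl
      (fun w hw => by rw [MonoidHom.pow_apply, hφ₂ w hw, one_pow])
      (fun w hw => by rw [MonoidHom.pow_apply, hψ₁ w hw, one_pow])
    funext x
    have h1 := congrFun h (x ^ k)
    rw [indFun_pow_coprime _ _ k hk] at h1
    simp only [happ] at h1
    have h2 : (φ * ψ) ^ l = φ ^ l * ψ ^ l := by ext w; simp [mul_pow]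
    rw [h1, h2]

end Twist

end Cfsg.Agent.Lib.Helper34
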