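import Mathlib
import Cfsg.Prelude.Def_Characters
import Cfsg.Agent.Lib.Helper83.SecondOrth
import Cfsg.Agent.Lib.Helper83.Quotient
import Cfsg.Agent.Lib.Helper83.Orthogonality
import Cfsg.Agent.Lib.Helper34.Induction

/-!
# Sums over the irreducible characters whose kernel contains a normal subgroup (helper34)

For a normal subgroup `N` of a finite group `G`:

* `sum_irr_kerGe_degree_mul` : `∑_{χ, N ≤ ker χ} χ(1) χ(g) = [G:N]` if `g ∈ N`, `0` otherwise
  (the regular character of `G/N`, without quotient groups).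
* `sum_irr_kerGe_degree_sq` : `∑_{χ, N ≤ ker χ} χ(1)² = [G:N]`.
* `sum_irr_kerGe_degree_inner` : `∑_{χ, N ≤ ker χ} χ(1) ⟨χ, φ⟩ = conj φ(1)` when `φ = φ(1)` on `N`.
-/

set_option autoImplicit false

namespace Cfsg.Agent.Lib.Helper34

open scoped ComplexConjugate
open Cfsg

section KerSum

variable {G : Type*} [Group G] [Fintype G] [Fintype (IrrCharacter G)]

/-- `N` lies in the kernel of the function `χ` -/
def KerGe (N : Subgroup G) (χ : G → ℂ) : Prop := ∀ n ∈ N, χ n = χ 1

open Classical in
/-- the regular character of `G/N`, as a sum over the irreducible characters of `G` with `N` in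
the kernel -/
theorem sum_irr_kerGe_degree_mul (N : Subgroup G) [N.Normal] (g : G) :
    ∑ χ : IrrCharacter G, (if KerGe N (χ : G → ℂ) then (χ : G → ℂ) 1 * (χ : G → ℂ) g else 0) =
      if g ∈ N then (N.index : ℂ) else 0 := by
  letI : Fintype N := Fintype.ofFinite N
  have hNne : (Nat.card N : ℂ) ≠ 0 := by exact_mod_cast Nat.card_pos.ne'
  have h1 : ∑ n : N, ∑ χ : IrrCharacter G, (χ : G → ℂ) 1 * (χ : G → ℂ) (g * n) =
      if g ∈ N then (Nat.card G : ℂ) else 0 := by
    simp_rw [Helper83.sum_irr_degree_mul]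
    split_ifs with hg
    · rw [Finset.sum_eq_single (⟨g⁻¹, N.inv_mem hg⟩ : N)]
      · simp
      · intro b _ hb
        rw [if_neg]
        intro h
        apply hb
        apply Subtype.ext
        simp only
        exact (eq_inv_of_mul_eq_one_right h)
      · intro h; exact absurd (Finset.mem_univ _) h
    · apply Finset.sum_eq_zero
      intro b _
      rw [if_neg]
      intro h
      apply hg
      have : g = (b : G)⁻¹ := eq_inv_of_mul_eq_one_left h
      rw [this]
      exact N.inv_mem b.2
  have h3 : ∀ χ : IrrCharacter G, ∑ n : N, (χ : G → ℂ) (g * n) =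
      if KerGe N (χ : G → ℂ) then (Nat.card N : ℂ) * (χ : G → ℂ) g else 0 := by
    intro χ
    split_ifs with h
    · have : ∀ n : N, (χ : G → ℂ) (g * n) = (χ : G → ℂ) g := fun n =>
        Helper83.char_mul_of_mem_ker' (Helper83.isCharacter_of_irr χ.2) (h n n.2) g
      simp only [this, Finset.sum_const, Finset.card_univ, nsmul_eq_mul]
      rw [← Nat.card_eq_fintype_card]
    · apply Helper83.irr_sum_coset_eq_zero χ N
      unfold KerGe at h
      push Not at h
      exact h
  rw [Finset.sum_comm] at h1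
  simp_rw [← Finset.mul_sum, h3] at h1
  have h4 : ∑ χ : IrrCharacter G, (χ : G → ℂ) 1 *
      (if KerGe N (χ : G → ℂ) then (Nat.card N : ℂ) * (χ : G → ℂ) g else 0) =
      (Nat.card N : ℂ) * ∑ χ : IrrCharacter G,
        (if KerGe N (χ : G → ℂ) then (χ : G → ℂ) 1 * (χ : G → ℂ) g else 0) := by
    rw [Finset.mul_sum]
    apply Finset.sum_congr rfl
    intro χ _
    split_ifs <;> ring
  rw [h4] at h1
  have hidx : (Nat.card G : ℂ) = (Nat.card N : ℂ) * (N.index : ℂ) := by
    rw [← Subgroup.card_mul_index N]; push_cast; ring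
  split_ifs with hg
  · rw [if_pos hg, hidx] at h1
    exact mul_left_cancel₀ hNne h1
  · rw [if_neg hg] at h1
    exact (mul_eq_zero.mp h1).resolve_left hNne

open Classical in
theorem sum_irr_kerGe_degree_sq (N : Subgroup G) [N.Normal] :
    ∑ χ : IrrCharacter G, (if KerGe N (χ : G → ℂ) then ((χ : G → ℂ) 1) ^ 2 else 0) =
      (N.index : ℂ) := by
  have h := sum_irr_kerGe_degree_mul N (1 : G)
  rw [if_pos N.one_mem] at h
  rw [← h]
  apply Finset.sum_congr rfl
  intro χ _
  split_ifs <;> ring

open Classical in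
/-- inner product with the regular character of `G/N` -/
theorem sum_irr_kerGe_degree_inner (N : Subgroup G) [N.Normal] (φ : G → ℂ)
    (hφ : ∀ n ∈ N, φ n = φ 1) :
    ∑ χ : IrrCharacter G,
      (if KerGe N (χ : G → ℂ) then (χ : G → ℂ) 1 * classInner (χ : G → ℂ) φ else 0) =
      conj (φ 1) := by
  letI : Fintype N := Fintype.ofFinite N
  have hGne : (Nat.card G : ℂ) ≠ 0 := by exact_mod_cast Nat.card_pos.ne'
  have h1 : ∀ χ : IrrCharacter G,
      (if KerGe N (χ : G → ℂ) then (χ : G → ℂ) 1 * classInner (χ : G → ℂ) φ else 0) =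
      (Nat.card G : ℂ)⁻¹ * ∑ g : G,
        (if KerGe N (χ : G → ℂ) then (χ : G → ℂ) 1 * (χ : G → ℂ) g else 0) * conj (φ g) := by
    intro χ
    split_ifs with h
    · rw [classInner_def, Finset.mul_sum, Finset.mul_sum, Finset.mul_sum]
      apply Finset.sum_congr rfl
      intro g _
      ring
    · simp
  simp_rw [h1]
  rw [← Finset.mul_sum, Finset.sum_comm]
  simp_rw [← Finset.sum_mul, sum_irr_kerGe_degree_mul N]
  have h2 : ∀ g : G, (if g ∈ N then (N.index : ℂ) else 0) * conj (φ g) =
      if g ∈ N then (N.index : ℂ) * conj (φ 1) else 0 := by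
    intro g
    split_ifs with hg
    · rw [hφ g hg]
    · simp
  simp_rw [h2]
  rw [← Helper83.sum_subgroup_eq_sum_ite N (fun _ => (N.index : ℂ) * conj (φ 1))]
  simp only [Finset.sum_const, Finset.card_univ, nsmul_eq_mul]
  rw [← Nat.card_eq_fintype_card, ← Subgroup.card_mul_index N]
  have hNne : (Nat.card N : ℂ) ≠ 0 := by exact_mod_cast Nat.card_pos.ne'
  have hIne : (N.index : ℂ) ≠ 0 := by
    have : N.index ≠ 0 := Subgroup.index_ne_zero_of_finite
    exact_mod_cast this
  push_cast
  field_simp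

end KerSum

end Cfsg.Agent.Lib.Helper34
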