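import Cfsg.Agent.Lib.Helper98.Sy1
import Cfsg.Agent.Lib.Helper50.TypeCriteria
import Cfsg.Agent.Lib.Helper50.GeoBridge
import Cfsg.Agent.Lib.Helper50.PlusForm
import Cfsg.Agent.Lib.Helper08.POmegaIso
import Cfsg.Agent.Lib.Helper19.QuadMat

/-!
# K-Os-T (keystone 599602, rows S5996 + S5995, architect helper98): transport of an abstract symmetric
space with a totally singular subspace of half the dimension and an isometry of odd order to `Ω⁺`.
-/

set_option autoImplicit false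
set_option linter.unusedSimpArgs false
set_option linter.unusedSectionVars false
set_option linter.unusedVariables false
set_option linter.style.haveILetI false

namespace Cfsg.Agent.Lib.Helper34.Os

open Module Cfsg.Agent.Lib.Helper98.Elus Cfsg.Agent.Lib.Helper98.Sy
open scoped Matrix

universe u
variable {F : Type u} [Field F]

/-- LEAF OT (transport to `Ω⁺`). -/
theorem transport_plus [Fintype F] (h2 : (2 : F) ≠ 0) (p : ℕ) (hp : Odd p) (d : ℕ)
    {V : Type u} [AddCommGroup V] [Module F V] [FiniteDimensional F V]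
    (B : LinearMap.BilinForm F V) (hsymm : ∀ x y, B x y = B y x) (hnd : NonDeg B ⊤)
    (hV : finrank F V = 2 * d) (X : Submodule F V) (hX : ∀ x ∈ X, B x x = 0)
    (hXd : finrank F X = d) (u : V →ₗ[F] V) (hiso : Iso B u) (hu : u ^ p = 1)
    (hns : ∀ z : F, u ≠ z • 1) :
    ∃ x : GL (Fin d ⊕ Fin d) F, x ∈ Cfsg.Geo.omegaGL (Cfsg.quadFormPlus d F) ∧
      ((x ^ p : GL (Fin d ⊕ Fin d) F) : Matrix (Fin d ⊕ Fin d) (Fin d ⊕ Fin d) F) =
        (1 : F) • (1 : Matrix (Fin d ⊕ Fin d) (Fin d ⊕ Fin d) F) ∧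
      (∀ z : F, (x : Matrix (Fin d ⊕ Fin d) (Fin d ⊕ Fin d) F) ≠
        z • (1 : Matrix (Fin d ⊕ Fin d) (Fin d ⊕ Fin d) F)) ∧
      ∃ E : (Fin d ⊕ Fin d → F) ≃ₗ[F] V,
        (∀ w, E (Matrix.toLin' (x : Matrix (Fin d ⊕ Fin d) (Fin d ⊕ Fin d) F) w) = u (E w)) ∧
        ∀ a b, B (E a) (E b) = QuadraticMap.polar (Cfsg.quadFormPlus d F) a b := by
  classical
  -- the quadratic form `Q v = B v v / 2`
  let Q : QuadraticForm F V := (2⁻¹ : F) • LinearMap.BilinMap.toQuadraticMap B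
  have hQ : ∀ v, Q v = 2⁻¹ * B v v := by
    intro v
    show (2⁻¹ : F) • (LinearMap.BilinMap.toQuadraticMap B) v = _
    rw [LinearMap.BilinMap.toQuadraticMap_apply, smul_eq_mul]
  have hpolar : ∀ x y, QuadraticMap.polar Q x y = B x y := by
    intro x y
    unfold QuadraticMap.polar
    rw [hQ, hQ, hQ, map_add, map_add, LinearMap.add_apply, LinearMap.add_apply, hsymm y x]
    field_simp
    ring
  have hQND : Cfsg.Agent.Lib.Helper50.QND Q := by
    intro v hv
    apply hnd v Submodule.mem_top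
    intro w _
    rw [← hpolar]
    exact hv w
  have hXQ : ∀ x ∈ X, Q x = 0 := by
    intro x hx
    rw [hQ, hX x hx, mul_zero]
  obtain ⟨φ, hφ⟩ := Cfsg.Agent.Lib.Helper50.plusType_of_totally_singular d Q hQND hV X
    (le_of_eq hXd.symm) hXQ
  -- the basis attached to `φ`
  let b : Basis (Fin d ⊕ Fin d) F V := Basis.ofEquivFun φ
  have hbφ : ∀ v, b.equivFun v = φ v := by
    intro v
    rfl
  have hbφs : ∀ w, b.equivFun.symm w = φ.symm w := by
    intro w
    rfl
  set M := LinearMap.toMatrix b b u with hM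
  have hinter : ∀ w : Fin d ⊕ Fin d → F,
      φ.symm (Matrix.toLin' M w) = u (φ.symm w) := by
    intro w
    apply φ.injective
    rw [LinearEquiv.apply_symm_apply, Matrix.toLin'_apply]
    have h1 := LinearMap.toMatrix_mulVec_repr b b u (φ.symm w)
    have h3 : (b.repr (φ.symm w) : Fin d ⊕ Fin d → F) = w := by
      have := φ.apply_symm_apply w
      exact this
    rw [h3] at h1
    rw [← hM] at h1
    rw [h1]
    rfl
  have hform : ∀ a c : Fin d ⊕ Fin d → F,
      B (φ.symm a) (φ.symm c) = QuadraticMap.polar (Cfsg.quadFormPlus d F) a c := by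
    intro a c
    rw [← hpolar]
    unfold QuadraticMap.polar
    rw [← hφ, ← hφ, ← hφ, map_add, LinearEquiv.apply_symm_apply, LinearEquiv.apply_symm_apply]
  have hMQ : ∀ w : Fin d ⊕ Fin d → F,
      Cfsg.quadFormPlus d F (M *ᵥ w) = Cfsg.quadFormPlus d F w := by
    intro w
    have h1 : M *ᵥ w = φ (u (φ.symm w)) := by
      rw [← hinter, LinearEquiv.apply_symm_apply, Matrix.toLin'_apply]
    rw [h1, hφ, hQ, hiso, ← hQ, ← hφ, LinearEquiv.apply_symm_apply]
  have hMp : M ^ p = 1 := by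
    rw [hM, LinearMap.toMatrix_pow, hu, LinearMap.toMatrix_one]
  have hp1 : 1 ≤ p := hp.pos
  have hMM : M * M ^ (p - 1) = 1 := by
    rw [← pow_succ', Nat.sub_add_cancel hp1, hMp]
  have hMM' : M ^ (p - 1) * M = 1 := by
    rw [← pow_succ, Nat.sub_add_cancel hp1, hMp]
  let x₀ : GL (Fin d ⊕ Fin d) F := ⟨M, M ^ (p - 1), hMM, hMM'⟩
  have hx₀iso : x₀ ∈ Cfsg.isometryGroup F (⇑(Cfsg.Agent.Lib.Helper50.QPlus d F)) := by
    rw [Cfsg.Agent.Lib.Helper50.QPlus_coe, Cfsg.Agent.Lib.Helper19.mem_isometryGroup_iff]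
    exact hMQ
  let g : ↥(Cfsg.isometryGroup F (⇑(Cfsg.Agent.Lib.Helper50.QPlus d F))) := ⟨x₀, hx₀iso⟩
  have hx₀p : x₀ ^ p = 1 := by
    apply Units.ext
    rw [Units.val_pow_eq_pow_val]
    exact hMp
  have hgp : g ^ p = 1 := by
    apply Subtype.ext
    rw [SubmonoidClass.coe_pow]
    exact hx₀p
  obtain ⟨k, hk⟩ := hp
  have hgsq : g = g ^ (k + 1) * g ^ (k + 1) := by
    rw [← pow_add]
    have : k + 1 + (k + 1) = p + 1 := by omega
    rw [this, pow_succ, hgp, one_mul]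
  have hgΩ : g ∈ Cfsg.Omega F (⇑(Cfsg.Agent.Lib.Helper50.QPlus d F)) := by
    rw [hgsq]
    exact Cfsg.Agent.Lib.Helper08.sq_mem_Omega h2 (Cfsg.Agent.Lib.Helper50.QPlus d F)
      Cfsg.Agent.Lib.Helper50.QPlus_nondegenerate (g ^ (k + 1))
  have hmem : x₀ ∈ Cfsg.Geo.omegaGL (Cfsg.quadFormPlus d F) := by
    have h1 := Cfsg.Agent.Lib.Helper50.coe_mem_omegaGL
      (⇑(Cfsg.Agent.Lib.Helper50.QPlus d F)) g hgΩ
    exact h1
  refine ⟨x₀, hmem, ?_, ?_, φ.symm, hinter, hform⟩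
  · rw [hx₀p, one_smul]
    rfl
  · intro z hz
    change M = z • 1 at hz
    apply hns z
    apply (LinearMap.toMatrix b b).injective
    rw [← hM, hz, map_smul, LinearMap.toMatrix_one]

end Cfsg.Agent.Lib.Helper34.Os
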