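import Mathlib.Analysis.Complex.Basic
import Mathlib.Analysis.SpecialFunctions.Complex.CircleAddChar
import Mathlib.RingTheory.RootsOfUnity.Complex
import Cfsg.Prelude.Def_Characters
import Cfsg.Agent.Lib.Helper34.Induction

/-!
# Linear characters `W →* ℂˣ` of a finite group: character sums and orthogonality (helper34)
-/

set_option autoImplicit false

namespace Cfsg.Agent.Lib.Helper34

open scoped ComplexConjugate
open Cfsg

section

variable {W : Type*} [Group W]

/-- the complex-valued function attached to a linear character -/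
noncomputable def linFun (ω : W →* ℂˣ) : W → ℂ := fun w => (ω w : ℂ)

theorem linFun_apply (ω : W →* ℂˣ) (w : W) : linFun ω w = (ω w : ℂ) := rfl

theorem linFun_one : linFun (1 : W →* ℂˣ) = fun _ => (1 : ℂ) := by
  funext w; simp [linFun]

theorem linFun_mul (ω ω' : W →* ℂˣ) : linFun (ω * ω') = linFun ω * linFun ω' := by
  funext w; simp [linFun]

theorem linFun_injective : Function.Injective (linFun : (W →* ℂˣ) → W → ℂ) := by
  intro ω ω' h
  ext w
  exact congrFun h w

theorem norm_linChar [Finite W] (ω : W →* ℂˣ) (w : W) : ‖(ω w : ℂ)‖ = 1 := by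
  have h1 : (ω w : ℂ) ^ Nat.card W = 1 := by
    rw [← Units.val_pow_eq_pow_val, ← map_pow, pow_card_eq_one', map_one, Units.val_one]
  exact Complex.norm_eq_one_of_pow_eq_one h1 Nat.card_pos.ne'

theorem conj_linChar [Finite W] (ω : W →* ℂˣ) (w : W) :
    conj (ω w : ℂ) = ((ω⁻¹ w : ℂˣ) : ℂ) := by
  rw [← Complex.inv_eq_conj (norm_linChar ω w)]
  simp

theorem conj_linFun [Finite W] (ω : W →* ℂˣ) :
    (fun w => conj (linFun ω w)) = linFun ω⁻¹ := by
  funext w
  exact conj_linChar ω w

variable [Fintype W]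

/-- a nontrivial linear character sums to zero -/
theorem sum_linChar_eq_zero (ω : W →* ℂˣ) (hω : ω ≠ 1) : ∑ w : W, (ω w : ℂ) = 0 := by
  obtain ⟨w₀, hw₀⟩ : ∃ w₀, ω w₀ ≠ 1 := by
    by_contra h
    exact hω (MonoidHom.ext (fun w => by
      by_contra hw
      exact h ⟨w, hw⟩))
  have h1 : ∑ w : W, (ω w : ℂ) = (ω w₀ : ℂ) * ∑ w : W, (ω w : ℂ) := by
    rw [Finset.mul_sum]
    symm
    apply Fintype.sum_equiv (Equiv.mulLeft w₀)
    intro w
    simp
  have h2 : ((ω w₀ : ℂ) - 1) * ∑ w : W, (ω w : ℂ) = 0 := by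
    rw [sub_mul, one_mul, ← h1, sub_self]
  rcases mul_eq_zero.mp h2 with h3 | h3
  · exfalso
    apply hw₀
    ext
    simpa using sub_eq_zero.mp h3
  · exact h3

theorem sum_linChar (ω : W →* ℂˣ) [Decidable (ω = 1)] :
    ∑ w : W, (ω w : ℂ) = if ω = 1 then (Nat.card W : ℂ) else 0 := by
  split_ifs with h
  · subst h
    simp [Nat.card_eq_fintype_card]
  · exact sum_linChar_eq_zero ω h

/-- orthogonality of linear characters -/
theorem classInner_linFun (ω ω' : W →* ℂˣ) [Decidable (ω = ω')] :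
    classInner (linFun ω) (linFun ω') = if ω = ω' then 1 else 0 := by
  classical
  rw [classInner_def]
  have h1 : ∀ w : W, linFun ω w * conj (linFun ω' w) = ((ω * ω'⁻¹) w : ℂ) := by
    intro w
    rw [linFun_apply, linFun_apply, conj_linChar]
    simp
  simp only [h1]
  rw [sum_linChar]
  have hW : (Nat.card W : ℂ) ≠ 0 := by exact_mod_cast Nat.card_pos.ne'
  by_cases h : ω = ω'
  · subst h
    have h2 : ω * ω⁻¹ = 1 := mul_inv_cancel ω
    simp [hW, h2]
  · have h' : ¬ ω * ω'⁻¹ = 1 := by
      intro h2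
      exact h (mul_inv_eq_one.mp h2)
    simp [h, h']

theorem classInner_linFun_one (ω : W →* ℂˣ) [Decidable (ω = 1)] :
    classInner (linFun ω) (fun _ => (1 : ℂ)) = if ω = 1 then 1 else 0 := by
  classical
  rw [← linFun_one, classInner_linFun]

end

end Cfsg.Agent.Lib.Helper34
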