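import Mathlib
import Cfsg.Prelude.Def_OddOrderChar
import Cfsg.Agent.Lib.Helper34.Induction

/-!
# zspan, zspanOn and IsLinearIsometryOn: basic API (helper34)
-/

set_option autoImplicit false

namespace Cfsg.Agent.Lib.Helper34

open Cfsg

section Zspan

variable {X : Type*} {S : Set (X → ℂ)}

theorem mem_zspan_iff {α : X → ℂ} : α ∈ zspan S ↔ α ∈ Submodule.span ℤ S := Iff.rfl

theorem mem_zspan_of_mem {α : X → ℂ} (h : α ∈ S) : α ∈ zspan S :=
  Submodule.subset_span h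

theorem zero_mem_zspan : (0 : X → ℂ) ∈ zspan S := (Submodule.span ℤ S).zero_mem

theorem add_mem_zspan {α β : X → ℂ} (hα : α ∈ zspan S) (hβ : β ∈ zspan S) : α + β ∈ zspan S :=
  (Submodule.span ℤ S).add_mem hα hβ

theorem neg_mem_zspan {α : X → ℂ} (hα : α ∈ zspan S) : -α ∈ zspan S :=
  (Submodule.span ℤ S).neg_mem hα

theorem sub_mem_zspan {α β : X → ℂ} (hα : α ∈ zspan S) (hβ : β ∈ zspan S) : α - β ∈ zspan S :=
  (Submodule.span ℤ S).sub_mem hα hβ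

theorem zsmul_mem_zspan (n : ℤ) {α : X → ℂ} (hα : α ∈ zspan S) : n • α ∈ zspan S :=
  (Submodule.span ℤ S).smul_mem n hα

theorem nsmul_mem_zspan (n : ℕ) {α : X → ℂ} (hα : α ∈ zspan S) : n • α ∈ zspan S := by
  have := zsmul_mem_zspan (n : ℤ) hα
  rwa [natCast_zsmul] at this

theorem sum_mem_zspan {ι : Type*} (s : Finset ι) (f : ι → X → ℂ) (h : ∀ i ∈ s, f i ∈ zspan S) :
    ∑ i ∈ s, f i ∈ zspan S :=
  (Submodule.span ℤ S).sum_mem h

theorem zspan_mono {S T : Set (X → ℂ)} (h : S ⊆ T) : zspan S ⊆ zspan T :=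
  Submodule.span_mono h

theorem zspan_induction {p : (X → ℂ) → Prop} {α : X → ℂ} (hα : α ∈ zspan S)
    (mem : ∀ x ∈ S, p x) (zero : p 0) (add : ∀ x y, p x → p y → p (x + y))
    (neg : ∀ x, p x → p (-x)) : p α := by
  refine Submodule.span_induction (p := fun x _ => p x) (fun x hx => mem x hx) zero
    (fun x y _ _ hx hy => add x y hx hy) (fun n x _ hx => ?_) hα
  obtain ⟨m, rfl | rfl⟩ := n.eq_nat_or_neg
  · rw [natCast_zsmul]
    induction m with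
    | zero => simpa using zero
    | succ m ih => rw [succ_nsmul]; exact add _ _ ih hx
  · rw [neg_zsmul, natCast_zsmul]
    apply neg
    induction m with
    | zero => simpa using zero
    | succ m ih => rw [succ_nsmul]; exact add _ _ ih hx

theorem mem_zspanOn_iff {A : Set X} {α : X → ℂ} :
    α ∈ zspanOn S A ↔ α ∈ zspan S ∧ ∀ x, x ∉ A → α x = 0 := Iff.rfl

theorem zspanOn_subset_zspan {A : Set X} : zspanOn S A ⊆ zspan S := fun _ h => h.1

theorem add_mem_zspanOn {A : Set X} {α β : X → ℂ} (hα : α ∈ zspanOn S A) (hβ : β ∈ zspanOn S A) :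
    α + β ∈ zspanOn S A :=
  ⟨add_mem_zspan hα.1 hβ.1, fun x hx => by simp [hα.2 x hx, hβ.2 x hx]⟩

theorem neg_mem_zspanOn {A : Set X} {α : X → ℂ} (hα : α ∈ zspanOn S A) : -α ∈ zspanOn S A :=
  ⟨neg_mem_zspan hα.1, fun x hx => by simp [hα.2 x hx]⟩

theorem sub_mem_zspanOn {A : Set X} {α β : X → ℂ} (hα : α ∈ zspanOn S A) (hβ : β ∈ zspanOn S A) :
    α - β ∈ zspanOn S A :=
  ⟨sub_mem_zspan hα.1 hβ.1, fun x hx => by simp [hα.2 x hx, hβ.2 x hx]⟩

theorem zsmul_mem_zspanOn {A : Set X} (n : ℤ) {α : X → ℂ} (hα : α ∈ zspanOn S A) :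
    n • α ∈ zspanOn S A :=
  ⟨zsmul_mem_zspan n hα.1, fun x hx => by simp [hα.2 x hx]⟩

theorem zero_mem_zspanOn {A : Set X} : (0 : X → ℂ) ∈ zspanOn S A :=
  ⟨zero_mem_zspan, fun _ _ => rfl⟩

/-- membership in `zspanOn S {1}ᶜ` : in the span and vanishing at `1` -/
theorem mem_zspanOn_compl_one_iff {X : Type*} [One X] {S : Set (X → ℂ)} {α : X → ℂ} :
    α ∈ zspanOn S ({1}ᶜ : Set X) ↔ α ∈ zspan S ∧ α 1 = 0 := by
  constructor
  · rintro ⟨h1, h2⟩
    exact ⟨h1, h2 1 (by simp)⟩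
  · rintro ⟨h1, h2⟩
    refine ⟨h1, fun x hx => ?_⟩
    have : x = 1 := by simpa using hx
    rw [this, h2]

end Zspan

section Isometry

variable {L : Type*} [Group L] [Fintype L] {G : Type*} [Group G] [Fintype G]
  {E : Set (L → ℂ)} {τ : (L → ℂ) → (G → ℂ)}

theorem LIO.map_add (h : IsLinearIsometryOn E τ) {α β : L → ℂ} (hα : α ∈ E)
    (hβ : β ∈ E) : τ (α + β) = τ α + τ β := h.1 α hα β hβ

theorem LIO.map_zsmul (h : IsLinearIsometryOn E τ) {α : L → ℂ} (hα : α ∈ E)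
    (n : ℤ) : τ (n • α) = n • τ α := h.2.1 α hα n

theorem LIO.inner_eq (h : IsLinearIsometryOn E τ) {α β : L → ℂ} (hα : α ∈ E)
    (hβ : β ∈ E) : classInner (τ α) (τ β) = classInner α β := h.2.2.1 α hα β hβ

theorem LIO.isGenChar (h : IsLinearIsometryOn E τ) {α : L → ℂ} (hα : α ∈ E) :
    IsGeneralizedCharacter G (τ α) := h.2.2.2 α hα

theorem LIO.map_neg (h : IsLinearIsometryOn E τ) {α : L → ℂ} (hα : α ∈ E) :
    τ (-α) = -τ α := by
  have := LIO.map_zsmul h hα (-1)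
  simpa using this

theorem LIO.map_zero (h : IsLinearIsometryOn E τ) {α : L → ℂ} (hα : α ∈ E) :
    τ 0 = 0 := by
  have := LIO.map_zsmul h hα 0
  simpa using this

/-- on the integer span -/
theorem LIO.map_sub_zspan {S : Set (L → ℂ)} (h : IsLinearIsometryOn (zspan S) τ)
    {α β : L → ℂ} (hα : α ∈ zspan S) (hβ : β ∈ zspan S) : τ (α - β) = τ α - τ β := by
  rw [sub_eq_add_neg, LIO.map_add h hα (neg_mem_zspan hβ), LIO.map_neg h hβ, sub_eq_add_neg]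

theorem LIO.map_sub_zspanOn {S : Set (L → ℂ)} {A : Set L}
    (h : IsLinearIsometryOn (zspanOn S A) τ)
    {α β : L → ℂ} (hα : α ∈ zspanOn S A) (hβ : β ∈ zspanOn S A) : τ (α - β) = τ α - τ β := by
  rw [sub_eq_add_neg, LIO.map_add h hα (neg_mem_zspanOn hβ), LIO.map_neg h hβ, sub_eq_add_neg]

theorem LIO.mono {E' : Set (L → ℂ)} (h : IsLinearIsometryOn E τ) (hE : E' ⊆ E) :
    IsLinearIsometryOn E' τ :=
  ⟨fun α hα β hβ => h.1 α (hE hα) β (hE hβ), fun α hα n => h.2.1 α (hE hα) n,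
    fun α hα β hβ => h.2.2.1 α (hE hα) β (hE hβ), fun α hα => h.2.2.2 α (hE hα)⟩

theorem LIO.congr {τ' : (L → ℂ) → (G → ℂ)} (h : IsLinearIsometryOn E τ)
    (hE : ∀ α ∈ E, τ' α = τ α)
    (hadd : ∀ α ∈ E, ∀ β ∈ E, α + β ∈ E) (hsmul : ∀ α ∈ E, ∀ n : ℤ, n • α ∈ E) :
    IsLinearIsometryOn E τ' := by
  refine ⟨fun α hα β hβ => ?_, fun α hα n => ?_, fun α hα β hβ => ?_, fun α hα => ?_⟩
  · rw [hE _ (hadd α hα β hβ), hE α hα, hE β hβ, h.1 α hα β hβ]
  · rw [hE _ (hsmul α hα n), hE α hα, h.2.1 α hα n]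
  · rw [hE α hα, hE β hβ, h.2.2.1 α hα β hβ]
  · rw [hE α hα]; exact h.2.2.2 α hα

end Isometry

end Cfsg.Agent.Lib.Helper34
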