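import Mathlib
import Cfsg.Prelude.Def_OddOrderChar
import Cfsg.Agent.Lib.Helper34.Induction
import Cfsg.Agent.Lib.Helper34.GenChar
import Cfsg.Agent.Lib.Helper34.Coherence
import Cfsg.Agent.Lib.Helper83.Completeness
import Cfsg.Agent.Lib.Helper83.SecondOrth
import Cfsg.Agent.Lib.Helper83.Decompose
import Cfsg.Agent.Lib.Helper83.Constituent
import Cfsg.Agent.Lib.Helper83.CharMisc
import Cfsg.Agent.Lib.Helper05.CharDegree
import Cfsg.Agent.Lib.Helper05.CharDecomp
import Cfsg.Agent.S1528

/-!
# Characters of a group `N` with a normal subgroup `K` containing the centralisers of its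
non-identity elements (a Frobenius kernel), and coherence for T.I. subgroups (helper34)

* `FrobRel K χ` : `χ` is an irreducible character of `N` whose kernel does not contain `K`.
* `FrobRel.eq_ind`, `FrobRel.vanish`, `FrobRel.sum_eq_zero`.
* `frob_const` : a class function `ψ` of `N` with `⟨ψ, χ⟩ = u χ(1)` for all relevant `χ` is constant
  on `K∖{1}`, with an explicit value.
* `star_restrict_inner` : Frobenius reciprocity for an isometry extending induction.
-/

set_option autoImplicit false

namespace Cfsg.Agent.Lib.Helper34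

open scoped ComplexConjugate
open Cfsg

section FrobKernel

variable {N : Type*} [Group N] [Fintype N] (K : Subgroup N) [hK : K.Normal]

/-- `χ` is an irreducible character of `N` whose kernel does not contain `K` -/
def FrobRel (χ : N → ℂ) : Prop := IsIrrCharacter N χ ∧ ∃ k ∈ K, χ k ≠ χ 1

/-- the function induced from a normal subgroup vanishes outside it -/
theorem indFun_normal_apply_not_mem (φ : K → ℂ) {x : N} (hx : x ∉ K) : indFun K φ x = 0 := by
  rw [indFun_apply]
  have h0 : ∀ y : N, extendByZero K φ (y⁻¹ * x * y) = 0 := by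
    intro y
    apply extendByZero_apply_not_mem
    intro h
    apply hx
    have := hK.conj_mem _ h y
    simpa [mul_assoc] using this
  simp [h0]

/-- the permutation character on the cosets of the normal subgroup `K` is constant on `K` -/
theorem indFun_one_apply_mem {k : N} (hk : k ∈ K) :
    indFun K (fun _ : K => (1 : ℂ)) k = (K.index : ℂ) := by
  rw [indFun_apply]
  have h1 : ∀ y : N, extendByZero K (fun _ : K => (1 : ℂ)) (y⁻¹ * k * y) = 1 := by
    intro y
    have hmem : y⁻¹ * k * y ∈ K := by
      have := hK.conj_mem k hk y⁻¹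
      simpa using this
    rw [extendByZero_apply_mem K _ hmem]
  simp only [h1, Finset.sum_const, Finset.card_univ, nsmul_eq_mul, mul_one]
  rw [← Nat.card_eq_fintype_card, ← Subgroup.card_mul_index K]
  push_cast
  have : (Nat.card K : ℂ) ≠ 0 := by exact_mod_cast Nat.card_pos.ne'
  field_simp

omit hK in
/-- inner product with the permutation character on the cosets of `K` -/
theorem classInner_indFun_one (ψ : N → ℂ) (hψ : IsClassFunction N ψ) [Fintype K] :
    classInner ψ (indFun K (fun _ : K => (1 : ℂ))) = (Nat.card K : ℂ)⁻¹ * ∑ k : K, ψ k := by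
  rw [classInner_indFun_right K _ ψ hψ, classInner_def]
  simp

variable (hC : ∀ k ∈ K, k ≠ 1 → Subgroup.centralizer ({k} : Set N) ≤ K)

include hC in
/-- a relevant character is induced from a non-principal irreducible character of `K` -/
theorem FrobRel.eq_ind {χ : N → ℂ} (h : FrobRel K χ) :
    ∃ φ : K → ℂ, IsIrrCharacter K φ ∧ φ ≠ (fun _ => 1) ∧ χ = indFun K φ := by
  obtain ⟨φ, hφ, rfl⟩ := Cfsg.Agent.S1528.result K hC χ h.1 h.2
  refine ⟨φ, hφ, ?_, rfl⟩
  rintro rfl
  obtain ⟨k, hk, hne⟩ := h.2
  apply hne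
  rw [indFun_one_apply_mem K hk, indFun_one_apply_mem K K.one_mem]

include hC in
theorem FrobRel.vanish {χ : N → ℂ} (h : FrobRel K χ) {x : N} (hx : x ∉ K) : χ x = 0 := by
  obtain ⟨φ, -, -, rfl⟩ := h.eq_ind K hC
  exact indFun_normal_apply_not_mem K φ hx

/-- a function induced from a non-principal irreducible character of `K` is orthogonal to the
permutation character on the cosets of `K` -/
theorem inner_ind_indFun_one {φ : K → ℂ} (hφ : IsIrrCharacter K φ) (hne : φ ≠ fun _ => 1) :
    classInner (indFun K φ) (indFun K (fun _ : K => (1 : ℂ))) = 0 := by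
  classical
  letI : Fintype K := Fintype.ofFinite K
  rw [classInner_indFun_left K φ _ (indFun_isClassFunction K _)]
  have hres : (fun h : K => indFun K (fun _ : K => (1 : ℂ)) (h : N)) = (K.index : ℂ) • (fun _ : K => (1 : ℂ)) := by
    funext k
    rw [indFun_one_apply_mem K k.2]
    simp
  rw [hres, classInner_smul_right]
  have := Helper83.irr_inner_ne (χ := (⟨φ, hφ⟩ : IrrCharacter K))
    (ψ := ⟨fun _ => 1, Helper83.isIrrCharacter_one⟩) (fun h => hne (congrArg Subtype.val h))
  simp only at this
  rw [this, mul_zero]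

include hC in
/-- a relevant character is orthogonal to the permutation character on the cosets of `K` -/
theorem FrobRel.inner_indFun_one {χ : N → ℂ} (h : FrobRel K χ) :
    classInner χ (indFun K (fun _ : K => (1 : ℂ))) = 0 := by
  obtain ⟨φ, hφ, hne, rfl⟩ := h.eq_ind K hC
  exact inner_ind_indFun_one K hφ hne

include hC in
/-- the values of a relevant character on `K` sum to zero -/
theorem FrobRel.sum_eq_zero {χ : N → ℂ} (h : FrobRel K χ) [Fintype K] : ∑ k : K, χ k = 0 := by
  have h1 := h.inner_indFun_one K hC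
  rw [classInner_indFun_one K χ (Helper83.char_isClassFunction (Helper83.isCharacter_of_irr h.1))] at h1
  have : (Nat.card K : ℂ)⁻¹ ≠ 0 := by
    apply inv_ne_zero
    exact_mod_cast Nat.card_pos.ne'
  exact (mul_eq_zero.mp h1).resolve_left this

omit hK in
/-- an irreducible character with `K` in its kernel has multiplicity `χ 1` in the permutation
character on the cosets of `K` -/
theorem inner_indFun_one_of_ker {χ : N → ℂ} (h : ∀ k ∈ K, χ k = χ 1)
    (hχ : IsClassFunction N χ) :
    classInner χ (indFun K (fun _ : K => (1 : ℂ))) = χ 1 := by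
  classical
  letI : Fintype K := Fintype.ofFinite K
  rw [classInner_indFun_one K χ hχ]
  have : ∀ k : K, χ k = χ 1 := fun k => h k k.2
  simp only [this, Finset.sum_const, Finset.card_univ, nsmul_eq_mul]
  rw [← Nat.card_eq_fintype_card]
  have : (Nat.card K : ℂ) ≠ 0 := by exact_mod_cast Nat.card_pos.ne'
  field_simp

include hC in
/-- the function induced from a non-principal irreducible character of `K` is a relevant
irreducible character of `N` -/
theorem ind_frobRel {φ : K → ℂ} (hφ : IsIrrCharacter K φ) (hne : φ ≠ fun _ => 1) :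
    FrobRel K (indFun K φ) := by
  classical
  letI : Fintype K := Fintype.ofFinite K
  have hirr := Cfsg.Agent.S1528.ind_irr K hC φ hφ hne
  refine ⟨hirr, ?_⟩
  by_contra hcon
  push Not at hcon
  have h1 := inner_indFun_one_of_ker K hcon
    (Helper83.char_isClassFunction (Helper83.isCharacter_of_irr hirr))
  rw [inner_ind_indFun_one K hφ hne] at h1
  obtain ⟨d, hd, hd1, -⟩ := Helper05.exists_degree_dvd hirr
  rw [hd1] at h1
  have : (d : ℂ) ≠ 0 := by exact_mod_cast hd.ne'
  exact this h1.symm

include hC in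
/-- **Constancy on `K∖{1}`.**  A class function `ψ` of `N` whose inner products with the relevant
characters are proportional to their degrees is constant on `K∖{1}`; the constant is `W - u e` with
`e = [N : K]`, and `W` is an integer as soon as `ψ` has integer inner products with the irreducible
characters. -/
theorem frob_const (ψ : N → ℂ) (hψ : IsClassFunction N ψ) (u : ℂ)
    (hu : ∀ χ, FrobRel K χ → classInner ψ χ = u * χ 1) :
    ∃ W : ℂ, (∀ k ∈ K, k ≠ 1 → ψ k = W - u * (K.index : ℂ)) ∧
      ((∀ χ, IsIrrCharacter N χ → ∃ n : ℤ, classInner ψ χ = n) → ∃ n : ℤ, W = n) := by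
  classical
  haveI : Finite (IrrCharacter N) := Helper05.finite_irrCharacter
  letI : Fintype (IrrCharacter N) := Fintype.ofFinite _
  set P : IrrCharacter N → Prop := fun χ => ∀ k ∈ K, (χ : N → ℂ) k = (χ : N → ℂ) 1 with hP
  refine ⟨∑ χ : IrrCharacter N, if P χ then classInner ψ (χ : N → ℂ) * (χ : N → ℂ) 1 else 0,
    ?_, ?_⟩
  · intro k hk hk1
    -- decomposition of ψ at k
    have hdec : ψ k = ∑ χ : IrrCharacter N, classInner ψ (χ : N → ℂ) * (χ : N → ℂ) k := by
      have := congrFun (Helper83.classFunction_eq_sum_irr hψ) k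
      rw [this, Finset.sum_apply]
      apply Finset.sum_congr rfl
      intro χ _
      simp [Pi.smul_apply]
    -- the permutation character at k
    have hrho : (K.index : ℂ) = ∑ χ : IrrCharacter N,
        if P χ then (χ : N → ℂ) 1 * (χ : N → ℂ) 1 else 0 := by
      have hcf := indFun_isClassFunction K (fun _ : K => (1 : ℂ))
      have := congrFun (Helper83.classFunction_eq_sum_irr hcf) k
      rw [indFun_one_apply_mem K hk, Finset.sum_apply] at this
      rw [this]
      apply Finset.sum_congr rfl
      intro χ _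
      have hχc := Helper83.IrrCharacter_isCharacter χ
      rw [Pi.smul_apply, smul_eq_mul, ← classInner_conj_symm]
      by_cases hp : P χ
      · rw [if_pos hp, inner_indFun_one_of_ker K hp (Helper83.char_isClassFunction hχc),
          Helper83.char_one_conj hχc, hp k hk]
      · rw [if_neg hp]
        have hrel : FrobRel K (χ : N → ℂ) := by
          refine ⟨χ.2, ?_⟩
          simp only [hP] at hp
          push Not at hp
          exact hp
        rw [hrel.inner_indFun_one K hC, map_zero, zero_mul]
    have hreg := Helper83.sum_irr_degree_mul (G := N) k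
    rw [if_neg hk1] at hreg
    -- split the regular character
    have hsplit : ∑ χ : IrrCharacter N, (if P χ then 0 else (χ : N → ℂ) 1 * (χ : N → ℂ) k)
        = - (K.index : ℂ) := by
      have h2 : ∑ χ : IrrCharacter N, ((if P χ then 0 else (χ : N → ℂ) 1 * (χ : N → ℂ) k)
          + (if P χ then (χ : N → ℂ) 1 * (χ : N → ℂ) 1 else 0))
          = ∑ χ : IrrCharacter N, (χ : N → ℂ) 1 * (χ : N → ℂ) k := by
        apply Finset.sum_congr rfl
        intro χ _
        by_cases hp : P χ
        · rw [if_pos hp, if_pos hp, hp k hk, zero_add]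
        · rw [if_neg hp, if_neg hp, add_zero]
      rw [hrho, eq_neg_iff_add_eq_zero, ← Finset.sum_add_distrib, h2, hreg]
    rw [hdec]
    have : ∀ χ : IrrCharacter N, classInner ψ (χ : N → ℂ) * (χ : N → ℂ) k
        = (if P χ then classInner ψ (χ : N → ℂ) * (χ : N → ℂ) 1 else 0)
          + u * (if P χ then 0 else (χ : N → ℂ) 1 * (χ : N → ℂ) k) := by
      intro χ
      by_cases hp : P χ
      · rw [if_pos hp, if_pos hp, hp k hk, mul_zero, add_zero]
      · rw [if_neg hp, if_neg hp, zero_add]
        have hrel : FrobRel K (χ : N → ℂ) := by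
          refine ⟨χ.2, ?_⟩
          simp only [hP] at hp
          push Not at hp
          exact hp
        rw [hu _ hrel, mul_assoc]
    rw [Finset.sum_congr rfl (fun χ _ => this χ), Finset.sum_add_distrib, ← Finset.mul_sum, hsplit]
    ring
  · intro hint
    choose! n hn using hint
    have hd : ∀ χ : IrrCharacter N, ∃ d : ℕ, (χ : N → ℂ) 1 = d := fun χ =>
      Helper83.char_one_eq_nat (Helper83.IrrCharacter_isCharacter χ)
    choose d hd using hd
    refine ⟨∑ χ : IrrCharacter N, if P χ then n (χ : N → ℂ) * (d χ : ℤ) else 0, ?_⟩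
    push_cast
    apply Finset.sum_congr rfl
    intro χ _
    by_cases hp : P χ
    · rw [if_pos hp, if_pos hp, hn _ χ.2, hd χ]
    · rw [if_neg hp, if_neg hp]

end FrobKernel

section IntLemmas

variable {H : Type*} [Group H] [Finite H]

/-- a complex number whose products with all degrees of non-principal irreducible characters of a
nontrivial group are integers is an integer -/
theorem int_of_mul_irr_degree [Nontrivial H] (x : ℂ)
    (hx : ∀ φ : H → ℂ, IsIrrCharacter H φ → φ ≠ (fun _ => 1) → ∃ n : ℤ, x * φ 1 = n) :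
    ∃ n : ℤ, x = n := by
  classical
  letI : Fintype H := Fintype.ofFinite H
  haveI : Finite (IrrCharacter H) := Helper05.finite_irrCharacter
  letI : Fintype (IrrCharacter H) := Fintype.ofFinite _
  set triv : IrrCharacter H := ⟨fun _ => 1, Helper83.isIrrCharacter_one⟩ with htriv
  have key : ∀ φ : IrrCharacter H, ∃ n : ℤ, φ ≠ triv → x * (φ : H → ℂ) 1 = n := by
    intro φ
    by_cases h : φ = triv
    · exact ⟨0, fun h' => absurd h h'⟩
    · obtain ⟨n, hn⟩ := hx φ.1 φ.2 (fun h' => h (Subtype.ext h'))
      exact ⟨n, fun _ => hn⟩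
  choose n hn using key
  have hdeg : ∀ φ : IrrCharacter H, ∃ d : ℕ, 0 < d ∧ (φ : H → ℂ) 1 = d ∧ d ∣ Nat.card H :=
    fun φ => Helper05.exists_degree_dvd φ.2
  choose d hdpos hd hdvd using hdeg
  -- x (|H| - 1) is an integer
  have h1 : x * ((Nat.card H : ℂ) - 1) = ((∑ φ ∈ Finset.univ.erase triv, n φ * (d φ : ℤ) : ℤ) : ℂ) := by
    have hsum := Finset.add_sum_erase Finset.univ (fun φ : IrrCharacter H => ((φ : H → ℂ) 1) ^ 2)
      (Finset.mem_univ triv)
    rw [Helper83.sum_irr_degree_sq] at hsum
    have ht1 : ((triv : IrrCharacter H) : H → ℂ) 1 = 1 := rfl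
    rw [ht1, one_pow] at hsum
    have : (Nat.card H : ℂ) - 1 = ∑ φ ∈ Finset.univ.erase triv, ((φ : H → ℂ) 1) ^ 2 := by
      rw [← hsum]; ring
    rw [this, Finset.mul_sum]
    push_cast
    apply Finset.sum_congr rfl
    intro φ hφ
    have hne : φ ≠ triv := (Finset.mem_erase.mp hφ).1
    rw [sq, ← mul_assoc, hn φ hne, hd φ]
  -- x |H| is an integer
  obtain ⟨z, hz⟩ := exists_ne (1 : H)
  obtain ⟨φ₀, hφ₀⟩ := Helper83.exists_irr_ne_of_ne_one hz
  have hne₀ : φ₀ ≠ triv := by
    intro h
    apply hφ₀
    rw [h]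
  obtain ⟨q, hq⟩ := hdvd φ₀
  have h2 : x * (Nat.card H : ℂ) = ((n φ₀ * (q : ℤ) : ℤ) : ℂ) := by
    rw [hq]
    push_cast
    rw [← mul_assoc, ← hd φ₀, hn φ₀ hne₀]
  refine ⟨n φ₀ * (q : ℤ) - ∑ φ ∈ Finset.univ.erase triv, n φ * (d φ : ℤ), ?_⟩
  rw [Int.cast_sub, ← h1, ← h2]
  ring

end IntLemmas

section Coh

variable {G : Type*} [Group G] [Fintype G] (N : Subgroup G) [Fintype N]
  {S : Set (N → ℂ)} {star : (N → ℂ) → (G → ℂ)}

/-- Frobenius reciprocity for a map extending induction -/
theorem star_restrict_inner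
    (hext : ∀ α ∈ zspanOn S ({1}ᶜ : Set N), star α = indFun N α)
    {θ : G → ℂ} (hθ : IsClassFunction G θ) {α : N → ℂ} (hα : α ∈ zspanOn S ({1}ᶜ : Set N)) :
    classInner (fun x : N => θ x) α = classInner θ (star α) := by
  rw [hext α hα, classInner_indFun_right N α θ hθ]

omit [Fintype G] [Fintype N] in
/-- the combination `a χ - b ξ` vanishing at `1` -/
theorem cross_mem_zspanOn {χ ξ : N → ℂ} (hχ : χ ∈ S) (hξ : ξ ∈ S) (a b : ℤ)
    (h : (a : ℂ) * χ 1 = (b : ℂ) * ξ 1) : a • χ - b • ξ ∈ zspanOn S ({1}ᶜ : Set N) := by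
  rw [mem_zspanOn_compl_one_iff]
  refine ⟨sub_mem_zspan (zsmul_mem_zspan a (mem_zspan_of_mem hχ))
    (zsmul_mem_zspan b (mem_zspan_of_mem hξ)), ?_⟩
  simp [h]

theorem star_cross (hstar : IsLinearIsometryOn (zspan S) star) {χ ξ : N → ℂ} (hχ : χ ∈ S)
    (hξ : ξ ∈ S) (a b : ℤ) : star (a • χ - b • ξ) = a • star χ - b • star ξ := by
  rw [LIO.map_sub_zspan hstar (zsmul_mem_zspan a (mem_zspan_of_mem hχ))
    (zsmul_mem_zspan b (mem_zspan_of_mem hξ)),
    LIO.map_zsmul hstar (mem_zspan_of_mem hχ), LIO.map_zsmul hstar (mem_zspan_of_mem hξ)]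

end Coh

section Normalizer

variable {G : Type*} [Group G] (K : Subgroup G)

/-- the centraliser condition passes to the normaliser -/
theorem frobTI_hC (hC : ∀ k ∈ K, k ≠ 1 → Subgroup.centralizer ({k} : Set G) ≤ K) :
    ∀ k ∈ K.subgroupOf (Subgroup.normalizer (K : Set G)), k ≠ 1 →
      Subgroup.centralizer ({k} : Set ↥(Subgroup.normalizer (K : Set G))) ≤
        K.subgroupOf (Subgroup.normalizer (K : Set G)) := by
  intro k hk hk1 x hx
  rw [Subgroup.mem_subgroupOf]
  apply hC (k : G) hk (fun h => hk1 (Subtype.ext h))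
  rw [Subgroup.mem_centralizer_iff]
  intro h hh
  rw [Set.mem_singleton_iff] at hh
  subst hh
  have := (Subgroup.mem_centralizer_iff.mp hx) k (Set.mem_singleton k)
  exact congrArg Subtype.val this

end Normalizer

end Cfsg.Agent.Lib.Helper34
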