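import Mathlib
import Cfsg.Agent.Lib.Helper05.CharDecomp
import Cfsg.Agent.Lib.Helper34.GenChar

/-!
# More on generalized characters of small norm (helper34)
-/

set_option autoImplicit false

namespace Cfsg.Agent.Lib.Helper34

open scoped ComplexConjugate
open Cfsg

universe u

variable {G : Type u} [Group G] [Fintype G]

/-- a generalized character of norm two vanishing at `1` is a difference of two distinct
irreducible characters (of the same degree). -/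
theorem exists_sub_irr_of_norm_two {θ : G → ℂ} (h : IsGeneralizedCharacter G θ)
    (h2 : classInner θ θ = 2) (h1 : θ 1 = 0) :
    ∃ ψ₁ ψ₂ : G → ℂ, IsIrrCharacter G ψ₁ ∧ IsIrrCharacter G ψ₂ ∧ ψ₁ ≠ ψ₂ ∧ θ = ψ₁ - ψ₂ := by
  obtain ⟨ψ₁, ψ₂, ε₁, ε₂, hψ₁, hψ₂, hne, hε₁, hε₂, rfl⟩ := exists_two_irr_of_norm_two h h2
  obtain ⟨n₁, hn₁, hd₁⟩ := Helper05.exists_pos_degree hψ₁
  obtain ⟨n₂, hn₂, hd₂⟩ := Helper05.exists_pos_degree hψ₂
  simp only [Pi.add_apply, Pi.smul_apply, smul_eq_mul, hd₁, hd₂] at h1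
  have h1' : ε₁ * (n₁ : ℤ) + ε₂ * (n₂ : ℤ) = 0 := by exact_mod_cast h1
  have hn₁' : (0 : ℤ) < n₁ := by exact_mod_cast hn₁
  have hn₂' : (0 : ℤ) < n₂ := by exact_mod_cast hn₂
  rcases hε₁ with rfl | rfl <;> rcases hε₂ with rfl | rfl
  · exfalso; nlinarith
  · exact ⟨ψ₁, ψ₂, hψ₁, hψ₂, hne, by funext g; simp; ring⟩
  · exact ⟨ψ₂, ψ₁, hψ₂, hψ₁, hne.symm, by funext g; simp; ring⟩
  · exfalso; nlinarith

/-- inner product of differences of irreducible characters: if it vanishes then no constituent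
is shared. -/
theorem irr_ne_of_inner_sub_eq_zero {μ₁ μ₂ ψ₁ ψ₂ : G → ℂ}
    (hμ₁ : IsIrrCharacter G μ₁) (hμ₂ : IsIrrCharacter G μ₂) (hψ₁ : IsIrrCharacter G ψ₁)
    (hψ₂ : IsIrrCharacter G ψ₂) (hμ : μ₁ ≠ μ₂) (hψ : ψ₁ ≠ ψ₂)
    (h0 : classInner (μ₁ - μ₂) (ψ₁ - ψ₂) = 0) :
    μ₁ ≠ ψ₁ ∧ μ₁ ≠ ψ₂ ∧ μ₂ ≠ ψ₁ ∧ μ₂ ≠ ψ₂ := by
  classical
  rw [classInner_sub_left, classInner_sub_right, classInner_sub_right,
    Helper05.classInner_irr hμ₁ hψ₁, Helper05.classInner_irr hμ₁ hψ₂,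
    Helper05.classInner_irr hμ₂ hψ₁, Helper05.classInner_irr hμ₂ hψ₂] at h0
  by_cases h11 : μ₁ = ψ₁
  · exfalso
    have h12 : μ₁ ≠ ψ₂ := fun h => hψ (h11.symm.trans h)
    have h21 : μ₂ ≠ ψ₁ := fun h => hμ (h11.trans h.symm)
    rw [if_pos h11, if_neg h12, if_neg h21] at h0
    by_cases h22 : μ₂ = ψ₂
    · rw [if_pos h22] at h0; norm_num at h0
    · rw [if_neg h22] at h0; norm_num at h0
  · by_cases h22 : μ₂ = ψ₂
    · exfalso
      have h12 : μ₁ ≠ ψ₂ := fun h => hμ (h.trans h22.symm)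
      have h21 : μ₂ ≠ ψ₁ := fun h => hψ (h.symm.trans h22)
      rw [if_neg h11, if_neg h12, if_neg h21, if_pos h22] at h0
      norm_num at h0
    · by_cases h12 : μ₁ = ψ₂
      · exfalso
        rw [if_neg h11, if_pos h12, if_neg h22] at h0
        by_cases h21 : μ₂ = ψ₁
        · rw [if_pos h21] at h0; norm_num at h0
        · rw [if_neg h21] at h0; norm_num at h0
      · by_cases h21 : μ₂ = ψ₁
        · exfalso
          rw [if_neg h11, if_neg h12, if_pos h21, if_neg h22] at h0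
          norm_num at h0
        · exact ⟨h11, h12, h21, h22⟩

end Cfsg.Agent.Lib.Helper34
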