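import Mathlib
import Cfsg.Prelude.Def_Characters
import Cfsg.Agent.Lib.Helper34.Induction

/-!
# Orthogonal projection on a finite orthonormal family, Pythagoras / Bessel for `classInner` (helper34)
-/

set_option autoImplicit false

namespace Cfsg.Agent.Lib.Helper34

open scoped ComplexConjugate
open Cfsg

variable {G : Type*} [Group G] [Fintype G] {ι : Type*} [DecidableEq ι]

/-- the part of `Δ` orthogonal to the family `v` over `T` -/
noncomputable def orthoPart (T : Finset ι) (v : ι → G → ℂ) (Δ : G → ℂ) : G → ℂ :=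
  Δ - ∑ i ∈ T, classInner Δ (v i) • v i

theorem orthoPart_inner (T : Finset ι) (v : ι → G → ℂ)
    (hv : ∀ i ∈ T, ∀ j ∈ T, classInner (v i) (v j) = if i = j then 1 else 0) (Δ : G → ℂ)
    (j : ι) (hj : j ∈ T) : classInner (orthoPart T v Δ) (v j) = 0 := by
  rw [orthoPart, classInner_sub_left, classInner_sum_left, Finset.sum_eq_single j]
  · rw [classInner_smul_left, hv j hj j hj, if_pos rfl, mul_one, sub_self]
  · intro i hi hij
    rw [classInner_smul_left, hv i hi j hj, if_neg hij, mul_zero]
  · intro h; exact absurd hj h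

theorem inner_orthoPart (T : Finset ι) (v : ι → G → ℂ)
    (hv : ∀ i ∈ T, ∀ j ∈ T, classInner (v i) (v j) = if i = j then 1 else 0) (Δ : G → ℂ)
    (j : ι) (hj : j ∈ T) : classInner (v j) (orthoPart T v Δ) = 0 := by
  rw [← classInner_conj_symm, orthoPart_inner T v hv Δ j hj, map_zero]

/-- **Pythagoras**: `‖Δ‖² = ∑ |⟨Δ, vᵢ⟩|² + ‖Δ'‖²`. -/
theorem pythagoras (T : Finset ι) (v : ι → G → ℂ)
    (hv : ∀ i ∈ T, ∀ j ∈ T, classInner (v i) (v j) = if i = j then 1 else 0) (Δ : G → ℂ) :
    classInner Δ Δ = ∑ i ∈ T, classInner Δ (v i) * conj (classInner Δ (v i))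
      + classInner (orthoPart T v Δ) (orthoPart T v Δ) := by
  set P := ∑ i ∈ T, classInner Δ (v i) • v i with hP
  set Δ' := orthoPart T v Δ with hΔ'
  have hΔ : Δ = Δ' + P := by rw [hΔ', orthoPart]; abel
  have h1 : classInner Δ' P = 0 := by
    rw [hP, classInner_sum_right]
    apply Finset.sum_eq_zero
    intro i hi
    rw [classInner_smul_right, orthoPart_inner T v hv Δ i hi, mul_zero]
  have h2 : classInner P Δ' = 0 := by
    rw [← classInner_conj_symm, h1, map_zero]
  have h3 : classInner P P = ∑ i ∈ T, classInner Δ (v i) * conj (classInner Δ (v i)) := by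
    rw [hP, classInner_sum_left]
    apply Finset.sum_congr rfl
    intro i hi
    rw [classInner_sum_right, Finset.sum_eq_single i]
    · rw [classInner_smul_left, classInner_smul_right, hv i hi i hi, if_pos rfl]; ring
    · intro j hj hji
      rw [classInner_smul_left, classInner_smul_right, hv i hi j hj, if_neg (Ne.symm hji)]; ring
    · intro h; exact absurd hi h
  conv_lhs => rw [hΔ]
  rw [classInner_add_left, classInner_add_right, classInner_add_right, h1, h2, h3]
  ring

end Cfsg.Agent.Lib.Helper34
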