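import Mathlib
import Cfsg.Prelude.Def_OddOrderChar
import Cfsg.Agent.Lib.Helper34.Induction
import Cfsg.Agent.Lib.Helper34.Coherence
import Cfsg.Agent.Lib.Helper34.Bessel

/-!
# More on `zspan`, `zspanOn`, linear isometries; real form of Pythagoras (helper34)
-/

set_option autoImplicit false

namespace Cfsg.Agent.Lib.Helper34

open scoped ComplexConjugate
open Cfsg

section

variable {X : Type*} {S : Set (X → ℂ)} {A : Set X}

/-- the integer span of a set of members of `zspanOn S A` stays inside `zspanOn S A` -/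
theorem zspan_subset_zspanOn {Z : Set (X → ℂ)} (hZ : Z ⊆ zspanOn S A) :
    zspan Z ⊆ zspanOn S A := by
  intro θ hθ
  exact zspan_induction (p := fun θ => θ ∈ zspanOn S A) hθ (fun x hx => hZ hx)
    zero_mem_zspanOn (fun x y hx hy => add_mem_zspanOn hx hy) (fun x hx => neg_mem_zspanOn hx)

theorem sum_mem_zspanOn {ι : Type*} (s : Finset ι) (f : ι → X → ℂ)
    (h : ∀ i ∈ s, f i ∈ zspanOn S A) : ∑ i ∈ s, f i ∈ zspanOn S A := by
  classical
  induction s using Finset.induction_on with
  | empty => simpa using zero_mem_zspanOn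
  | insert a s ha ih =>
    rw [Finset.sum_insert ha]
    exact add_mem_zspanOn (h a (Finset.mem_insert_self a s))
      (ih (fun i hi => h i (Finset.mem_insert_of_mem hi)))

end

section

variable {L : Type*} [Group L] [Fintype L] {G : Type*} [Group G] [Fintype G]
  {τ : (L → ℂ) → (G → ℂ)}

theorem LIO.map_sum_zspanOn {S : Set (L → ℂ)} {A : Set L}
    (h : IsLinearIsometryOn (zspanOn S A) τ) {ι : Type*} (s : Finset ι) (f : ι → L → ℂ)
    (hf : ∀ i ∈ s, f i ∈ zspanOn S A) : τ (∑ i ∈ s, f i) = ∑ i ∈ s, τ (f i) := by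
  classical
  induction s using Finset.induction_on with
  | empty =>
    simp only [Finset.sum_empty]
    exact LIO.map_zero h (zero_mem_zspanOn (S := S) (A := A))
  | insert a s ha ih =>
    rw [Finset.sum_insert ha, Finset.sum_insert ha,
      LIO.map_add h (hf a (Finset.mem_insert_self a s))
        (sum_mem_zspanOn s f (fun i hi => hf i (Finset.mem_insert_of_mem hi))),
      ih (fun i hi => hf i (Finset.mem_insert_of_mem hi))]

theorem LIO.map_sum_zspan {S : Set (L → ℂ)}
    (h : IsLinearIsometryOn (zspan S) τ) {ι : Type*} (s : Finset ι) (f : ι → L → ℂ)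
    (hf : ∀ i ∈ s, f i ∈ zspan S) : τ (∑ i ∈ s, f i) = ∑ i ∈ s, τ (f i) := by
  classical
  induction s using Finset.induction_on with
  | empty =>
    simp only [Finset.sum_empty]
    exact LIO.map_zero h (zero_mem_zspan (S := S))
  | insert a s ha ih =>
    rw [Finset.sum_insert ha, Finset.sum_insert ha,
      LIO.map_add h (hf a (Finset.mem_insert_self a s))
        (sum_mem_zspan s f (fun i hi => hf i (Finset.mem_insert_of_mem hi))),
      ih (fun i hi => hf i (Finset.mem_insert_of_mem hi))]

end

section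

variable {G : Type*} [Group G] [Fintype G] {ι : Type*} [DecidableEq ι]

/-- real form of Pythagoras -/
theorem pythagoras_re (T : Finset ι) (v : ι → G → ℂ)
    (hv : ∀ i ∈ T, ∀ j ∈ T, classInner (v i) (v j) = if i = j then 1 else 0) (Δ : G → ℂ) :
    (classInner Δ Δ).re = ∑ i ∈ T, ‖classInner Δ (v i)‖ ^ 2
      + (classInner (orthoPart T v Δ) (orthoPart T v Δ)).re := by
  have h := congrArg Complex.re (pythagoras T v hv Δ)
  rw [Complex.add_re, Complex.re_sum] at h
  rw [h]
  congr 1
  apply Finset.sum_congr rfl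
  intro i _
  rw [Complex.mul_conj, Complex.ofReal_re, Complex.normSq_eq_norm_sq]

/-- if the orthogonal part vanishes, the vector is its projection -/
theorem eq_sum_of_orthoPart_eq_zero (T : Finset ι) (v : ι → G → ℂ) (Δ : G → ℂ)
    (h : orthoPart T v Δ = 0) : Δ = ∑ i ∈ T, classInner Δ (v i) • v i := by
  rw [orthoPart, sub_eq_zero] at h
  exact h

end

end Cfsg.Agent.Lib.Helper34
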