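import Mathlib
import Cfsg.Prelude.Def_OddOrderChar
import Cfsg.Agent.Lib.Helper34.Induction
import Cfsg.Agent.Lib.Helper34.Coherence
import Cfsg.Agent.Lib.Helper34.GenChar

/-!
# Building a linear isometry on `zspan S` from an orthogonal family (helper34)

`S` a finite set of pairwise orthogonal functions with nonzero norms, `f` a map with
`⟨f φ, f φ'⟩ = ⟨φ, φ'⟩` on `S` and generalized-character values. Then
`orthoExt S f θ = ∑ φ ∈ S, (⟨θ, φ⟩ / ⟨φ, φ⟩) • f φ` is a linear isometry on `zspan S`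
agreeing with `f` on `S`.
-/

set_option autoImplicit false

namespace Cfsg.Agent.Lib.Helper34

open scoped ComplexConjugate
open Cfsg

section

variable {L : Type*} [Group L] [Fintype L] {G : Type*} [Group G] [Fintype G]

/-- the coefficient of `φ` in `θ` -/
noncomputable def coeffAt (θ φ : L → ℂ) : ℂ := classInner θ φ / classInner φ φ

/-- the extension of `f` from the orthogonal family `S` -/
noncomputable def orthoExt (S : Finset (L → ℂ)) (f : (L → ℂ) → (G → ℂ)) (θ : L → ℂ) : G → ℂ :=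
  ∑ φ ∈ S, coeffAt θ φ • f φ

theorem coeffAt_add (θ θ' φ : L → ℂ) : coeffAt (θ + θ') φ = coeffAt θ φ + coeffAt θ' φ := by
  simp only [coeffAt, classInner_add_left, add_div]

theorem coeffAt_zsmul (n : ℤ) (θ φ : L → ℂ) : coeffAt (n • θ) φ = n * coeffAt θ φ := by
  simp only [coeffAt, classInner_zsmul_left, mul_div_assoc]

theorem coeffAt_neg (θ φ : L → ℂ) : coeffAt (-θ) φ = -coeffAt θ φ := by
  simp only [coeffAt, classInner_neg_left, neg_div]

theorem coeffAt_zero (φ : L → ℂ) : coeffAt (0 : L → ℂ) φ = 0 := by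
  simp only [coeffAt, classInner_zero_left, zero_div]

theorem orthoExt_add (S : Finset (L → ℂ)) (f : (L → ℂ) → (G → ℂ)) (θ θ' : L → ℂ) :
    orthoExt S f (θ + θ') = orthoExt S f θ + orthoExt S f θ' := by
  simp only [orthoExt, coeffAt_add, add_smul, Finset.sum_add_distrib]

theorem orthoExt_zsmul (S : Finset (L → ℂ)) (f : (L → ℂ) → (G → ℂ)) (n : ℤ) (θ : L → ℂ) :
    orthoExt S f (n • θ) = n • orthoExt S f θ := by
  simp only [orthoExt, coeffAt_zsmul, Finset.smul_sum]
  apply Finset.sum_congr rfl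
  intro φ _
  funext g
  simp [mul_assoc]

theorem orthoExt_zero (S : Finset (L → ℂ)) (f : (L → ℂ) → (G → ℂ)) :
    orthoExt S f 0 = 0 := by
  simp [orthoExt, coeffAt_zero]

theorem orthoExt_neg (S : Finset (L → ℂ)) (f : (L → ℂ) → (G → ℂ)) (θ : L → ℂ) :
    orthoExt S f (-θ) = -orthoExt S f θ := by
  simp only [orthoExt, coeffAt_neg, neg_smul, Finset.sum_neg_distrib]

theorem orthoExt_sub (S : Finset (L → ℂ)) (f : (L → ℂ) → (G → ℂ)) (θ θ' : L → ℂ) :
    orthoExt S f (θ - θ') = orthoExt S f θ - orthoExt S f θ' := by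
  rw [sub_eq_add_neg, orthoExt_add, orthoExt_neg, sub_eq_add_neg]

variable (S : Finset (L → ℂ))
  (horth : ∀ φ ∈ S, ∀ φ' ∈ S, φ ≠ φ' → classInner φ φ' = 0)
  (hnz : ∀ φ ∈ S, classInner φ φ ≠ 0)

include horth hnz

theorem coeffAt_mem (φ φ' : L → ℂ) (hφ : φ ∈ S) (hφ' : φ' ∈ S) [Decidable (φ = φ')] :
    coeffAt φ φ' = if φ = φ' then 1 else 0 := by
  split_ifs with h
  · subst h
    exact div_self (hnz φ hφ)
  · simp only [coeffAt, horth φ hφ φ' hφ' h, zero_div]

/-- on the integer span the coefficients are integers -/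
theorem coeffAt_int {θ : L → ℂ} (hθ : θ ∈ zspan (↑S : Set (L → ℂ))) (φ : L → ℂ) (hφ : φ ∈ S) :
    ∃ n : ℤ, coeffAt θ φ = n := by
  classical
  refine zspan_induction (p := fun θ => ∃ n : ℤ, coeffAt θ φ = n) hθ ?_ ?_ ?_ ?_
  · intro x hx
    rw [coeffAt_mem S horth hnz x φ hx hφ]
    split_ifs
    · exact ⟨1, by simp⟩
    · exact ⟨0, by simp⟩
  · exact ⟨0, by simp [coeffAt_zero]⟩
  · rintro x y ⟨n, hn⟩ ⟨m, hm⟩
    exact ⟨n + m, by rw [coeffAt_add, hn, hm]; push_cast; ring⟩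
  · rintro x ⟨n, hn⟩
    exact ⟨-n, by rw [coeffAt_neg, hn]; push_cast; ring⟩

/-- expansion of a member of the integer span in the orthogonal family -/
theorem eq_sum_coeffAt {θ : L → ℂ} (hθ : θ ∈ zspan (↑S : Set (L → ℂ))) :
    θ = ∑ φ ∈ S, coeffAt θ φ • φ := by
  classical
  refine zspan_induction (p := fun θ => θ = ∑ φ ∈ S, coeffAt θ φ • φ) hθ ?_ ?_ ?_ ?_
  · intro x hx
    rw [Finset.sum_eq_single x]
    · rw [coeffAt_mem S horth hnz x x hx hx, if_pos rfl, one_smul]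
    · intro b hb hbx
      rw [coeffAt_mem S horth hnz x b hx hb, if_neg (Ne.symm hbx), zero_smul]
    · intro h; exact absurd hx h
  · simp [coeffAt_zero]
  · intro x y hx hy
    simp only [coeffAt_add, add_smul, Finset.sum_add_distrib]
    rw [← hx, ← hy]
  · intro x hx
    simp only [coeffAt_neg, neg_smul, Finset.sum_neg_distrib]
    rw [← hx]

theorem classInner_eq_sum_coeffAt {θ θ' : L → ℂ} (hθ : θ ∈ zspan (↑S : Set (L → ℂ)))
    (hθ' : θ' ∈ zspan (↑S : Set (L → ℂ))) :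
    classInner θ θ' = ∑ φ ∈ S, coeffAt θ φ * conj (coeffAt θ' φ) * classInner φ φ := by
  classical
  conv_lhs => rw [eq_sum_coeffAt S horth hnz hθ, eq_sum_coeffAt S horth hnz hθ']
  rw [classInner_sum_left]
  apply Finset.sum_congr rfl
  intro φ hφ
  rw [classInner_sum_right, Finset.sum_eq_single φ]
  · rw [classInner_smul_left, classInner_smul_right]; ring
  · intro b hb hbφ
    rw [classInner_smul_left, classInner_smul_right, horth φ hφ b hb (Ne.symm hbφ)]; ring
  · intro h; exact absurd hφ h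

/-- a member of the span of `insert χ S₀` with zero `χ`-coefficient lies in the span of `S₀` -/
theorem mem_zspan_of_coeffAt_eq_zero (S₀ : Finset (L → ℂ)) (χ : L → ℂ) [DecidableEq (L → ℂ)]
    (hχ : χ ∉ S₀) (hS : S = insert χ S₀)
    {θ : L → ℂ} (hθ : θ ∈ zspan (↑S : Set (L → ℂ))) (h0 : coeffAt θ χ = 0) :
    θ ∈ zspan (↑S₀ : Set (L → ℂ)) := by
  subst hS
  rw [eq_sum_coeffAt _ horth hnz hθ, Finset.sum_insert hχ, h0, zero_smul, zero_add]
  apply sum_mem_zspan
  intro φ hφ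
  obtain ⟨n, hn⟩ := coeffAt_int _ horth hnz hθ φ (Finset.mem_insert_of_mem hφ)
  rw [hn, Int.cast_smul_eq_zsmul]
  exact zsmul_mem_zspan n (mem_zspan_of_mem (Finset.mem_coe.mpr hφ))

variable (f : (L → ℂ) → (G → ℂ))

variable
  (hf : ∀ φ ∈ S, ∀ φ' ∈ S, classInner (f φ) (f φ') = classInner φ φ')
  (hgen : ∀ φ ∈ S, IsGeneralizedCharacter G (f φ))

include hf hgen

omit hf hgen in
theorem orthoExt_apply_mem (φ : L → ℂ) (hφ : φ ∈ S) : orthoExt S f φ = f φ := by
  classical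
  rw [orthoExt, Finset.sum_eq_single φ]
  · rw [coeffAt_mem S horth hnz φ φ hφ hφ, if_pos rfl, one_smul]
  · intro b hb hbφ
    rw [coeffAt_mem S horth hnz φ b hφ hb, if_neg (Ne.symm hbφ), zero_smul]
  · intro h; exact absurd hφ h

omit hf hgen in
/-- the extension agrees with a linear isometry `τ₁` on the span of a subfamily on which `f = τ₁` -/
theorem orthoExt_eq_of_agree (S₀ : Set (L → ℂ)) (hS₀ : S₀ ⊆ (↑S : Set (L → ℂ)))
    (τ₁ : (L → ℂ) → (G → ℂ)) (hτ₁ : IsLinearIsometryOn (zspan S₀) τ₁)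
    (hag : ∀ φ ∈ S₀, f φ = τ₁ φ) {θ : L → ℂ} (hθ : θ ∈ zspan S₀) :
    orthoExt S f θ = τ₁ θ := by
  have key : θ ∈ zspan S₀ ∧ orthoExt S f θ = τ₁ θ := by
    refine zspan_induction (p := fun θ => θ ∈ zspan S₀ ∧ orthoExt S f θ = τ₁ θ) hθ ?_ ?_ ?_ ?_
    · intro x hx
      exact ⟨mem_zspan_of_mem hx, by
        rw [orthoExt_apply_mem S horth hnz f x (Finset.mem_coe.mp (hS₀ hx)), hag x hx]⟩
    · exact ⟨zero_mem_zspan, by rw [orthoExt_zero, LIO.map_zero hτ₁ zero_mem_zspan]⟩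
    · rintro x y ⟨hx, hx'⟩ ⟨hy, hy'⟩
      exact ⟨add_mem_zspan hx hy, by rw [orthoExt_add, LIO.map_add hτ₁ hx hy, hx', hy']⟩
    · rintro x ⟨hx, hx'⟩
      exact ⟨neg_mem_zspan hx, by rw [orthoExt_neg, LIO.map_neg hτ₁ hx, hx']⟩
  exact key.2

/-- **the extension is a linear isometry on the integer span** -/
theorem orthoExt_isLinearIsometryOn :
    IsLinearIsometryOn (zspan (↑S : Set (L → ℂ))) (orthoExt S f) := by
  classical
  refine ⟨fun θ _ θ' _ => orthoExt_add S f θ θ', fun θ _ n => orthoExt_zsmul S f n θ, ?_, ?_⟩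
  · intro θ hθ θ' hθ'
    rw [classInner_eq_sum_coeffAt S horth hnz hθ hθ', orthoExt, orthoExt, classInner_sum_left]
    apply Finset.sum_congr rfl
    intro φ hφ
    rw [classInner_sum_right, Finset.sum_eq_single φ]
    · rw [classInner_smul_left, classInner_smul_right, hf φ hφ φ hφ]; ring
    · intro b hb hbφ
      rw [classInner_smul_left, classInner_smul_right, hf φ hφ b hb,
        horth φ hφ b hb (Ne.symm hbφ)]; ring
    · intro h; exact absurd hφ h
  · intro θ hθ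
    rw [orthoExt]
    apply isGeneralizedCharacter_sum
    intro φ hφ
    obtain ⟨n, hn⟩ := coeffAt_int S horth hnz hθ φ hφ
    rw [hn]
    exact isGeneralizedCharacter_intCast_smul n (hgen φ hφ)

end

end Cfsg.Agent.Lib.Helper34
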