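import Mathlib
import Cfsg.Prelude.Def_OddOrderChar
import Cfsg.Agent.S1530

/-!
# Feit's coherence criterion for irreducible characters, two-type form (helper34)

`feit_criterion` is `S1530.result` with the source group `N` an arbitrary finite group (not
necessarily a subgroup of `G`); the proof is the same.
-/

set_option autoImplicit false

namespace Cfsg.Agent.Lib.Helper34

open Cfsg
open Cfsg.Agent.Lib.Helper05 (classInner_irr classInner_irr_self classInner_irr_ne exists_pos_degree)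
open Cfsg.Agent.S1530 (arith_core)

theorem feit_criterion {N : Type*} [Group N] [Fintype N] {G : Type*} [Group G] [Fintype G]
    (S₀ : Finset (N → ℂ)) (χ : N → ℂ) (hirr : ∀ ξ ∈ S₀, Cfsg.IsIrrCharacter N ξ)
    (hχ : Cfsg.IsIrrCharacter N χ) (hχS : χ ∉ S₀) (d : (N → ℂ) → ℕ)
    (hd : ∀ ξ ∈ insert χ S₀, ξ 1 = (d ξ : ℂ)) (τ : (N → ℂ) → (G → ℂ))
    (hτ : Cfsg.IsLinearIsometryOn (Cfsg.zspanOn (↑(insert χ S₀) : Set (N → ℂ)) {1}ᶜ) τ)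
    (hτ1 : ∀ α ∈ Cfsg.zspanOn (↑(insert χ S₀) : Set (N → ℂ)) {1}ᶜ, τ α 1 = 0)
    (hcoh : Cfsg.IsCoherent (↑S₀ : Set (N → ℂ)) {1}ᶜ τ) (ψ : N → ℂ) (hψ : ψ ∈ S₀)
    (hdvd : d ψ ∣ d χ) (hlt : 2 * d ψ * d χ < ∑ ξ ∈ S₀, d ξ ^ 2) :
    Cfsg.IsCoherent (↑(insert χ S₀) : Set (N → ℂ)) {1}ᶜ τ := by
  classical
  obtain ⟨⟨α₀, hα₀, hα₀ne⟩, τ₁, hτ₁, hagree⟩ := hcoh
  -- inclusions
  have hS₀S : (↑S₀ : Set (N → ℂ)) ⊆ ↑(insert χ S₀) := by
    intro x hx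
    simp only [Finset.coe_insert, Set.mem_insert_iff]
    exact Or.inr hx
  have hsubOn : Cfsg.zspanOn (↑S₀ : Set (N → ℂ)) ({1}ᶜ : Set N) ⊆
      Cfsg.zspanOn (↑(insert χ S₀) : Set (N → ℂ)) ({1}ᶜ : Set N) :=
    fun x hx => ⟨zspan_mono hS₀S hx.1, hx.2⟩
  refine ⟨⟨α₀, hsubOn hα₀, hα₀ne⟩, ?_⟩
  -- irreducibility and degrees
  have hirrS : ∀ ξ ∈ insert χ S₀, Cfsg.IsIrrCharacter N ξ := by
    intro ξ hξ
    rcases Finset.mem_insert.mp hξ with rfl | h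
    · exact hχ
    · exact hirr ξ h
  have hdpos : ∀ ξ ∈ insert χ S₀, 0 < d ξ := by
    intro ξ hξ
    obtain ⟨n, hn, hn1⟩ := exists_pos_degree (hirrS ξ hξ)
    have : (d ξ : ℂ) = n := by rw [← hd ξ hξ, hn1]
    have : d ξ = n := by exact_mod_cast this
    omega
  have hψS : ψ ∈ insert χ S₀ := Finset.mem_insert_of_mem hψ
  have hχS' : χ ∈ insert χ S₀ := Finset.mem_insert_self χ S₀
  obtain ⟨a, ha⟩ := hdvd
  have hdψ : 0 < d ψ := hdpos ψ hψS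
  have ha_pos : 0 < a := by
    have := hdpos χ hχS'
    rw [ha] at this
    exact Nat.pos_of_mul_pos_left this |> fun h => by
      rcases Nat.eq_zero_or_pos a with h0 | h0
      · rw [h0, Nat.mul_zero] at this; omega
      · exact h0
  -- orthonormality in N
  have horthN : ∀ ξ ∈ insert χ S₀, ∀ ξ' ∈ insert χ S₀,
      Cfsg.classInner ξ ξ' = if ξ = ξ' then 1 else 0 :=
    fun ξ hξ ξ' hξ' => classInner_irr (hirrS ξ hξ) (hirrS ξ' hξ')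
  have hχS₀ : ∀ ξ ∈ S₀, Cfsg.classInner χ ξ = 0 := by
    intro ξ hξ
    rw [horthN χ hχS' ξ (Finset.mem_insert_of_mem hξ), if_neg]
    rintro rfl
    exact hχS hξ
  -- memberships
  have mS₀ : ∀ ξ ∈ S₀, ξ ∈ Cfsg.zspan (↑S₀ : Set (N → ℂ)) := fun ξ h => mem_zspan_of_mem h
  have mS : ∀ ξ ∈ insert χ S₀, ξ ∈ Cfsg.zspan (↑(insert χ S₀) : Set (N → ℂ)) :=
    fun ξ h => mem_zspan_of_mem h
  set β : N → ℂ := χ - (a : ℤ) • ψ with hβdef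
  have hβ : β ∈ Cfsg.zspanOn (↑(insert χ S₀) : Set (N → ℂ)) ({1}ᶜ : Set N) := by
    rw [mem_zspanOn_compl_one_iff]
    refine ⟨sub_mem_zspan (mS χ hχS') (zsmul_mem_zspan _ (mS ψ hψS)), ?_⟩
    simp only [hβdef, Pi.sub_apply, Pi.smul_apply, hd χ hχS', hd ψ hψS, ha]
    push_cast
    simp
    ring
  -- ζ
  have hζ : ∀ ξ ∈ S₀, ∀ ξ' ∈ S₀, (d ξ' : ℤ) • ξ - (d ξ : ℤ) • ξ' ∈
      Cfsg.zspanOn (↑S₀ : Set (N → ℂ)) ({1}ᶜ : Set N) := by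
    intro ξ hξ ξ' hξ'
    rw [mem_zspanOn_compl_one_iff]
    refine ⟨sub_mem_zspan (zsmul_mem_zspan _ (mS₀ ξ hξ)) (zsmul_mem_zspan _ (mS₀ ξ' hξ')), ?_⟩
    simp only [Pi.sub_apply, Pi.smul_apply, hd ξ (Finset.mem_insert_of_mem hξ),
      hd ξ' (Finset.mem_insert_of_mem hξ')]
    simp
    ring
  have hτ₁ζ : ∀ ξ ∈ S₀, ∀ ξ' ∈ S₀, τ₁ ((d ξ' : ℤ) • ξ - (d ξ : ℤ) • ξ') =
      (d ξ' : ℤ) • τ₁ ξ - (d ξ : ℤ) • τ₁ ξ' := by
    intro ξ hξ ξ' hξ'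
    rw [LIO.map_sub_zspan hτ₁ (zsmul_mem_zspan _ (mS₀ ξ hξ)) (zsmul_mem_zspan _ (mS₀ ξ' hξ')),
      LIO.map_zsmul hτ₁ (mS₀ ξ hξ), LIO.map_zsmul hτ₁ (mS₀ ξ' hξ')]
  set Δ : G → ℂ := τ β + (a : ℤ) • τ₁ ψ with hΔdef
  have hΔgen : Cfsg.IsGeneralizedCharacter G Δ :=
    isGeneralizedCharacter_add (LIO.isGenChar hτ hβ)
      (isGeneralizedCharacter_zsmul _ (LIO.isGenChar hτ₁ (mS₀ ψ hψ)))
  -- orthonormality of τ₁ on S₀
  have horth₁ : ∀ ξ ∈ S₀, ∀ ξ' ∈ S₀, Cfsg.classInner (τ₁ ξ) (τ₁ ξ') = if ξ = ξ' then 1 else 0 := by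
    intro ξ hξ ξ' hξ'
    rw [LIO.inner_eq hτ₁ (mS₀ ξ hξ) (mS₀ ξ' hξ')]
    exact horthN ξ (Finset.mem_insert_of_mem hξ) ξ' (Finset.mem_insert_of_mem hξ')
  -- (K1)
  have K1 : ∀ ξ ∈ S₀, ∀ ξ' ∈ S₀,
      Cfsg.classInner Δ ((d ξ' : ℤ) • τ₁ ξ - (d ξ : ℤ) • τ₁ ξ') = 0 := by
    intro ξ hξ ξ' hξ'
    have hz := hζ ξ hξ ξ' hξ'
    rw [← hτ₁ζ ξ hξ ξ' hξ', hΔdef, classInner_add_left, classInner_zsmul_left]
    rw [LIO.inner_eq hτ₁ (mS₀ ψ hψ) hz.1]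
    rw [hagree _ hz, LIO.inner_eq hτ hβ (hsubOn hz)]
    rw [← classInner_zsmul_left, ← classInner_add_left]
    have : β + (a : ℤ) • ψ = χ := by rw [hβdef]; abel
    rw [this, classInner_sub_right, classInner_zsmul_right, classInner_zsmul_right,
      hχS₀ ξ hξ, hχS₀ ξ' hξ']
    ring
  -- integrality
  have hint : ∀ ξ ∈ S₀, ∃ z : ℤ, Cfsg.classInner Δ (τ₁ ξ) = z :=
    fun ξ hξ => classInner_genChar_int hΔgen (LIO.isGenChar hτ₁ (mS₀ ξ hξ))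
  choose! z hz using hint
  have K2 : ∀ ξ ∈ S₀, ∀ ξ' ∈ S₀, (d ξ' : ℤ) * z ξ = (d ξ : ℤ) * z ξ' := by
    intro ξ hξ ξ' hξ'
    have := K1 ξ hξ ξ' hξ'
    rw [classInner_sub_right, classInner_zsmul_right, classInner_zsmul_right, hz ξ hξ,
      hz ξ' hξ'] at this
    have h2 : (((d ξ' : ℤ) * z ξ - (d ξ : ℤ) * z ξ' : ℤ) : ℂ) = 0 := by
      push_cast
      push_cast at this
      exact this
    have h3 : (d ξ' : ℤ) * z ξ - (d ξ : ℤ) * z ξ' = 0 := by exact_mod_cast h2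
    linarith
  -- more orthogonality
  have hS₀χ : ∀ ξ ∈ S₀, Cfsg.classInner ξ χ = 0 := by
    intro ξ hξ
    rw [← classInner_conj_symm, hχS₀ ξ hξ, map_zero]
  have hχχ : Cfsg.classInner χ χ = 1 := by rw [horthN χ hχS' χ hχS', if_pos rfl]
  have hψψ : Cfsg.classInner ψ ψ = 1 := by rw [horthN ψ hψS ψ hψS, if_pos rfl]
  have hββ : Cfsg.classInner β β = 1 + (a : ℂ) ^ 2 := by
    rw [hβdef, classInner_sub_left, classInner_sub_right, classInner_sub_right,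
      classInner_zsmul_left, classInner_zsmul_left, classInner_zsmul_right, classInner_zsmul_right,
      hχχ, hψψ, hχS₀ ψ hψ, hS₀χ ψ hψ]
    push_cast
    ring
  have hτ₁ψψ : Cfsg.classInner (τ₁ ψ) (τ₁ ψ) = 1 := by
    rw [horth₁ ψ hψ ψ hψ, if_pos rfl]
  -- (K3)
  have K3 : Cfsg.classInner (τ β) (τ₁ ψ) = (z ψ : ℂ) - a := by
    have := hz ψ hψ
    rw [hΔdef, classInner_add_left, classInner_zsmul_left, hτ₁ψψ] at this
    push_cast at this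
    linear_combination this
  have K3' : Cfsg.classInner (τ₁ ψ) (τ β) = (z ψ : ℂ) - a := by
    rw [← classInner_conj_symm, K3]
    simp
  -- (K4)
  have K4 : Cfsg.classInner Δ Δ = 1 + 2 * (a : ℂ) * z ψ := by
    rw [hΔdef, classInner_add_left, classInner_add_right, classInner_add_right,
      classInner_zsmul_left, classInner_zsmul_left, classInner_zsmul_right, classInner_zsmul_right,
      LIO.inner_eq hτ hβ hβ, hββ, K3, K3', hτ₁ψψ]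
    push_cast
    ring
  -- (K5) Pythagoras
  have K5 := pythagoras S₀ τ₁ horth₁ Δ
  set Δ' : G → ℂ := orthoPart S₀ τ₁ Δ with hΔ'def
  have hΔ'gen : Cfsg.IsGeneralizedCharacter G Δ' := by
    rw [hΔ'def, orthoPart]
    apply isGeneralizedCharacter_sub hΔgen
    apply isGeneralizedCharacter_sum
    intro ξ hξ
    rw [hz ξ hξ]
    exact isGeneralizedCharacter_intCast_smul _ (LIO.isGenChar hτ₁ (mS₀ ξ hξ))
  obtain ⟨N', hN'⟩ := classInner_genChar_int hΔ'gen hΔ'gen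
  have hN'nn : 0 ≤ N' := by
    have := classInner_self_re_nonneg Δ'
    rw [hN'] at this
    simp at this
    exact_mod_cast this
  have K5' : 1 + 2 * (a : ℤ) * z ψ = ∑ ξ ∈ S₀, z ξ ^ 2 + N' := by
    have h1 : ∑ ξ ∈ S₀, Cfsg.classInner Δ (τ₁ ξ) * (starRingEnd ℂ) (Cfsg.classInner Δ (τ₁ ξ))
        = ∑ ξ ∈ S₀, ((z ξ ^ 2 : ℤ) : ℂ) := by
      apply Finset.sum_congr rfl
      intro ξ hξ
      rw [hz ξ hξ]
      simp
      ring
    rw [K4, h1, hN'] at K5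
    have : ((1 + 2 * (a : ℤ) * z ψ : ℤ) : ℂ) = ((∑ ξ ∈ S₀, z ξ ^ 2 + N' : ℤ) : ℂ) := by
      push_cast
      push_cast at K5
      exact K5
    exact_mod_cast this
  -- multiply by dψ²
  have hsum1 : (d ψ : ℤ) ^ 2 * ∑ ξ ∈ S₀, z ξ ^ 2 = z ψ ^ 2 * ∑ ξ ∈ S₀, (d ξ : ℤ) ^ 2 := by
    rw [Finset.mul_sum, Finset.mul_sum]
    apply Finset.sum_congr rfl
    intro ξ hξ
    have := K2 ξ hξ ψ hψ
    have h2 : ((d ψ : ℤ) * z ξ) ^ 2 = ((d ξ : ℤ) * z ψ) ^ 2 := by rw [this]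
    linear_combination h2
  -- values at one
  obtain ⟨ρ, hρ⟩ := isGeneralizedCharacter_apply_one (LIO.isGenChar hτ₁ (mS₀ ψ hψ))
  have hρne : ρ ≠ 0 := by
    intro h0
    rw [h0] at hρ
    rcases irr_or_neg_irr_of_norm_one (LIO.isGenChar hτ₁ (mS₀ ψ hψ)) hτ₁ψψ with h | h
    · obtain ⟨n, hn, hn1⟩ := exists_pos_degree h
      rw [hρ] at hn1
      have : (n : ℂ) = 0 := by rw [← hn1]; simp
      have : n = 0 := by exact_mod_cast this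
      omega
    · obtain ⟨n, hn, hn1⟩ := exists_pos_degree h
      rw [Pi.neg_apply, hρ] at hn1
      have : (n : ℂ) = 0 := by rw [← hn1]; simp
      have : n = 0 := by exact_mod_cast this
      omega
  have hrint : ∀ ξ ∈ S₀, ∃ r : ℤ, τ₁ ξ 1 = r :=
    fun ξ hξ => isGeneralizedCharacter_apply_one (LIO.isGenChar hτ₁ (mS₀ ξ hξ))
  choose! r hr using hrint
  have hrψ : r ψ = ρ := by
    have := hr ψ hψ
    rw [hρ] at this
    exact_mod_cast this.symm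
  have K6 : ∀ ξ ∈ S₀, (d ψ : ℤ) * r ξ = (d ξ : ℤ) * ρ := by
    intro ξ hξ
    have h1 := hτ1 _ (hsubOn (hζ ξ hξ ψ hψ))
    rw [← hagree _ (hζ ξ hξ ψ hψ), hτ₁ζ ξ hξ ψ hψ] at h1
    simp only [Pi.sub_apply, Pi.smul_apply, hr ξ hξ, hρ] at h1
    have h2 : (((d ψ : ℤ) * r ξ - (d ξ : ℤ) * ρ : ℤ) : ℂ) = 0 := by
      push_cast
      simpa using h1
    have h3 : (d ψ : ℤ) * r ξ - (d ξ : ℤ) * ρ = 0 := by exact_mod_cast h2
    linarith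
  have hΔ1 : Δ 1 = (a : ℂ) * ρ := by
    rw [hΔdef]
    simp only [Pi.add_apply, Pi.smul_apply, hτ1 β hβ, hρ]
    simp
  -- the arithmetic
  have hcore : z ψ = 0 := by
    refine arith_core a (d ψ) (∑ ξ ∈ S₀, d ξ ^ 2) (z ψ) N' ρ ha_pos hdψ ?_ hN'nn ?_ hρne ?_
    · rw [← ha]; exact hlt
    · push_cast
      rw [K5', mul_add, hsum1]
    · intro hN0
      have hΔ'0 : Δ' = 0 := by
        rw [← classInner_self_eq_zero, hN', hN0]
        simp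
      have hΔeq : Δ = ∑ ξ ∈ S₀, Cfsg.classInner Δ (τ₁ ξ) • τ₁ ξ := by
        have := hΔ'0
        rw [hΔ'def, orthoPart, sub_eq_zero] at this
        exact this
      have h1 : Δ 1 = ∑ ξ ∈ S₀, ((z ξ * r ξ : ℤ) : ℂ) := by
        conv_lhs => rw [hΔeq]
        rw [Finset.sum_apply]
        apply Finset.sum_congr rfl
        intro ξ hξ
        rw [Pi.smul_apply, hz ξ hξ, hr ξ hξ]
        simp
      rw [hΔ1] at h1
      have h2 : (a : ℤ) * ρ = ∑ ξ ∈ S₀, z ξ * r ξ := by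
        have : (((a : ℤ) * ρ : ℤ) : ℂ) = ((∑ ξ ∈ S₀, z ξ * r ξ : ℤ) : ℂ) := by
          push_cast
          push_cast at h1
          exact h1
        exact_mod_cast this
      have h3 : (d ψ : ℤ) ^ 2 * ∑ ξ ∈ S₀, z ξ * r ξ = z ψ * ρ * ∑ ξ ∈ S₀, (d ξ : ℤ) ^ 2 := by
        rw [Finset.mul_sum, Finset.mul_sum]
        apply Finset.sum_congr rfl
        intro ξ hξ
        have e1 := K2 ξ hξ ψ hψ
        have e2 := K6 ξ hξ
        have : ((d ψ : ℤ) * z ξ) * ((d ψ : ℤ) * r ξ) = ((d ξ : ℤ) * z ψ) * ((d ξ : ℤ) * ρ) := by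
          rw [e1, e2]
        linear_combination this
      push_cast
      rw [← h3, ← h2]
      ring
  have hzero : ∀ ξ ∈ S₀, z ξ = 0 := by
    intro ξ hξ
    have := K2 ξ hξ ψ hψ
    rw [hcore, mul_zero] at this
    have hd0 : (d ψ : ℤ) ≠ 0 := by exact_mod_cast hdψ.ne'
    exact (mul_eq_zero.mp this).resolve_left hd0
  have hΔΔ : Cfsg.classInner Δ Δ = 1 := by
    rw [K4, hcore]
    simp
  -- the extension
  set S : Finset (N → ℂ) := insert χ S₀ with hSdef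
  let f : (N → ℂ) → (G → ℂ) := fun ξ => if ξ = χ then Δ else τ₁ ξ
  have hfχ : f χ = Δ := if_pos rfl
  have hfS₀ : ∀ ξ ∈ S₀, f ξ = τ₁ ξ := by
    intro ξ hξ
    have : ξ ≠ χ := by rintro rfl; exact hχS hξ
    exact if_neg this
  have horthS : ∀ φ ∈ S, ∀ φ' ∈ S, φ ≠ φ' → Cfsg.classInner φ φ' = 0 := by
    intro φ hφ φ' hφ' hne
    rw [horthN φ hφ φ' hφ', if_neg hne]
  have hnzS : ∀ φ ∈ S, Cfsg.classInner φ φ ≠ 0 := by
    intro φ hφ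
    rw [horthN φ hφ φ hφ, if_pos rfl]
    exact one_ne_zero
  have hΔτ₁ : ∀ ξ ∈ S₀, Cfsg.classInner Δ (τ₁ ξ) = 0 := by
    intro ξ hξ
    rw [hz ξ hξ, hzero ξ hξ]
    simp
  have hτ₁Δ : ∀ ξ ∈ S₀, Cfsg.classInner (τ₁ ξ) Δ = 0 := by
    intro ξ hξ
    rw [← classInner_conj_symm, hΔτ₁ ξ hξ, map_zero]
  have hfiso : ∀ φ ∈ S, ∀ φ' ∈ S, Cfsg.classInner (f φ) (f φ') = Cfsg.classInner φ φ' := by
    intro φ hφ φ' hφ'
    rcases Finset.mem_insert.mp hφ with rfl | h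
    · rcases Finset.mem_insert.mp hφ' with rfl | h'
      · rw [hfχ, hΔΔ, hχχ]
      · rw [hfχ, hfS₀ φ' h', hΔτ₁ φ' h', hχS₀ φ' h']
    · rcases Finset.mem_insert.mp hφ' with rfl | h'
      · rw [hfχ, hfS₀ φ h, hτ₁Δ φ h, hS₀χ φ h]
      · rw [hfS₀ φ h, hfS₀ φ' h', LIO.inner_eq hτ₁ (mS₀ φ h) (mS₀ φ' h')]
  have hfgen : ∀ φ ∈ S, Cfsg.IsGeneralizedCharacter G (f φ) := by
    intro φ hφ
    rcases Finset.mem_insert.mp hφ with rfl | h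
    · rw [hfχ]; exact hΔgen
    · rw [hfS₀ φ h]; exact LIO.isGenChar hτ₁ (mS₀ φ h)
  refine ⟨orthoExt S f, orthoExt_isLinearIsometryOn S horthS hnzS f hfiso hfgen, ?_⟩
  intro α hα
  obtain ⟨n, hn⟩ := coeffAt_int S horthS hnzS hα.1 χ hχS'
  have hcβ : coeffAt β χ = 1 := by
    rw [coeffAt, hβdef, classInner_sub_left, classInner_zsmul_left, hχχ, hS₀χ ψ hψ]
    simp
  set γ : N → ℂ := α - n • β with hγdef
  have hγS : γ ∈ Cfsg.zspan (↑S : Set (N → ℂ)) :=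
    sub_mem_zspan hα.1 (zsmul_mem_zspan n hβ.1)
  have hγ0 : coeffAt γ χ = 0 := by
    rw [hγdef, sub_eq_add_neg, coeffAt_add, coeffAt_neg, coeffAt_zsmul, hcβ, hn]
    ring
  have hγS₀ : γ ∈ Cfsg.zspan (↑S₀ : Set (N → ℂ)) :=
    mem_zspan_of_coeffAt_eq_zero S horthS hnzS S₀ χ hχS hSdef hγS hγ0
  have hγOn : γ ∈ Cfsg.zspanOn (↑S₀ : Set (N → ℂ)) ({1}ᶜ : Set N) := by
    rw [mem_zspanOn_compl_one_iff]
    refine ⟨hγS₀, ?_⟩
    have h1 := (mem_zspanOn_compl_one_iff.mp hα).2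
    have h2 := (mem_zspanOn_compl_one_iff.mp hβ).2
    rw [hγdef, Pi.sub_apply, Pi.smul_apply, h1, h2]
    simp
  have hαdec : α = n • β + γ := by rw [hγdef]; abel
  have e1 : orthoExt S f β = τ β := by
    rw [hβdef, orthoExt_sub, orthoExt_zsmul, orthoExt_apply_mem S horthS hnzS f χ hχS',
      orthoExt_apply_mem S horthS hnzS f ψ hψS, hfχ, hfS₀ ψ hψ, hΔdef]
    abel
  have e2 : orthoExt S f γ = τ₁ γ :=
    orthoExt_eq_of_agree S horthS hnzS f (↑S₀ : Set (N → ℂ)) hS₀S τ₁ hτ₁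
      (fun φ hφ => hfS₀ φ (Finset.mem_coe.mp hφ)) hγS₀
  rw [hαdec, orthoExt_add, orthoExt_zsmul, e1, e2,
    LIO.map_add hτ (zsmul_mem_zspanOn n hβ) (hsubOn hγOn), LIO.map_zsmul hτ hβ n,
    hagree γ hγOn]

end Cfsg.Agent.Lib.Helper34
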