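import Mathlib
import Cfsg.Prelude.Def_OddOrderChar
import Cfsg.Agent.Lib.Helper34.Induction
import Cfsg.Agent.Lib.Helper34.GenChar
import Cfsg.Agent.Lib.Helper34.KerSum
import Cfsg.Agent.Lib.Helper34.FrobTI
import Cfsg.Agent.Lib.Helper83.Decompose
import Cfsg.Agent.Lib.Helper83.Constituent
import Cfsg.Agent.Lib.Helper83.Quotient
import Cfsg.Agent.Lib.Helper83.CharMisc
import Cfsg.Agent.Lib.Helper05.CharDecomp
import Cfsg.Agent.S1486
import Cfsg.Agent.S1487

/-!
# Functions induced from the irreducible characters of a normal subgroup (helper34)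

`K` is a normal subgroup of the finite group `L`; `inducedIrrAbove K A` is the set of functions
induced from the non-principal irreducible characters of `K` with `A` in their kernel.

* `classInner_indFun_irr_of_ne` : distinct induced functions are orthogonal.
* `conjFun_indFun`, `inducedIrrAbove_conj_mem`, `inducedIrrAbove_anti`, `inducedIrrAbove_finite`.
* `sum_inducedIrrAbove` : `∑_{φ ∈ S(A)} φ(1)² / ⟨φ, φ⟩ = [L:K] ([K:A] - 1)`.
* `exists_linear_above` : a non-principal linear character of the solvable group `K` trivial on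
  `A < K`.
-/

set_option autoImplicit false

namespace Cfsg.Agent.Lib.Helper34

open scoped ComplexConjugate
open Cfsg

section IndAbove

variable {L : Type*} [Group L] [Fintype L] (K : Subgroup L)

/-- complex conjugation commutes with induction -/
theorem conjFun_indFun (θ : K → ℂ) : Cfsg.conjFun (indFun K θ) = indFun K (Cfsg.conjFun θ) := by
  classical
  funext g
  simp only [Cfsg.conjFun, indFun_apply, map_mul, map_inv₀, map_natCast, map_sum]
  congr 1
  apply Finset.sum_congr rfl
  intro x _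
  by_cases h : x⁻¹ * g * x ∈ K
  · rw [extendByZero_apply_mem K _ h, extendByZero_apply_mem K _ h]
    rfl
  · rw [extendByZero_apply_not_mem K _ h, extendByZero_apply_not_mem K _ h, map_zero]

variable [hK : K.Normal]

/-- functions induced from irreducible characters of a normal subgroup are equal or orthogonal -/
theorem classInner_indFun_irr_of_ne {θ θ' : K → ℂ} (hθ : IsIrrCharacter K θ)
    (hθ' : IsIrrCharacter K θ') (hne : indFun K θ ≠ indFun K θ') :
    classInner (indFun K θ) (indFun K θ') = 0 := by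
  obtain ⟨h1, h2⟩ := Cfsg.Agent.S1486.result K θ' θ hθ' hθ
  by_cases hc : ∃ g : L, θ = fun h : K => θ' ⟨g * h * g⁻¹, hK.conj_mem h h.2 g⟩
  · exact absurd (h1 hc) hne
  · exact h2 hc

/-- `θ` is non-principal with `A` in its kernel -/
def IrrAbove (A : Subgroup L) (θ : K → ℂ) : Prop :=
  θ ≠ (fun _ => 1) ∧ ∀ a : K, (a : L) ∈ A → θ a = θ 1

omit hK in
theorem mem_inducedIrrAbove_iff (A : Subgroup L) (φ : L → ℂ) :
    φ ∈ inducedIrrAbove K A ↔
      ∃ θ : IrrCharacter K, IrrAbove K A (θ : K → ℂ) ∧ φ = indFun K (θ : K → ℂ) := by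
  constructor
  · rintro ⟨θ, hθ, h1, h2, rfl⟩
    exact ⟨⟨θ, hθ⟩, ⟨h1, h2⟩, rfl⟩
  · rintro ⟨θ, ⟨h1, h2⟩, rfl⟩
    exact ⟨θ.1, θ.2, h1, h2, rfl⟩

omit hK in
theorem inducedIrrAbove_anti {A B : Subgroup L} (h : A ≤ B) :
    inducedIrrAbove K B ⊆ inducedIrrAbove K A := by
  rintro φ ⟨θ, hθ, h1, h2, rfl⟩
  exact ⟨θ, hθ, h1, fun a ha => h2 a (h ha), rfl⟩

omit hK in
theorem inducedIrrAbove_finite (A : Subgroup L) : (inducedIrrAbove K A).Finite := by
  classical
  haveI : Finite (IrrCharacter K) := Helper05.finite_irrCharacter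
  apply Set.Finite.subset (Set.finite_range (fun θ : IrrCharacter K => indFun K (θ : K → ℂ)))
  rintro φ ⟨θ, hθ, -, -, rfl⟩
  exact ⟨⟨θ, hθ⟩, rfl⟩

omit hK in
theorem inducedIrrAbove_conj_mem (A : Subgroup L) {φ : L → ℂ} (hφ : φ ∈ inducedIrrAbove K A) :
    Cfsg.conjFun φ ∈ inducedIrrAbove K A := by
  letI : Fintype K := Fintype.ofFinite K
  obtain ⟨θ, hθ, h1, h2, rfl⟩ := hφ
  refine ⟨Cfsg.conjFun θ, Helper05.isIrrCharacter_conj hθ, ?_, ?_, conjFun_indFun K θ⟩
  · intro h
    apply h1
    funext k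
    have := congrFun h k
    simp only [Cfsg.conjFun] at this
    have h3 := congrArg (starRingEnd ℂ) this
    simpa using h3
  · intro a ha
    simp only [Cfsg.conjFun, h2 a ha]

omit hK in
theorem inducedIrrAbove_isCharacter (A : Subgroup L) {φ : L → ℂ} (hφ : φ ∈ inducedIrrAbove K A) :
    IsCharacter L φ := by
  obtain ⟨θ, hθ, -, -, rfl⟩ := hφ
  exact isCharacter_indFun K (Helper83.isCharacter_of_irr hθ)

open Classical in
/-- the key identity: `⟨φ, φ⟩ ∑_{θ, Ind θ = φ} θ(1) = φ(1)` -/
theorem inner_mul_fiber_sum [Fintype (IrrCharacter K)] (A : Subgroup L) [hA : A.Normal]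
    (hAK : A ≤ K) (θ₀ : IrrCharacter K) (h₀ : IrrAbove K A (θ₀ : K → ℂ)) :
    classInner (indFun K (θ₀ : K → ℂ)) (indFun K (θ₀ : K → ℂ)) *
      ∑ θ : IrrCharacter K,
        (if IrrAbove K A (θ : K → ℂ) ∧ indFun K (θ : K → ℂ) = indFun K (θ₀ : K → ℂ)
          then (θ : K → ℂ) 1 else 0) = indFun K (θ₀ : K → ℂ) 1 := by
  letI : Fintype K := Fintype.ofFinite K
  set φ := indFun K (θ₀ : K → ℂ) with hφ
  have hφcf : IsClassFunction L φ := indFun_isClassFunction K _
  haveI : (A.subgroupOf K).Normal := inferInstance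
  -- `φ` restricted to `K`
  set φK : K → ℂ := fun k => φ k with hφK
  have hφA : ∀ n ∈ A.subgroupOf K, φK n = φK 1 := by
    intro n hn
    have := (Cfsg.Agent.S1487.result A K hAK (θ₀ : K → ℂ) θ₀.2).mp h₀.2 (n : L)
      (Subgroup.mem_subgroupOf.mp hn)
    simpa [hφK, hφ] using this
  have hkey := sum_irr_kerGe_degree_inner (A.subgroupOf K) φK hφA
  -- real degree
  obtain ⟨d, hd⟩ : ∃ d : ℕ, φ 1 = d := Helper83.char_one_eq_nat
    (isCharacter_indFun K (Helper83.isCharacter_of_irr θ₀.2))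
  have hφK1 : φK 1 = φ 1 := rfl
  rw [hφK1, hd, Complex.conj_natCast] at hkey
  rw [hd, ← hkey, Finset.mul_sum]
  -- the trivial character
  have htriv : classInner (fun _ : K => (1 : ℂ)) φK = 0 := by
    have h1 := inner_ind_indFun_one K θ₀.2 h₀.1
    rw [← hφ, classInner_indFun_right K _ φ hφcf] at h1
    have h2 := congrArg (starRingEnd ℂ) h1
    rw [classInner_conj_symm, map_zero] at h2
    exact h2
  -- compare termwise
  have hterm : ∀ θ : IrrCharacter K,
      (if KerGe (A.subgroupOf K) (θ : K → ℂ) then (θ : K → ℂ) 1 * classInner (θ : K → ℂ) φK else 0)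
      = classInner φ φ * (if IrrAbove K A (θ : K → ℂ) ∧ indFun K (θ : K → ℂ) = φ
          then (θ : K → ℂ) 1 else 0) := by
    intro θ
    have hker : KerGe (A.subgroupOf K) (θ : K → ℂ) ↔ ∀ a : K, (a : L) ∈ A → (θ : K → ℂ) a = (θ : K → ℂ) 1 := by
      unfold KerGe
      constructor
      · intro h a ha; exact h a (Subgroup.mem_subgroupOf.mpr ha)
      · intro h a ha; exact h a (Subgroup.mem_subgroupOf.mp ha)
    have hfr : classInner (θ : K → ℂ) φK = classInner (indFun K (θ : K → ℂ)) φ :=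
      (classInner_indFun_left K _ φ hφcf).symm
    by_cases hk : KerGe (A.subgroupOf K) (θ : K → ℂ)
    · rw [if_pos hk]
      by_cases h1 : (θ : K → ℂ) = fun _ => 1
      · rw [if_neg (fun h => h.1.1 h1), mul_zero, h1, htriv, mul_zero]
      · by_cases h2 : indFun K (θ : K → ℂ) = φ
        · rw [if_pos ⟨⟨h1, hker.mp hk⟩, h2⟩, hfr, h2, mul_comm]
        · rw [if_neg (fun h => h2 h.2), mul_zero, hfr,
            classInner_indFun_irr_of_ne K θ.2 θ₀.2 h2, mul_zero]
    · rw [if_neg hk, if_neg (fun h => hk (hker.mpr h.1.2)), mul_zero]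
  apply Finset.sum_congr rfl
  intro θ _
  exact (hterm θ).symm

/-- **Sum of `φ(1)² / ⟨φ, φ⟩` over `S(A)`.** -/
theorem sum_inducedIrrAbove (A : Subgroup L) [hA : A.Normal] (hAK : A ≤ K)
    (T : Finset (L → ℂ)) (hT : (T : Set (L → ℂ)) = inducedIrrAbove K A) :
    ∑ φ ∈ T, φ 1 ^ 2 / classInner φ φ = (K.index : ℂ) * ((A.relIndex K : ℂ) - 1) := by
  classical
  haveI : Finite (IrrCharacter K) := Helper05.finite_irrCharacter
  letI : Fintype (IrrCharacter K) := Fintype.ofFinite _
  letI : Fintype K := Fintype.ofFinite K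
  haveI : (A.subgroupOf K).Normal := inferInstance
  set I : Finset (IrrCharacter K) := Finset.univ.filter (fun θ => IrrAbove K A (θ : K → ℂ)) with hI
  have hTI : T = I.image (fun θ : IrrCharacter K => indFun K θ.1) := by
    ext φ
    rw [← Finset.mem_coe, hT, mem_inducedIrrAbove_iff, Finset.mem_image]
    constructor
    · rintro ⟨θ, h1, rfl⟩
      exact ⟨θ, by simp [hI, h1], rfl⟩
    · rintro ⟨θ, h1, rfl⟩
      refine ⟨θ, ?_, rfl⟩
      simpa [hI] using h1
  rw [hTI, Finset.sum_image' (fun θ : IrrCharacter K => (K.index : ℂ) * ((θ : K → ℂ) 1) ^ 2)]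
  · -- total
    have hsq := sum_irr_kerGe_degree_sq (A.subgroupOf K)
    have hsplit : ∀ θ : IrrCharacter K,
        (if KerGe (A.subgroupOf K) (θ : K → ℂ) then ((θ : K → ℂ) 1) ^ 2 else 0) =
        (if IrrAbove K A (θ : K → ℂ) then ((θ : K → ℂ) 1) ^ 2 else 0) +
          (if θ = Helper83.trivChar K then 1 else 0) := by
      intro θ
      have hker : KerGe (A.subgroupOf K) (θ : K → ℂ) ↔
          ∀ a : K, (a : L) ∈ A → (θ : K → ℂ) a = (θ : K → ℂ) 1 := by
        unfold KerGe
        constructor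
        · intro h a ha; exact h a (Subgroup.mem_subgroupOf.mpr ha)
        · intro h a ha; exact h a (Subgroup.mem_subgroupOf.mp ha)
      by_cases h1 : θ = Helper83.trivChar K
      · have hk : KerGe (A.subgroupOf K) (θ : K → ℂ) := by
          rw [h1]; intro n _; rfl
        have hna : ¬ IrrAbove K A (θ : K → ℂ) := by
          rw [h1]; intro h; exact h.1 rfl
        rw [if_pos hk, if_neg hna, if_pos h1, h1]
        simp [Helper83.trivChar]
      · have h1' : (θ : K → ℂ) ≠ fun _ => 1 := by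
          intro h; apply h1; exact Subtype.ext h
        rw [if_neg h1, add_zero]
        by_cases hk : KerGe (A.subgroupOf K) (θ : K → ℂ)
        · rw [if_pos hk, if_pos ⟨h1', hker.mp hk⟩]
        · rw [if_neg hk, if_neg (fun h => hk (hker.mpr h.2))]
    simp_rw [hsplit] at hsq
    rw [Finset.sum_add_distrib, Finset.sum_ite_eq' Finset.univ (Helper83.trivChar K)] at hsq
    simp only [Finset.mem_univ, if_true] at hsq
    rw [hI, Finset.sum_filter]
    have hrel : (A.relIndex K : ℂ) = ((A.subgroupOf K).index : ℂ) := rfl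
    rw [hrel, ← hsq, add_sub_cancel_right, Finset.mul_sum]
    apply Finset.sum_congr rfl
    intro θ _
    split_ifs <;> simp
  · intro θ₀ hθ₀
    have h₀ : IrrAbove K A (θ₀ : K → ℂ) := by simpa [hI] using hθ₀
    have hkey := inner_mul_fiber_sum K A hAK θ₀ h₀
    set φ := indFun K (θ₀ : K → ℂ) with hφ
    set c : ℂ := ∑ θ : IrrCharacter K,
        (if IrrAbove K A (θ : K → ℂ) ∧ indFun K (θ : K → ℂ) = φ
          then (θ : K → ℂ) 1 else 0) with hc
    have hφ1 : φ 1 = (K.index : ℂ) * (θ₀ : K → ℂ) 1 := Helper83.indFun_one_eq K _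
    have hφ1ne : φ 1 ≠ 0 := by
      rw [hφ1]
      apply mul_ne_zero
      · have : K.index ≠ 0 := Subgroup.index_ne_zero_of_finite
        exact_mod_cast this
      · exact Helper83.irr_degree_ne_zero θ₀
    have hn : classInner φ φ ≠ 0 := by
      intro h
      rw [h, zero_mul] at hkey
      exact hφ1ne hkey.symm
    have h1 : φ 1 ^ 2 / classInner φ φ = c * φ 1 := by
      rw [← hkey]
      field_simp
    show φ 1 ^ 2 / classInner φ φ = _
    rw [h1, hc, Finset.sum_mul, Finset.sum_filter, hI, Finset.sum_filter]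
    apply Finset.sum_congr rfl
    intro θ _
    by_cases ha : IrrAbove K A (θ : K → ℂ)
    · by_cases hb : indFun K (θ : K → ℂ) = φ
      · rw [if_pos ⟨ha, hb⟩, if_pos ha, if_pos hb, ← hb, Helper83.indFun_one_eq K _]
        ring
      · rw [if_neg (fun h => hb h.2), if_pos ha, if_neg hb, zero_mul]
    · rw [if_neg (fun h => ha h.1), if_neg ha, zero_mul]

omit hK in
/-- a non-principal linear character of the solvable group `K` with `A < K` in its kernel -/
theorem exists_linear_above (hsolv : Group.IsSolvable K) (A : Subgroup L)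
    [hAn : (A.subgroupOf K).Normal] (hAK : A < K) :
    ∃ lam : K → ℂ, IsIrrCharacter K lam ∧ lam 1 = 1 ∧ lam ≠ (fun _ => 1) ∧
      ∀ a : K, (a : L) ∈ A → lam a = lam 1 := by
  classical
  haveI : Nontrivial (↥K ⧸ A.subgroupOf K) := by
    rw [QuotientGroup.nontrivial_iff]
    intro h
    rw [Subgroup.subgroupOf_eq_top] at h
    exact absurd (le_antisymm hAK.le h) hAK.ne
  have hcomm : commutator (↥K ⧸ A.subgroupOf K) ≠ ⊤ :=
    (Group.IsSolvable.commutator_lt_top_of_nontrivial (↥K ⧸ A.subgroupOf K)).ne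
  obtain ⟨lam, h1, hne⟩ := Helper83.exists_nontrivial_linear hcomm
  refine ⟨fun k => (lam : ↥K ⧸ A.subgroupOf K → ℂ) (QuotientGroup.mk k),
    Helper83.isIrrCharacter_inflate _ lam.2, ?_, ?_, ?_⟩
  · exact h1
  · intro h
    apply hne
    apply Subtype.ext
    funext q
    obtain ⟨k, rfl⟩ := QuotientGroup.mk_surjective q
    exact congrFun h k
  · intro a ha
    have : (QuotientGroup.mk a : ↥K ⧸ A.subgroupOf K) = QuotientGroup.mk 1 := by
      rw [QuotientGroup.mk_one, QuotientGroup.eq_one_iff]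
      exact Subgroup.mem_subgroupOf.mpr ha
    simp only [this]

end IndAbove

end Cfsg.Agent.Lib.Helper34
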