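import Mathlib
import Cfsg.Prelude.Def_Characters
import Cfsg.Agent.Lib.Helper34.GenChar2
import Cfsg.Agent.Lib.Helper83.Abelian
import Cfsg.Agent.S0851

/-!
# Sign families (helper34)

An abstract version of the "exceptional characters" argument: a family `Δ i j` of generalized
characters of `G` vanishing at `1`, additive (`Δ i k = Δ i j + Δ j k`) and with the inner products
of the differences `e_i - e_j` of an orthonormal family, is of the form `ε (f i - f j)` for a sign
`ε` and an injective family `f` of irreducible characters.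
-/

set_option autoImplicit false

namespace Cfsg.Agent.Lib.Helper34

open Cfsg

variable {G : Type*} [Group G] [Fintype G]

theorem sign_family {I : Type*} [DecidableEq I] (Δ : I → I → (G → ℂ))
    (hgen : ∀ i j, IsGeneralizedCharacter G (Δ i j))
    (h1 : ∀ i j, Δ i j 1 = 0)
    (hadd : ∀ i j k, Δ i k = Δ i j + Δ j k)
    (hinner : ∀ i j k l, classInner (Δ i j) (Δ k l) =
      (if i = k then 1 else 0) - (if i = l then 1 else 0) - (if j = k then 1 else 0)
        + (if j = l then 1 else 0)) :
    ∃ (ε : ℂ) (f : I → IrrCharacter G), (ε = 1 ∨ ε = -1) ∧ Function.Injective f ∧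
      ∀ i j, Δ i j = ε • ((f i : G → ℂ) - (f j : G → ℂ)) := by
  classical
  have hself : ∀ i, Δ i i = 0 := by
    intro i
    have := hadd i i i
    have h2 : Δ i i + 0 = Δ i i + Δ i i := by rw [add_zero]; exact this
    exact (add_left_cancel h2).symm
  by_cases hsub : Subsingleton I
  · refine ⟨1, fun _ => ⟨fun _ => 1, Cfsg.Agent.Lib.Helper83.isIrrCharacter_one⟩, Or.inl rfl,
      fun a b _ => Subsingleton.elim a b, fun i j => ?_⟩
    rw [Subsingleton.elim i j, hself, sub_self, smul_zero]
  rw [not_subsingleton_iff_nontrivial] at hsub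
  obtain ⟨a, b, hab'⟩ := hsub.exists_pair_ne
  have hnorm : ∀ i : I, i ≠ a → classInner (Δ a i) (Δ a i) = 2 := by
    intro i hi
    rw [hinner, if_pos rfl, if_pos rfl, if_neg (Ne.symm hi), if_neg hi]
    norm_num
  have hdecomp : ∀ i : I, ∃ μν : IrrCharacter G × IrrCharacter G, i ≠ a →
      μν.1 ≠ μν.2 ∧ Δ a i = (μν.1 : G → ℂ) - (μν.2 : G → ℂ) := by
    intro i
    by_cases hi : i = a
    · exact ⟨⟨⟨fun _ => 1, Cfsg.Agent.Lib.Helper83.isIrrCharacter_one⟩,
        ⟨fun _ => 1, Cfsg.Agent.Lib.Helper83.isIrrCharacter_one⟩⟩, fun h => absurd hi h⟩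
    · obtain ⟨ψ₁, ψ₂, h1', h2', hne, heq⟩ :=
        exists_sub_irr_of_norm_two (hgen a i) (hnorm i hi) (h1 a i)
      exact ⟨⟨⟨ψ₁, h1'⟩, ⟨ψ₂, h2'⟩⟩, fun _ => ⟨fun h => hne (congrArg Subtype.val h), heq⟩⟩
  choose μν hμν using hdecomp
  have hcore := Cfsg.Agent.S0851.core (G := G) (I := {i : I // i ≠ a})
    (fun i => (μν i.1).1) (fun i => (μν i.1).2)
    (fun i => (hμν i.1 i.2).1)
    (by
      intro i j hij
      rw [← (hμν i.1 i.2).2, ← (hμν j.1 j.2).2, hinner, if_pos rfl,
        if_neg (Ne.symm j.2), if_neg i.2,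
        if_neg (fun h => hij (Subtype.ext h))]
      norm_num)
  have hgeneral : ∀ χ ξ : I, Δ χ ξ = Δ a ξ - Δ a χ := by
    intro χ ξ
    rw [hadd a χ ξ]
    abel
  rcases hcore with hP | hQ
  · set μ₀ : IrrCharacter G := (μν b).1 with hμ₀
    have hμall : ∀ i : I, i ≠ a → (μν i).1 = μ₀ := fun i hi =>
      (hP ⟨i, hi⟩ ⟨b, Ne.symm hab'⟩).1
    refine ⟨1, fun i => if i = a then μ₀ else (μν i).2, Or.inl rfl, ?_, ?_⟩
    · intro i j hij
      simp only at hij
      by_cases hi : i = a
      · by_cases hj : j = a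
        · rw [hi, hj]
        · rw [if_pos hi, if_neg hj] at hij
          exact absurd (((hμall j hj).trans hij)) (hμν j hj).1
      · by_cases hj : j = a
        · rw [if_neg hi, if_pos hj] at hij
          exact absurd ((hμall i hi).trans hij.symm) (hμν i hi).1
        · rw [if_neg hi, if_neg hj] at hij
          by_contra hne
          exact (hP ⟨i, hi⟩ ⟨j, hj⟩).2 (fun h => hne (congrArg Subtype.val h)) hij
    · have hΔ : ∀ i : I, Δ a i
          = (μ₀ : G → ℂ) - ((if i = a then μ₀ else (μν i).2 : IrrCharacter G) : G → ℂ) := by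
        intro i
        by_cases hi : i = a
        · rw [if_pos hi, hi, hself, sub_self]
        · rw [if_neg hi, (hμν i hi).2, hμall i hi]
      intro χ ξ
      rw [hgeneral, hΔ, hΔ, one_smul]
      abel
  · set ν₀ : IrrCharacter G := (μν b).2 with hν₀
    have hνall : ∀ i : I, i ≠ a → (μν i).2 = ν₀ := fun i hi =>
      (hQ ⟨i, hi⟩ ⟨b, Ne.symm hab'⟩).1
    refine ⟨-1, fun i => if i = a then ν₀ else (μν i).1, Or.inr rfl, ?_, ?_⟩
    · intro i j hij
      simp only at hij
      by_cases hi : i = a
      · by_cases hj : j = a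
        · rw [hi, hj]
        · rw [if_pos hi, if_neg hj] at hij
          exact absurd ((hνall j hj).trans hij).symm (hμν j hj).1
      · by_cases hj : j = a
        · rw [if_neg hi, if_pos hj] at hij
          exact absurd (hij.trans (hνall i hi).symm) (hμν i hi).1
        · rw [if_neg hi, if_neg hj] at hij
          by_contra hne
          exact (hQ ⟨i, hi⟩ ⟨j, hj⟩).2 (fun h => hne (congrArg Subtype.val h)) hij
    · have hΔ : ∀ i : I, Δ a i
          = ((if i = a then ν₀ else (μν i).1 : IrrCharacter G) : G → ℂ) - (ν₀ : G → ℂ) := by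
        intro i
        by_cases hi : i = a
        · rw [if_pos hi, hi, hself, sub_self]
        · rw [if_neg hi, (hμν i hi).2, hνall i hi]
      intro χ ξ
      rw [hgeneral, hΔ, hΔ, neg_one_smul]
      abel

end Cfsg.Agent.Lib.Helper34
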