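import Mathlib
import Cfsg.Prelude.Def_OddOrderChar
import Cfsg.Agent.Lib.Helper34.Induction
import Cfsg.Agent.Lib.Helper34.Coherence
import Cfsg.Agent.Lib.Helper34.GenChar
import Cfsg.Agent.Lib.Helper34.OrthoExt

/-!
# Extending a linear isometry by one orthogonal vector; weighted Pythagoras (helper34)
-/

set_option autoImplicit false

namespace Cfsg.Agent.Lib.Helper34

open scoped ComplexConjugate
open Cfsg

section

variable {L : Type*} [Group L] [Fintype L] {G : Type*} [Group G] [Fintype G]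

/-- **Extension by one vector.** `τ₁` a linear isometry on the integer span of a finite orthogonal
family `S₁`, `χ` a new vector orthogonal to `S₁`, `X` a generalized character of the same norm as
`χ` and orthogonal to all `τ₁ ξ`.  Then `τ₁` extends to `insert χ S₁` with `χ ↦ X`. -/
theorem extend_one [DecidableEq (L → ℂ)] (S₁ : Finset (L → ℂ))
    (horth₁ : ∀ φ ∈ S₁, ∀ φ' ∈ S₁, φ ≠ φ' → classInner φ φ' = 0)
    (hnz₁ : ∀ φ ∈ S₁, classInner φ φ ≠ 0)
    (τ₁ : (L → ℂ) → (G → ℂ)) (hτ₁ : IsLinearIsometryOn (zspan (↑S₁ : Set (L → ℂ))) τ₁)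
    (χ : L → ℂ) (hχ : χ ∉ S₁) (hχorth : ∀ ξ ∈ S₁, classInner χ ξ = 0)
    (hχnz : classInner χ χ ≠ 0) (X : G → ℂ) (hXgen : IsGeneralizedCharacter G X)
    (hXX : classInner X X = classInner χ χ) (hXorth : ∀ ξ ∈ S₁, classInner X (τ₁ ξ) = 0) :
    ∃ τ₂ : (L → ℂ) → (G → ℂ), IsLinearIsometryOn (zspan (↑(insert χ S₁) : Set (L → ℂ))) τ₂ ∧
      τ₂ χ = X ∧ ∀ θ ∈ zspan (↑S₁ : Set (L → ℂ)), τ₂ θ = τ₁ θ := by
  have mS₁ : ∀ ξ ∈ S₁, ξ ∈ zspan (↑S₁ : Set (L → ℂ)) := fun ξ h => mem_zspan_of_mem h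
  have hχorth' : ∀ ξ ∈ S₁, classInner ξ χ = 0 := by
    intro ξ hξ
    rw [← classInner_conj_symm, hχorth ξ hξ, map_zero]
  have hXorth' : ∀ ξ ∈ S₁, classInner (τ₁ ξ) X = 0 := by
    intro ξ hξ
    rw [← classInner_conj_symm, hXorth ξ hξ, map_zero]
  let f : (L → ℂ) → (G → ℂ) := fun ξ => if ξ = χ then X else τ₁ ξ
  have hfχ : f χ = X := if_pos rfl
  have hfS₁ : ∀ ξ ∈ S₁, f ξ = τ₁ ξ := by
    intro ξ hξ
    have : ξ ≠ χ := by rintro rfl; exact hχ hξ
    exact if_neg this
  have horthS : ∀ φ ∈ insert χ S₁, ∀ φ' ∈ insert χ S₁, φ ≠ φ' → classInner φ φ' = 0 := by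
    intro φ hφ φ' hφ' hne
    rcases Finset.mem_insert.mp hφ with rfl | h
    · rcases Finset.mem_insert.mp hφ' with rfl | h'
      · exact absurd rfl hne
      · exact hχorth φ' h'
    · rcases Finset.mem_insert.mp hφ' with rfl | h'
      · exact hχorth' φ h
      · exact horth₁ φ h φ' h' hne
  have hnzS : ∀ φ ∈ insert χ S₁, classInner φ φ ≠ 0 := by
    intro φ hφ
    rcases Finset.mem_insert.mp hφ with rfl | h
    · exact hχnz
    · exact hnz₁ φ h
  have hfiso : ∀ φ ∈ insert χ S₁, ∀ φ' ∈ insert χ S₁,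
      classInner (f φ) (f φ') = classInner φ φ' := by
    intro φ hφ φ' hφ'
    rcases Finset.mem_insert.mp hφ with rfl | h
    · rcases Finset.mem_insert.mp hφ' with rfl | h'
      · rw [hfχ, hXX]
      · rw [hfχ, hfS₁ φ' h', hXorth φ' h', hχorth φ' h']
    · rcases Finset.mem_insert.mp hφ' with rfl | h'
      · rw [hfχ, hfS₁ φ h, hXorth' φ h, hχorth' φ h]
      · rw [hfS₁ φ h, hfS₁ φ' h', LIO.inner_eq hτ₁ (mS₁ φ h) (mS₁ φ' h')]
  have hfgen : ∀ φ ∈ insert χ S₁, IsGeneralizedCharacter G (f φ) := by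
    intro φ hφ
    rcases Finset.mem_insert.mp hφ with rfl | h
    · rw [hfχ]; exact hXgen
    · rw [hfS₁ φ h]; exact LIO.isGenChar hτ₁ (mS₁ φ h)
  refine ⟨orthoExt (insert χ S₁) f,
    orthoExt_isLinearIsometryOn (insert χ S₁) horthS hnzS f hfiso hfgen, ?_, ?_⟩
  · rw [orthoExt_apply_mem (insert χ S₁) horthS hnzS f χ (Finset.mem_insert_self χ S₁), hfχ]
  · intro θ hθ
    refine orthoExt_eq_of_agree (insert χ S₁) horthS hnzS f (↑S₁ : Set (L → ℂ)) ?_ τ₁ hτ₁
      (fun φ hφ => hfS₁ φ (Finset.mem_coe.mp hφ)) hθ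
    intro x hx
    exact Finset.mem_coe.mpr (Finset.mem_insert_of_mem (Finset.mem_coe.mp hx))

end

section

variable {G : Type*} [Group G] [Fintype G] {ι : Type*} [DecidableEq ι]

/-- the part of `Δ` orthogonal to the orthogonal family `v` with squared norms `w` -/
noncomputable def orthoPartW (T : Finset ι) (v : ι → G → ℂ) (w : ι → ℝ) (Δ : G → ℂ) : G → ℂ :=
  Δ - ∑ i ∈ T, (classInner Δ (v i) / (w i : ℂ)) • v i

theorem orthoPartW_inner (T : Finset ι) (v : ι → G → ℂ) (w : ι → ℝ) (hw : ∀ i ∈ T, w i ≠ 0)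
    (hv : ∀ i ∈ T, ∀ j ∈ T, classInner (v i) (v j) = if i = j then (w i : ℂ) else 0)
    (Δ : G → ℂ) (j : ι) (hj : j ∈ T) : classInner (orthoPartW T v w Δ) (v j) = 0 := by
  rw [orthoPartW, classInner_sub_left, classInner_sum_left, Finset.sum_eq_single j]
  · rw [classInner_smul_left, hv j hj j hj, if_pos rfl]
    have : (w j : ℂ) ≠ 0 := by exact_mod_cast hw j hj
    field_simp
    ring
  · intro i hi hij
    rw [classInner_smul_left, hv i hi j hj, if_neg hij, mul_zero]
  · intro h; exact absurd hj h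

/-- weighted Pythagoras, real form -/
theorem pythagorasW_re (T : Finset ι) (v : ι → G → ℂ) (w : ι → ℝ) (hw : ∀ i ∈ T, w i ≠ 0)
    (hv : ∀ i ∈ T, ∀ j ∈ T, classInner (v i) (v j) = if i = j then (w i : ℂ) else 0)
    (Δ : G → ℂ) :
    (classInner Δ Δ).re = ∑ i ∈ T, ‖classInner Δ (v i)‖ ^ 2 / w i
      + (classInner (orthoPartW T v w Δ) (orthoPartW T v w Δ)).re := by
  set P := ∑ i ∈ T, (classInner Δ (v i) / (w i : ℂ)) • v i with hP
  set Δ' := orthoPartW T v w Δ with hΔ'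
  have hΔ : Δ = Δ' + P := by rw [hΔ', orthoPartW]; abel
  have h1 : classInner Δ' P = 0 := by
    rw [hP, classInner_sum_right]
    apply Finset.sum_eq_zero
    intro i hi
    rw [classInner_smul_right, orthoPartW_inner T v w hw hv Δ i hi, mul_zero]
  have h2 : classInner P Δ' = 0 := by
    rw [← classInner_conj_symm, h1, map_zero]
  have h3 : classInner P P = ∑ i ∈ T, ((‖classInner Δ (v i)‖ ^ 2 / w i : ℝ) : ℂ) := by
    rw [hP, classInner_sum_left]
    apply Finset.sum_congr rfl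
    intro i hi
    rw [classInner_sum_right, Finset.sum_eq_single i]
    · rw [classInner_smul_left, classInner_smul_right, hv i hi i hi, if_pos rfl]
      have hwi : (w i : ℂ) ≠ 0 := by exact_mod_cast hw i hi
      rw [map_div₀, Complex.conj_ofReal]
      push_cast
      rw [← Complex.mul_conj']
      field_simp
    · intro j hj hji
      rw [classInner_smul_left, classInner_smul_right, hv i hi j hj, if_neg (Ne.symm hji)]; ring
    · intro h; exact absurd hi h
  conv_lhs => rw [hΔ]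
  rw [classInner_add_left, classInner_add_right, classInner_add_right, h1, h2, h3]
  simp only [add_zero, zero_add, Complex.add_re, Complex.re_sum, Complex.ofReal_re]
  ring

end

end Cfsg.Agent.Lib.Helper34
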