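import Mathlib
import Cfsg.Prelude.Def_OddOrderChar
import Cfsg.Agent.Lib.Helper05.CharDecomp
import Cfsg.Agent.Lib.Helper34.GenChar
import Cfsg.Agent.Lib.Helper34.Coherence
import Cfsg.Agent.Lib.Helper34.Coherence2
import Cfsg.Agent.Lib.Helper34.OrthoExt
import Cfsg.Agent.Lib.Helper34.SignFamily
import Cfsg.Agent.Lib.Helper34.FeitCrit
import Cfsg.Agent.Lib.Helper34.IndAbove
import Cfsg.Agent.Lib.Helper83.Linear
import Cfsg.Agent.Lib.Helper83.Abelian
import Cfsg.Agent.S1492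
import Cfsg.Agent.S1519
import Cfsg.Agent.S1520

/-!
# Coherence for sets of irreducible characters (helper34)

Versions, for sets of *irreducible* characters (no closure under complex conjugation needed), of
the equal-degree coherence theorem and of the chain theorems `S1519`/`S1520`:

* `coherent_of_pivot`: generic construction of the extension `τ₁` from a "pivot" `X`;
* `coherent_of_equal_degree_irr`: a finite set of at least two irreducible characters of the same
  degree is coherent;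
* `chain_step_irr`: the analogue of `S1519.result`;
* `chainZ_irr`: the analogue of `S1520.result`, with an extra subgroup `Z` central modulo `M`.
-/

set_option autoImplicit false

namespace Cfsg.Agent.Lib.Helper34

open Cfsg
open scoped ComplexConjugate

section Pivot

variable {L : Type*} [Group L] [Fintype L] {G : Type*} [Group G] [Fintype G]

/-- generic construction of a coherent extension from a pivot `X` playing the role of `τ₁ χ` -/
theorem coherent_of_pivot (S : Set (L → ℂ)) (τ : (L → ℂ) → (G → ℂ))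
    (hτ : IsLinearIsometryOn (zspanOn S ({1}ᶜ : Set L)) τ)
    (hfin : S.Finite) (horth : ∀ φ ∈ S, ∀ φ' ∈ S, φ ≠ φ' → classInner φ φ' = 0)
    (hnz : ∀ φ ∈ S, classInner φ φ ≠ 0)
    (hdeg : ∀ φ ∈ S, ∀ ψ ∈ S, φ 1 = ψ 1) (χ : L → ℂ) (hχ : χ ∈ S) (hχ1 : χ 1 ≠ 0)
    (hne : ∃ α ∈ zspanOn S ({1}ᶜ : Set L), α ≠ 0)
    (X : G → ℂ) (hXgen : IsGeneralizedCharacter G X) (hXX : classInner X X = classInner χ χ)
    (hXβ' : ∀ φ ∈ S, classInner X (τ (χ - φ)) = classInner χ χ - classInner χ φ) :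
    IsCoherent S ({1}ᶜ : Set L) τ := by
  classical
  set T : Finset (L → ℂ) := hfin.toFinset with hTdef
  have hT : (↑T : Set (L → ℂ)) = S := hfin.coe_toFinset
  have hmemT : ∀ φ, φ ∈ T ↔ φ ∈ S := fun φ => hfin.mem_toFinset
  have horthT : ∀ φ ∈ T, ∀ φ' ∈ T, φ ≠ φ' → classInner φ φ' = 0 :=
    fun φ hφ φ' hφ' hne => horth φ ((hmemT φ).mp hφ) φ' ((hmemT φ').mp hφ') hne
  have hnzT : ∀ φ ∈ T, classInner φ φ ≠ 0 := fun φ hφ => hnz φ ((hmemT φ).mp hφ)
  have mdiff : ∀ a ∈ S, ∀ b ∈ S, a - b ∈ zspanOn S ({1}ᶜ : Set L) := by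
    intro a ha b hb
    rw [mem_zspanOn_compl_one_iff]
    refine ⟨sub_mem_zspan (mem_zspan_of_mem ha) (mem_zspan_of_mem hb), ?_⟩
    rw [Pi.sub_apply, hdeg a ha b hb, sub_self]
  let f : (L → ℂ) → (G → ℂ) := fun φ => X - τ (χ - φ)
  have hnconj : (starRingEnd ℂ) (classInner χ χ) = classInner χ χ :=
    Complex.conj_eq_iff_im.mpr (classInner_self_im χ)
  have hβX : ∀ φ ∈ S, classInner (τ (χ - φ)) X = classInner χ χ - classInner φ χ := by
    intro φ hφ
    rw [← classInner_conj_symm, hXβ' φ hφ, map_sub, hnconj, classInner_conj_symm]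
  have hfiso : ∀ φ ∈ T, ∀ φ' ∈ T, classInner (f φ) (f φ') = classInner φ φ' := by
    intro φ hφ φ' hφ'
    have hφS := (hmemT φ).mp hφ
    have hφ'S := (hmemT φ').mp hφ'
    simp only [f]
    rw [classInner_sub_left, classInner_sub_right, classInner_sub_right, hXX, hXβ' φ' hφ'S,
      hβX φ hφS, LIO.inner_eq hτ (mdiff χ hχ φ hφS) (mdiff χ hχ φ' hφ'S),
      classInner_sub_left, classInner_sub_right, classInner_sub_right]
    ring
  have hfgen : ∀ φ ∈ T, IsGeneralizedCharacter G (f φ) := fun φ hφ =>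
    isGeneralizedCharacter_sub hXgen (LIO.isGenChar hτ (mdiff χ hχ φ ((hmemT φ).mp hφ)))
  have hτ₁ := orthoExt_isLinearIsometryOn T horthT hnzT f hfiso hfgen
  rw [hT] at hτ₁
  refine ⟨hne, orthoExt T f, hτ₁, ?_⟩
  intro α hα
  have hαT : α ∈ zspan (↑T : Set (L → ℂ)) := by rw [hT]; exact hα.1
  have hint : ∀ φ ∈ T, ∃ k : ℤ, coeffAt α φ = k :=
    fun φ hφ => coeffAt_int T horthT hnzT hαT φ hφ
  choose! k hk using hint
  have hexp : α = ∑ φ ∈ T, k φ • φ := by
    conv_lhs => rw [eq_sum_coeffAt T horthT hnzT hαT]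
    apply Finset.sum_congr rfl
    intro φ hφ
    rw [hk φ hφ, Int.cast_smul_eq_zsmul]
  have hsumk : ∑ φ ∈ T, k φ = 0 := by
    have h1 := (mem_zspanOn_compl_one_iff.mp hα).2
    rw [hexp, Finset.sum_apply] at h1
    have h2 : ∑ φ ∈ T, (k φ • φ) 1 = (∑ φ ∈ T, (k φ : ℂ)) * χ 1 := by
      rw [Finset.sum_mul]
      apply Finset.sum_congr rfl
      intro φ hφ
      rw [Pi.smul_apply, hdeg φ ((hmemT φ).mp hφ) χ hχ]
      simp
    rw [h2] at h1
    have h3 : (∑ φ ∈ T, (k φ : ℂ)) = 0 := (mul_eq_zero.mp h1).resolve_right hχ1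
    exact_mod_cast h3
  have hexp2 : α = ∑ φ ∈ T, (-(k φ)) • (χ - φ) := by
    have h4 : ∑ φ ∈ T, (-(k φ)) • (χ - φ) = -((∑ φ ∈ T, k φ) • χ) + ∑ φ ∈ T, k φ • φ := by
      rw [Finset.sum_smul, ← Finset.sum_neg_distrib, ← Finset.sum_add_distrib]
      apply Finset.sum_congr rfl
      intro φ _
      rw [neg_smul, smul_sub]
      abel
    rw [h4, hsumk, zero_smul, neg_zero, zero_add]
    exact hexp
  have e2 : τ α = ∑ φ ∈ T, (-(k φ)) • τ (χ - φ) := by
    conv_lhs => rw [hexp2]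
    rw [LIO.map_sum_zspanOn hτ T _
      (fun φ hφ => zsmul_mem_zspanOn _ (mdiff χ hχ φ ((hmemT φ).mp hφ)))]
    apply Finset.sum_congr rfl
    intro φ hφ
    rw [LIO.map_zsmul hτ (mdiff χ hχ φ ((hmemT φ).mp hφ))]
  have e1 : orthoExt T f α = ∑ φ ∈ T, (-(k φ)) • τ (χ - φ) := by
    rw [orthoExt]
    have h5 : ∀ φ ∈ T, coeffAt α φ • f φ = k φ • X + (-(k φ)) • τ (χ - φ) := by
      intro φ hφ
      rw [hk φ hφ, Int.cast_smul_eq_zsmul]
      simp only [f]
      rw [smul_sub, neg_smul]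
      abel
    rw [Finset.sum_congr rfl h5, Finset.sum_add_distrib, ← Finset.sum_smul, hsumk, zero_smul,
      zero_add]
  rw [e1, e2]

/-- **Equal degrees.** A finite set of at least two irreducible characters of the same degree is
coherent. -/
theorem coherent_of_equal_degree_irr (S : Set (L → ℂ)) (τ : (L → ℂ) → (G → ℂ))
    (hτ : IsLinearIsometryOn (zspanOn S ({1}ᶜ : Set L)) τ)
    (hτ1 : ∀ α ∈ zspanOn S ({1}ᶜ : Set L), τ α 1 = 0)
    (hfin : S.Finite) (hirr : ∀ φ ∈ S, IsIrrCharacter L φ)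
    (hdeg : ∀ φ ∈ S, ∀ ψ ∈ S, φ 1 = ψ 1) (h2 : ∃ a ∈ S, ∃ b ∈ S, a ≠ b) :
    IsCoherent S ({1}ᶜ : Set L) τ := by
  classical
  obtain ⟨χ, hχ, b, hb, hχb⟩ := h2
  have mdiff : ∀ a ∈ S, ∀ b ∈ S, a - b ∈ zspanOn S ({1}ᶜ : Set L) := by
    intro a ha b hb
    rw [mem_zspanOn_compl_one_iff]
    refine ⟨sub_mem_zspan (mem_zspan_of_mem ha) (mem_zspan_of_mem hb), ?_⟩
    rw [Pi.sub_apply, hdeg a ha b hb, sub_self]
  have horthS : ∀ φ ∈ S, ∀ φ' ∈ S, classInner φ φ' = if φ = φ' then 1 else 0 :=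
    fun φ hφ φ' hφ' => Helper05.classInner_irr (hirr φ hφ) (hirr φ' hφ')
  obtain ⟨ε, f, hε, hf, hΔ⟩ := sign_family (G := G) (I := {φ : L → ℂ // φ ∈ S})
    (fun i j => τ (i.1 - j.1))
    (fun i j => LIO.isGenChar hτ (mdiff i.1 i.2 j.1 j.2))
    (fun i j => hτ1 _ (mdiff i.1 i.2 j.1 j.2))
    (fun i j k => by
      have : i.1 - k.1 = (i.1 - j.1) + (j.1 - k.1) := by abel
      rw [this, LIO.map_add hτ (mdiff i.1 i.2 j.1 j.2) (mdiff j.1 j.2 k.1 k.2)])
    (fun i j k l => by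
      rw [LIO.inner_eq hτ (mdiff i.1 i.2 j.1 j.2) (mdiff k.1 k.2 l.1 l.2), classInner_sub_left,
        classInner_sub_right, classInner_sub_right, horthS _ i.2 _ k.2, horthS _ i.2 _ l.2,
        horthS _ j.2 _ k.2, horthS _ j.2 _ l.2]
      simp only [Subtype.ext_iff]
      ring)
  have hεε : ε * conj ε = 1 := by
    rcases hε with h | h <;> rw [h] <;> simp
  have hχ1 : χ 1 ≠ 0 := Cfsg.Agent.Lib.Helper83.irr_degree_ne_zero ⟨χ, hirr χ hχ⟩
  refine coherent_of_pivot S τ hτ hfin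
    (fun φ hφ φ' hφ' hne => by rw [horthS φ hφ φ' hφ', if_neg hne])
    (fun φ hφ => by rw [horthS φ hφ φ hφ, if_pos rfl]; exact one_ne_zero)
    hdeg χ hχ hχ1 ⟨χ - b, mdiff χ hχ b hb, sub_ne_zero.mpr hχb⟩
    (ε • ((f ⟨χ, hχ⟩ : G → ℂ))) ?_ ?_ ?_
  · rcases hε with h | h
    · rw [h, one_smul]; exact isGeneralizedCharacter_of_irr (f ⟨χ, hχ⟩).2
    · rw [h, neg_one_smul]
      exact isGeneralizedCharacter_neg (isGeneralizedCharacter_of_irr (f ⟨χ, hχ⟩).2)
  · rw [classInner_smul_left, classInner_smul_right, Helper05.classInner_irr_self (f ⟨χ, hχ⟩).2,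
      horthS χ hχ χ hχ, if_pos rfl, mul_one]
    exact hεε
  · intro φ hφ
    have := hΔ ⟨χ, hχ⟩ ⟨φ, hφ⟩
    simp only at this
    rw [this, classInner_smul_left, classInner_smul_right, classInner_sub_right,
      Helper05.classInner_irr (f ⟨χ, hχ⟩).2 (f ⟨χ, hχ⟩).2,
      Helper05.classInner_irr (f ⟨χ, hχ⟩).2 (f ⟨φ, hφ⟩).2, if_pos rfl,
      horthS χ hχ χ hχ, horthS χ hχ φ hφ, if_pos rfl]
    by_cases h : χ = φ
    · subst h
      simp
    · have h' : (f ⟨χ, hχ⟩ : G → ℂ) ≠ (f ⟨φ, hφ⟩ : G → ℂ) := by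
        intro he
        apply h
        have := hf (Subtype.ext he)
        exact congrArg Subtype.val this
      rw [if_neg h', if_neg h, sub_zero, mul_one, hεε]

end Pivot

section Chain

variable {L : Type*} [Group L] [Fintype L] {G : Type*} [Group G] [Fintype G]

/-- the analogue of `S1519.result` for irreducible characters: if all members of `S = S(1)` are
irreducible, `S(A)` is coherent and `4 [L:C]² [C:D] < ([K:A] - 1)²` with `[D, C] ≤ B`, then
`S(A) ∪ S(B)` is coherent. -/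
theorem chain_step_irr (K : Subgroup L) [hK : K.Normal] (hsolv : Group.IsSolvable K)
    (hirrS : ∀ χ ∈ inducedIrrAbove K ⊥, IsIrrCharacter L χ)
    (τ : (L → ℂ) → (G → ℂ))
    (hτ : IsLinearIsometryOn (zspanOn (inducedIrrAbove K ⊥) ({1}ᶜ : Set L)) τ)
    (hτ1 : ∀ α ∈ zspanOn (inducedIrrAbove K ⊥) ({1}ᶜ : Set L), τ α 1 = 0)
    (A B C D : Subgroup L) [A.Normal] [B.Normal] [C.Normal] [D.Normal] (hAK : A < K)
    (hBD : B ≤ D) (hDC : D ≤ C) (hCK : C ≤ K)
    (hcent : ∀ x ∈ D, ∀ y ∈ C, x * y * x⁻¹ * y⁻¹ ∈ B)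
    (hA : IsCoherent (inducedIrrAbove K A) ({1}ᶜ : Set L) τ)
    (hlt : 4 * C.index ^ 2 * D.relIndex C < (A.relIndex K - 1) ^ 2) :
    IsCoherent (inducedIrrAbove K A ∪ inducedIrrAbove K B) ({1}ᶜ : Set L) τ := by
  classical
  have hSfin : (inducedIrrAbove K (⊥ : Subgroup L)).Finite := inducedIrrAbove_finite K ⊥
  have hSA_sub : inducedIrrAbove K A ⊆ inducedIrrAbove K ⊥ := inducedIrrAbove_anti K bot_le
  have hSB_sub : inducedIrrAbove K B ⊆ inducedIrrAbove K ⊥ := inducedIrrAbove_anti K bot_le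
  obtain ⟨SA, hSAcoe⟩ : ∃ SA : Finset (L → ℂ), (SA : Set (L → ℂ)) = inducedIrrAbove K A :=
    ⟨(inducedIrrAbove_finite K A).toFinset, Set.Finite.coe_toFinset _⟩
  obtain ⟨Sf, hSfcoe⟩ : ∃ Sf : Finset (L → ℂ), (Sf : Set (L → ℂ)) = inducedIrrAbove K ⊥ :=
    ⟨hSfin.toFinset, Set.Finite.coe_toFinset _⟩
  obtain ⟨d, -, hd, -⟩ := Cfsg.Agent.S1519.exists_dn (inducedIrrAbove K ⊥)
    (fun φ hφ => Cfsg.Agent.Lib.Helper83.isCharacter_of_irr (hirrS φ hφ))
  let P : Finset (L → ℂ) → Prop := fun S₁ => SA ⊆ S₁ ∧ IsCoherent (↑S₁ : Set (L → ℂ)) {1}ᶜ τ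
  have hSAcand : SA ∈ Sf.powerset.filter P := by
    rw [Finset.mem_filter, Finset.mem_powerset]
    refine ⟨?_, subset_refl _, ?_⟩
    · intro φ hφ
      rw [← Finset.mem_coe, hSfcoe]
      apply hSA_sub
      rw [← hSAcoe]
      exact Finset.mem_coe.mpr hφ
    · rw [hSAcoe]
      exact hA
  obtain ⟨S₁, hS₁mem, hS₁max⟩ :=
    Finset.exists_max_image (Sf.powerset.filter P) Finset.card ⟨SA, hSAcand⟩
  rw [Finset.mem_filter, Finset.mem_powerset] at hS₁mem
  obtain ⟨hS₁sub, hSAS₁, hS₁coh⟩ := hS₁mem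
  have hS₁S : (↑S₁ : Set (L → ℂ)) ⊆ inducedIrrAbove K ⊥ := by
    intro φ hφ
    rw [← hSfcoe]
    exact Finset.mem_coe.mpr (hS₁sub (Finset.mem_coe.mp hφ))
  haveI : (A.subgroupOf K).Normal := inferInstance
  obtain ⟨lam, hlam, hlam1, hlamne, hlamA⟩ := exists_linear_above K hsolv A hAK
  have hχ₁A : indFun K lam ∈ inducedIrrAbove K A := ⟨lam, hlam, hlamne, hlamA, rfl⟩
  have hχ₁S₁ : indFun K lam ∈ S₁ := by
    apply hSAS₁
    rw [← Finset.mem_coe, hSAcoe]
    exact hχ₁A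
  have hF5 := sum_inducedIrrAbove K A hAK.le SA hSAcoe
  have hKpos : 0 < K.index := Nat.pos_of_ne_zero Subgroup.index_ne_zero_of_finite
  have hd₁ : d (indFun K lam) = K.index := by
    have h1 := hd _ (hSA_sub hχ₁A)
    rw [Cfsg.Agent.Lib.Helper83.indFun_one_eq, hlam1, mul_one] at h1
    exact_mod_cast h1.symm
  have hr1 : 1 ≤ A.relIndex K := Nat.pos_of_ne_zero
    (Subgroup.index_ne_zero_of_finite : (A.subgroupOf K).index ≠ 0)
  have hF5' : ∑ φ ∈ SA, d φ ^ 2 = K.index * (A.relIndex K - 1) := by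
    have h1 : ((∑ φ ∈ SA, d φ ^ 2 : ℕ) : ℂ) = ((K.index * (A.relIndex K - 1) : ℕ) : ℂ) := by
      rw [Nat.cast_mul, Nat.cast_sub hr1, Nat.cast_one, ← hF5, Nat.cast_sum]
      apply Finset.sum_congr rfl
      intro φ hφ
      have hφS : φ ∈ inducedIrrAbove K ⊥ := by
        apply hSA_sub
        rw [← hSAcoe]
        exact Finset.mem_coe.mpr hφ
      rw [hd φ hφS, Helper05.classInner_irr_self (hirrS φ hφS), div_one]
      push_cast
      rfl
    exact_mod_cast h1
  have hle : ∑ φ ∈ SA, d φ ^ 2 ≤ ∑ φ ∈ S₁, d φ ^ 2 :=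
    Finset.sum_le_sum_of_subset hSAS₁
  have hclaim : inducedIrrAbove K B ⊆ (↑S₁ : Set (L → ℂ)) := by
    intro χ hχB
    by_contra hχ₁'
    have hχ₁ : χ ∉ S₁ := fun h => hχ₁' (Finset.mem_coe.mpr h)
    have hχS : χ ∈ inducedIrrAbove K ⊥ := hSB_sub hχB
    obtain ⟨θ, hθ, hθne, hθB, hχθ⟩ := hχB
    obtain ⟨t, ht⟩ := Cfsg.Agent.Lib.Helper83.char_one_eq_nat
      (Cfsg.Agent.Lib.Helper83.isCharacter_of_irr hθ)
    have hdχ : d χ = K.index * t := by
      have h1 := hd _ hχS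
      rw [hχθ, Cfsg.Agent.Lib.Helper83.indFun_one_eq, ht] at h1
      rw [hχθ]
      exact_mod_cast h1.symm
    have hdvd : d (indFun K lam) ∣ d χ := by
      rw [hd₁, hdχ]
      exact Dvd.intro _ rfl
    have hnum : 2 * K.index * t < A.relIndex K - 1 := by
      have h92 := Cfsg.Agent.S1492.result θ hθ (B.subgroupOf K) (C.subgroupOf K) (D.subgroupOf K)
        (fun x hx => Subgroup.mem_subgroupOf.mpr (hBD (Subgroup.mem_subgroupOf.mp hx)))
        (fun x hx => Subgroup.mem_subgroupOf.mpr (hDC (Subgroup.mem_subgroupOf.mp hx)))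
        (fun c _ b hb => Subgroup.mem_subgroupOf.mpr (by
            have := (inferInstance : B.Normal).conj_mem _ (Subgroup.mem_subgroupOf.mp hb) (c : L)
            simpa using this))
        (fun d hd c hc => Subgroup.mem_subgroupOf.mpr (by
            have := hcent _ (Subgroup.mem_subgroupOf.mp hd) _ (Subgroup.mem_subgroupOf.mp hc)
            simpa using this))
        (fun b hb => hθB b (Subgroup.mem_subgroupOf.mp hb))
      rw [Cfsg.Agent.S1519.card_subgroupOf_of_le hCK,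
        Cfsg.Agent.S1519.card_subgroupOf_of_le (hDC.trans hCK), ht] at h92
      have h1 : t ^ 2 * Nat.card C * Nat.card D ≤ (Nat.card K) ^ 2 := by
        have : ‖(t : ℂ)‖ = t := by simp
        rw [this] at h92
        exact_mod_cast h92
      have hJD : D.relIndex C * Nat.card D = Nat.card C := by
        have := Subgroup.index_mul_card (D.subgroupOf C)
        rwa [Cfsg.Agent.S1519.card_subgroupOf_of_le hDC] at this
      exact Cfsg.Agent.S1519.numeric Nat.card_pos Nat.card_pos h1 (Subgroup.index_mul_card K)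
        (Subgroup.index_mul_card C) hJD hlt
    have hineq : 2 * d (indFun K lam) * d χ < ∑ φ ∈ S₁, d φ ^ 2 := by
      refine lt_of_lt_of_le ?_ hle
      rw [hF5', hd₁, hdχ]
      calc 2 * K.index * (K.index * t) = K.index * (2 * K.index * t) := by ring
        _ < K.index * (A.relIndex K - 1) := Nat.mul_lt_mul_of_pos_left hnum hKpos
    have hins_sub : (↑(insert χ S₁) : Set (L → ℂ)) ⊆ inducedIrrAbove K ⊥ := by
      intro φ hφ
      rw [Finset.coe_insert, Set.mem_insert_iff] at hφ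
      rcases hφ with rfl | hφ
      · exact hχS
      · exact hS₁S hφ
    have hmono : zspanOn (↑(insert χ S₁) : Set (L → ℂ)) ({1}ᶜ : Set L) ⊆
        zspanOn (inducedIrrAbove K ⊥) ({1}ᶜ : Set L) :=
      fun x hx => ⟨zspan_mono hins_sub hx.1, hx.2⟩
    have hnew := feit_criterion S₁ χ (fun ξ hξ => hirrS ξ (hS₁S (Finset.mem_coe.mpr hξ)))
      (hirrS χ hχS) hχ₁ d (fun ξ hξ => hd ξ (hins_sub (Finset.mem_coe.mpr hξ))) τ
      (LIO.mono hτ hmono) (fun α hα => hτ1 α (hmono hα)) hS₁coh (indFun K lam) hχ₁S₁ hdvd hineq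
    have hS₂cand : insert χ S₁ ∈ Sf.powerset.filter P := by
      rw [Finset.mem_filter, Finset.mem_powerset]
      refine ⟨?_, ?_, hnew⟩
      · intro φ hφ
        rw [← Finset.mem_coe, hSfcoe]
        exact hins_sub (Finset.mem_coe.mpr hφ)
      · intro φ hφ
        exact Finset.mem_insert_of_mem (hSAS₁ hφ)
    have hcard : S₁.card < (insert χ S₁).card := by
      rw [Finset.card_insert_of_notMem hχ₁]
      exact Nat.lt_succ_self _
    exact absurd (hS₁max _ hS₂cand) (not_le.mpr hcard)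
  have hunion : inducedIrrAbove K A ∪ inducedIrrAbove K B ⊆ (↑S₁ : Set (L → ℂ)) := by
    apply Set.union_subset _ hclaim
    intro φ hφ
    rw [← hSAcoe] at hφ
    exact Finset.mem_coe.mpr (hSAS₁ (Finset.mem_coe.mp hφ))
  apply Cfsg.Agent.S1519.isCoherent_subset τ hunion hS₁coh
  obtain ⟨α, hα, hα0⟩ := hA.1
  exact ⟨α, ⟨zspan_mono Set.subset_union_left hα.1, hα.2⟩, hα0⟩

end Chain

section ChainZ

variable {L : Type*} [Group L] [Fintype L] {G : Type*} [Group G] [Fintype G]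

open Cfsg.Agent.S1520 (chain chain_normal le_chain chain_succ_le chain_le chain_le_lcs)

/-- the analogue of `S1520.result` for irreducible characters, with an extra normal subgroup `Z`
central in `K` modulo `M`: it improves the numerical condition by the factor `[Z : Z ∩ H₁]`. -/
theorem chainZ_irr (K : Subgroup L) [hK : K.Normal] (hsolv : Group.IsSolvable K)
    (hirrS : ∀ χ ∈ inducedIrrAbove K ⊥, IsIrrCharacter L χ)
    (τ : (L → ℂ) → (G → ℂ))
    (hτ : IsLinearIsometryOn (zspanOn (inducedIrrAbove K ⊥) ({1}ᶜ : Set L)) τ)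
    (hτ1 : ∀ α ∈ zspanOn (inducedIrrAbove K ⊥) ({1}ᶜ : Set L), τ α 1 = 0)
    (M H₁ Z : Subgroup L) [M.Normal] [H₁.Normal] [Z.Normal] (hMH₁ : M ≤ H₁) (hH₁K : H₁ < K)
    (hZK : Z ≤ K) [(M.subgroupOf K).Normal] (hnil : Group.IsNilpotent (↥K ⧸ M.subgroupOf K))
    (hZc : ∀ z ∈ Z, ∀ k ∈ K, z * k * z⁻¹ * k⁻¹ ∈ M)
    (hcoh : IsCoherent (inducedIrrAbove K H₁) ({1}ᶜ : Set L) τ)
    (hnum : ∀ u : ℕ, H₁.relIndex K ≤ u → 4 * K.index ^ 2 * u < H₁.relIndex Z * (u - 1) ^ 2) :
    IsCoherent (inducedIrrAbove K M) ({1}ᶜ : Set L) τ := by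
  classical
  have key : ∀ i : ℕ, IsCoherent (inducedIrrAbove K (chain M H₁ K i)) ({1}ᶜ : Set L) τ := by
    intro i
    induction i with
    | zero => exact hcoh
    | succ i ih =>
      haveI := chain_normal M H₁ K i
      haveI := chain_normal M H₁ K (i + 1)
      have hle₁ : chain M H₁ K i ≤ H₁ := chain_le M H₁ K hMH₁ i
      have hle₂ : chain M H₁ K (i + 1) ≤ chain M H₁ K i := chain_succ_le M H₁ K hMH₁ i
      have hAK : chain M H₁ K i < K := lt_of_le_of_lt hle₁ hH₁K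
      have hDK : chain M H₁ K i ⊔ Z ≤ K := sup_le hAK.le hZK
      have hstep := chain_step_irr K hsolv hirrS τ hτ hτ1 (chain M H₁ K i) (chain M H₁ K (i + 1)) K
        (chain M H₁ K i ⊔ Z) hAK (hle₂.trans le_sup_left) hDK (le_refl K) ?_ ih ?_
      · have hsub : inducedIrrAbove K (chain M H₁ K i) ⊆ inducedIrrAbove K (chain M H₁ K (i + 1)) :=
          inducedIrrAbove_anti K hle₂
        rwa [Set.union_eq_self_of_subset_left hsub] at hstep
      · -- commutators
        let X : Subgroup L :=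
          { carrier := {x | ∀ y ∈ K, x * y * x⁻¹ * y⁻¹ ∈ chain M H₁ K (i + 1)}
            one_mem' := by
              intro y _
              simp only [one_mul, inv_one, mul_one, mul_inv_cancel]
              exact Subgroup.one_mem _
            mul_mem' := by
              intro a b ha hb y hy
              have h1 : a * b * y * (a * b)⁻¹ * y⁻¹ =
                  a * (b * y * b⁻¹ * y⁻¹) * a⁻¹ * (a * y * a⁻¹ * y⁻¹) := by group
              rw [h1]
              exact Subgroup.mul_mem _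
                ((chain_normal M H₁ K (i + 1)).conj_mem _ (hb y hy) a) (ha y hy)
            inv_mem' := by
              intro a ha y hy
              have h1 : a⁻¹ * y * a⁻¹⁻¹ * y⁻¹ = a⁻¹ * (a * y * a⁻¹ * y⁻¹)⁻¹ * a⁻¹⁻¹ := by group
              rw [h1]
              exact (chain_normal M H₁ K (i + 1)).conj_mem _
                (Subgroup.inv_mem _ (ha y hy)) a⁻¹ }
        have hX : chain M H₁ K i ⊔ Z ≤ X := by
          apply sup_le
          · intro x hx y hy
            have := Subgroup.commutator_mem_commutator hx hy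
            rw [commutatorElement_def] at this
            exact (le_sup_left : ⁅chain M H₁ K i, K⁆ ≤ ⁅chain M H₁ K i, K⁆ ⊔ M) this
          · intro z hz y hy
            exact le_chain M H₁ K hMH₁ (i + 1) (hZc z hz y hy)
        intro x hx y hy
        exact hX hx y hy
      · -- numerics
        set A := chain M H₁ K i with hAdef
        have hpos : ∀ X Y : Subgroup L, 0 < X.relIndex Y := fun X Y =>
          Nat.pos_of_ne_zero (Subgroup.index_ne_zero_of_finite : (X.subgroupOf Y).index ≠ 0)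
        have hu : H₁.relIndex K ≤ A.relIndex K :=
          Nat.le_of_dvd (hpos _ _) (Subgroup.relIndex_dvd_of_le_left K hle₁)
        have h := hnum _ hu
        have hmul : A.relIndex (A ⊔ Z) * (A ⊔ Z).relIndex K = A.relIndex K :=
          Subgroup.relIndex_mul_relIndex A (A ⊔ Z) K le_sup_left hDK
        have hsup : A.relIndex (A ⊔ Z) = A.relIndex Z := Subgroup.relIndex_sup_left Z A
        have hc : H₁.relIndex Z ≤ A.relIndex Z :=
          Nat.le_of_dvd (hpos _ _) (Subgroup.relIndex_dvd_of_le_left Z hle₁)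
        rw [hsup] at hmul
        have h2 : H₁.relIndex Z * (4 * K.index ^ 2 * (A ⊔ Z).relIndex K)
            < H₁.relIndex Z * (A.relIndex K - 1) ^ 2 := by
          calc H₁.relIndex Z * (4 * K.index ^ 2 * (A ⊔ Z).relIndex K)
              = 4 * K.index ^ 2 * (H₁.relIndex Z * (A ⊔ Z).relIndex K) := by ring
            _ ≤ 4 * K.index ^ 2 * (A.relIndex Z * (A ⊔ Z).relIndex K) :=
                Nat.mul_le_mul_left _ (Nat.mul_le_mul_right _ hc)
            _ = 4 * K.index ^ 2 * A.relIndex K := by rw [hmul]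
            _ < H₁.relIndex Z * (A.relIndex K - 1) ^ 2 := h
        exact Nat.lt_of_mul_lt_mul_left h2
  obtain ⟨n, hn⟩ := Subgroup.nilpotent_iff_lowerCentralSeries.mp hnil
  have hfin : chain M H₁ K n = M := by
    apply le_antisymm
    · intro x hx
      obtain ⟨hxH, hmem⟩ := chain_le_lcs M H₁ K hMH₁ hH₁K.le n x hx
      rw [hn, Subgroup.mem_bot, QuotientGroup.eq_one_iff] at hmem
      exact Subgroup.mem_subgroupOf.mp hmem
    · exact le_chain M H₁ K hMH₁ n
  rw [← hfin]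
  exact key n

end ChainZ

end Cfsg.Agent.Lib.Helper34
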