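import Mathlib
import Cfsg.Prelude.Def_OddOrderChar
import Cfsg.Agent.Lib.Helper34.Induction
import Cfsg.Agent.Lib.Helper34.GenChar
import Cfsg.Agent.Lib.Helper34.IndAbove
import Cfsg.Agent.Lib.Helper83.LinearCount
import Cfsg.Agent.Lib.Helper83.Quotient
import Cfsg.Agent.Lib.Helper84.Clifford
import Cfsg.Agent.Lib.Helper21.LinearChar

/-!
# Characters of `L` induced from a normal subgroup `K` when `L/H₁` is a Frobenius group with
abelian kernel `K/H₁` (helper34)

`K`, `H₁` are normal subgroups of the finite group `L`, `[K,K] ≤ H₁ ≤ K`, and every `x ∈ L` that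
centralises modulo `H₁` some element of `K` outside `H₁` lies in `K`.

* `degree_one_of_ker` : irreducible characters of `K` trivial on `H₁` are linear.
* `stab_le` : a non-principal such character is moved by every element of `L` outside `K`.
* `inner_ind_self_eq_one` : the induced character is irreducible (norm one).
* `index_mul_card_eq` : `[L:K] |S(N)| + 1 = [K:N]` for every normal `N` of `L` with `H₁ ≤ N ≤ K`.
-/

set_option autoImplicit false

namespace Cfsg.Agent.Lib.Helper34

open scoped ComplexConjugate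
open Cfsg

section FrobQuot

variable {L : Type*} [Group L] [Fintype L] (K : Subgroup L) [hK : K.Normal]
  (H₁ : Subgroup L) [hH₁ : H₁.Normal]

omit [Fintype L] hK hH₁ in
theorem coe_mem_commutator {x : K} (hx : x ∈ commutator ↥K) : (x : L) ∈ ⁅K, K⁆ := by
  rw [← Subgroup.map_subtype_commutator]
  exact Subgroup.mem_map_of_mem K.subtype hx

omit hK hH₁ in
/-- irreducible characters of `K` trivial on `H₁ ≥ [K,K]` are linear -/
theorem degree_one_of_ker (hab : ⁅K, K⁆ ≤ H₁) {θ : K → ℂ} (hθ : IsIrrCharacter K θ)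
    (hker : ∀ a : K, (a : L) ∈ H₁ → θ a = θ 1) : θ 1 = 1 :=
  Helper83.irr_linear_of_commutator_le ⟨θ, hθ⟩
    (fun x hx => hker x (hab (coe_mem_commutator K hx)))

/-- a non-principal linear character of `K/H₁` is moved by every element outside `K` -/
theorem stab_le (hab : ⁅K, K⁆ ≤ H₁)
    (hfrob : ∀ k ∈ K, k ∉ H₁ → ∀ x : L, x * k * x⁻¹ * k⁻¹ ∈ H₁ → x ∈ K)
    {θ : K → ℂ} (hθ : IsIrrCharacter K θ) (hne : θ ≠ fun _ => 1)
    (hker : ∀ a : K, (a : L) ∈ H₁ → θ a = θ 1) {x : L}
    (hx : Helper84.conjFun K x θ = θ) : x ∈ K := by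
  classical
  by_contra hxK
  have hlin : θ 1 = 1 := degree_one_of_ker K H₁ hab hθ hker
  have hchar : IsCharacter K θ := Helper83.isCharacter_of_irr hθ
  have hmul := Helper21.linear_char_mul hchar hlin
  -- the commutator map
  let c : K → K := fun k =>
    ⟨x * k * x⁻¹ * (k : L)⁻¹, K.mul_mem (hK.conj_mem k k.2 x) (K.inv_mem k.2)⟩
  have hc1 : ∀ k : K, θ (c k) = 1 := by
    intro k
    have h1 : c k = ⟨x * k * x⁻¹, hK.conj_mem k k.2 x⟩ * k⁻¹ := Subtype.ext (by simp [c])
    rw [h1, hmul]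
    have h2 : θ ⟨x * k * x⁻¹, hK.conj_mem k k.2 x⟩ = θ k := congrFun hx k
    rw [h2, ← hmul, mul_inv_cancel, hlin]
  -- the key identity
  have hid : ∀ k k' : K, (c k)⁻¹ * c k' = k * c (k⁻¹ * k') * k⁻¹ := by
    intro k k'
    apply Subtype.ext
    simp only [c, Subgroup.coe_mul, Subgroup.coe_inv]
    group
  haveI : (H₁.subgroupOf K).Normal := inferInstance
  have hcN : ∀ u : K, u ∈ H₁.subgroupOf K → c u ∈ H₁.subgroupOf K := by
    intro u hu
    rw [Subgroup.mem_subgroupOf] at hu ⊢
    exact H₁.mul_mem (hH₁.conj_mem _ hu x) (H₁.inv_mem hu)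
  have hwd : ∀ a b : K, QuotientGroup.leftRel (H₁.subgroupOf K) a b →
      QuotientGroup.leftRel (H₁.subgroupOf K) (c a) (c b) := by
    intro a b hab'
    rw [QuotientGroup.leftRel_apply] at hab' ⊢
    rw [hid]
    exact (inferInstance : (H₁.subgroupOf K).Normal).conj_mem _ (hcN _ hab') a
  let f : ↥K ⧸ H₁.subgroupOf K → ↥K ⧸ H₁.subgroupOf K := Quotient.map' c hwd
  have hf : ∀ k : K, f (QuotientGroup.mk k) = QuotientGroup.mk (c k) := fun k => rfl
  have hinj : Function.Injective f := by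
    intro a b
    induction a using QuotientGroup.induction_on with
    | H k =>
    induction b using QuotientGroup.induction_on with
    | H k' =>
    intro h
    rw [hf, hf, QuotientGroup.eq, hid] at h
    rw [QuotientGroup.eq]
    have h2 : c (k⁻¹ * k') ∈ H₁.subgroupOf K := by
      have := (inferInstance : (H₁.subgroupOf K).Normal).conj_mem _ h k⁻¹
      simpa [mul_assoc] using this
    by_contra hu
    apply hxK
    refine hfrob ((k⁻¹ * k' : K) : L) (k⁻¹ * k' : K).2 ?_ x ?_
    · intro h3; exact hu (Subgroup.mem_subgroupOf.mpr h3)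
    · exact Subgroup.mem_subgroupOf.mp h2
  have hsurj : Function.Surjective f := Finite.injective_iff_surjective.mp hinj
  apply hne
  funext k
  obtain ⟨q, hq⟩ := hsurj (QuotientGroup.mk k)
  induction q using QuotientGroup.induction_on with
  | H k' =>
  rw [hf, QuotientGroup.eq] at hq
  have h4 : θ ((c k')⁻¹ * k) = θ 1 := hker _ (Subgroup.mem_subgroupOf.mp hq)
  have h5 : k = c k' * ((c k')⁻¹ * k) := by group
  rw [h5, Helper83.char_mul_of_mem_ker' hchar h4, hc1]

/-- the induced character has norm one -/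
theorem inner_ind_self_eq_one (hab : ⁅K, K⁆ ≤ H₁)
    (hfrob : ∀ k ∈ K, k ∉ H₁ → ∀ x : L, x * k * x⁻¹ * k⁻¹ ∈ H₁ → x ∈ K)
    {θ : K → ℂ} (hθ : IsIrrCharacter K θ) (hne : θ ≠ fun _ => 1)
    (hker : ∀ a : K, (a : L) ∈ H₁ → θ a = θ 1) :
    classInner (indFun K θ) (indFun K θ) = 1 := by
  classical
  letI : Fintype K := Fintype.ofFinite K
  have hθcf : IsClassFunction K θ := Helper83.char_isClassFunction (Helper83.isCharacter_of_irr hθ)
  have hstab : ∀ x : L, Helper84.conjFun K x θ = θ ↔ x ∈ K := by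
    intro x
    constructor
    · exact stab_le K H₁ hab hfrob hθ hne hker
    · intro hx
      funext n
      rw [Helper84.conjFun_apply]
      have := hθcf n ⟨x, hx⟩
      rw [← this]
      congr 1
  have hcard : Nat.card {x : L // Helper84.conjFun K x θ = θ} = Nat.card K :=
    Nat.card_congr (Equiv.subtypeEquivRight hstab)
  have h1 := Helper84.classInner_indFun_restrict K hθ hθ
  rw [hcard] at h1
  have hKne : (Nat.card K : ℂ) ≠ 0 := by exact_mod_cast Nat.card_pos.ne'
  rw [inv_mul_cancel₀ hKne] at h1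
  rw [classInner_indFun_left K θ _ (indFun_isClassFunction K θ), ← classInner_conj_symm, h1,
    map_one]

/-- `[K:N] ≡ 1` modulo `[L:K]` for every normal subgroup `N` of `L` between `H₁` and `K` -/
theorem exists_mul_index_add_one (hab : ⁅K, K⁆ ≤ H₁)
    (hfrob : ∀ k ∈ K, k ∉ H₁ → ∀ x : L, x * k * x⁻¹ * k⁻¹ ∈ H₁ → x ∈ K)
    (N : Subgroup L) [N.Normal] (hH₁N : H₁ ≤ N) (hNK : N ≤ K) :
    ∃ c : ℕ, c * K.index + 1 = N.relIndex K := by
  classical
  obtain ⟨T, hT⟩ : ∃ T : Finset (L → ℂ), (T : Set (L → ℂ)) = inducedIrrAbove K N :=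
    ⟨(inducedIrrAbove_finite K N).toFinset, Set.Finite.coe_toFinset _⟩
  have hsum := sum_inducedIrrAbove K N hNK T hT
  have hterm : ∀ φ ∈ T, φ 1 ^ 2 / classInner φ φ = (K.index : ℂ) ^ 2 := by
    intro φ hφ
    have hφ' : φ ∈ inducedIrrAbove K N := by
      rw [← hT]; exact Finset.mem_coe.mpr hφ
    obtain ⟨θ, hθ, hne, hker, rfl⟩ := hφ'
    have hker' : ∀ a : K, (a : L) ∈ H₁ → θ a = θ 1 := fun a ha => hker a (hH₁N ha)
    rw [inner_ind_self_eq_one K H₁ hab hfrob hθ hne hker', Helper83.indFun_one_eq,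
      degree_one_of_ker K H₁ hab hθ hker', mul_one, div_one]
  rw [Finset.sum_congr rfl hterm, Finset.sum_const, nsmul_eq_mul] at hsum
  have he : (K.index : ℂ) ≠ 0 := by
    have : K.index ≠ 0 := Subgroup.index_ne_zero_of_finite
    exact_mod_cast this
  have h1 : (T.card : ℂ) * K.index = (N.relIndex K : ℂ) - 1 := by
    apply mul_left_cancel₀ he
    linear_combination hsum
  refine ⟨T.card, ?_⟩
  have h2 : ((T.card * K.index + 1 : ℕ) : ℂ) = (N.relIndex K : ℂ) := by
    push_cast
    linear_combination h1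
  exact_mod_cast h2

end FrobQuot

end Cfsg.Agent.Lib.Helper34
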