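import Mathlib

/-!
# Nilpotent groups and their abelianisation (helper34)

* `comm_of_gen_mod_commutator` : a nilpotent group generated modulo its commutator subgroup by one
  element is commutative.
* `comm_of_commutator_index_prime` : a finite nilpotent group whose commutator subgroup has prime
  index is commutative.
* `isPGroup_of_commutator_index` : a finite nilpotent group whose commutator subgroup has index a
  power of `p` is a `p`-group (proof by the transfer into the centre).
* `commutator_quot_index`, `card_quot_eq_relIndex` : the section `K/M` of a group `L`.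
-/

set_option autoImplicit false

namespace Cfsg.Agent.Lib.Helper34

section NilpQuot

open scoped commutatorElement

theorem commutator_eq_bot_of_comm {Q : Type*} [Group Q] (h : ∀ a b : Q, a * b = b * a) :
    commutator Q = ⊥ := by
  rw [commutator_eq_closure, Subgroup.closure_eq_bot_iff]
  rintro x ⟨a, b, rfl⟩
  rw [Set.mem_singleton_iff, commutatorElement_def, h a b, mul_inv_cancel_right, mul_inv_cancel]

theorem map_commutator_le {Q Q' : Type*} [Group Q] [Group Q'] (f : Q →* Q') :
    (commutator Q).map f ≤ commutator Q' := by
  rw [commutator_def, Subgroup.map_commutator, commutator_def]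
  exact Subgroup.commutator_mono le_top le_top

theorem commutator_le_ker_of_comm {Q H : Type*} [Group Q] [Group H] (f : Q →* H)
    (h : ∀ x y : Q, f x * f y = f y * f x) : commutator Q ≤ f.ker := by
  rw [commutator_eq_closure, Subgroup.closure_le]
  rintro x ⟨a, b, rfl⟩
  show f ⁅a, b⁆ = 1
  rw [commutatorElement_def, map_mul, map_mul, map_mul, map_inv, map_inv, h a b,
    mul_inv_cancel_right, mul_inv_cancel]

/-- a nilpotent group generated modulo its commutator subgroup by one element is commutative -/
theorem comm_of_gen_mod_commutator (Q : Type*) [Group Q] [Group.IsNilpotent Q] :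
    ∀ g : Q, (∀ a : Q, ∃ i : ℤ, a * g ^ i ∈ commutator Q) → ∀ a b : Q, a * b = b * a := by
  refine Group.nilpotent_center_quotient_ind
    (P := fun G _ _ => ∀ g : G, (∀ a : G, ∃ i : ℤ, a * g ^ i ∈ commutator G) →
      ∀ a b : G, a * b = b * a) Q ?_ ?_
  · intro G _ _ g _ a b
    exact Subsingleton.elim _ _
  · intro G _ _ ih g hg a b
    have hq : ∀ a b : G ⧸ Subgroup.center G, a * b = b * a := by
      apply ih (QuotientGroup.mk g)
      intro a'
      obtain ⟨a, rfl⟩ := QuotientGroup.mk_surjective a'
      obtain ⟨i, hi⟩ := hg a
      refine ⟨i, ?_⟩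
      have := map_commutator_le (QuotientGroup.mk' (Subgroup.center G))
        (Subgroup.mem_map_of_mem _ hi)
      simpa using this
    have hbot := commutator_eq_bot_of_comm hq
    haveI : IsCyclic (G ⧸ Subgroup.center G) := by
      refine ⟨⟨QuotientGroup.mk g, ?_⟩⟩
      intro a'
      obtain ⟨a, rfl⟩ := QuotientGroup.mk_surjective a'
      obtain ⟨i, hi⟩ := hg a
      have := map_commutator_le (QuotientGroup.mk' (Subgroup.center G))
        (Subgroup.mem_map_of_mem _ hi)
      rw [hbot, Subgroup.mem_bot] at this
      refine ⟨-i, ?_⟩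
      simp only [QuotientGroup.mk'_apply, QuotientGroup.mk_mul, QuotientGroup.mk_zpow] at this
      simp only [zpow_neg]
      exact (eq_inv_of_mul_eq_one_left this).symm
    exact ((QuotientGroup.mk' (Subgroup.center G)).isMulCommutative_of_isCyclic_of_ker_le_center
      (by rw [QuotientGroup.ker_mk'])).is_comm.comm a b

/-- a finite nilpotent group whose commutator subgroup has prime index is commutative -/
theorem comm_of_commutator_index_prime {Q : Type*} [Group Q] [Finite Q] [Group.IsNilpotent Q]
    {p : ℕ} (hp : p.Prime) (h : (commutator Q).index = p) : ∀ a b : Q, a * b = b * a := by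
  haveI : Fact p.Prime := ⟨hp⟩
  have hcard : Nat.card (Q ⧸ commutator Q) = p := by
    rw [← Subgroup.index_eq_card, h]
  haveI : IsCyclic (Q ⧸ commutator Q) := isCyclic_of_prime_card hcard
  obtain ⟨g', hg'⟩ := IsCyclic.exists_generator (α := Q ⧸ commutator Q)
  obtain ⟨g, rfl⟩ := QuotientGroup.mk_surjective g'
  apply comm_of_gen_mod_commutator Q g
  intro a
  obtain ⟨j, hj⟩ := hg' (QuotientGroup.mk a)
  refine ⟨-j, ?_⟩
  rw [← QuotientGroup.eq_one_iff, QuotientGroup.mk_mul, QuotientGroup.mk_zpow, zpow_neg]
  simp only at hj
  rw [← hj, mul_inv_cancel]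

/-- a finite nilpotent group whose commutator subgroup has `p`-power index is a `p`-group -/
theorem isPGroup_of_commutator_index (Q : Type*) [Group Q] [Group.IsNilpotent Q] (p : ℕ)
    [hp : Fact p.Prime] :
    Finite Q → ∀ a : ℕ, (commutator Q).index = p ^ a → IsPGroup p Q := by
  refine Group.nilpotent_center_quotient_ind
    (P := fun G _ _ => Finite G → ∀ a : ℕ, (commutator G).index = p ^ a → IsPGroup p G) Q ?_ ?_
  · intro G _ _ _ a _ g
    exact ⟨0, by simpa using Subsingleton.elim g 1⟩
  · intro G _ _ ih hfin a ha
    -- the quotient by the centre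
    have hdvd : (commutator (G ⧸ Subgroup.center G)).index ∣ p ^ a := by
      rw [← ha, ← Subgroup.index_comap_of_surjective (commutator (G ⧸ Subgroup.center G))
        (QuotientGroup.mk'_surjective (Subgroup.center G))]
      apply Subgroup.index_dvd_of_le
      rw [← Subgroup.map_le_iff_le_comap]
      exact map_commutator_le _
    obtain ⟨a', -, ha'⟩ := (Nat.dvd_prime_pow hp.out).mp hdvd
    have hquot : IsPGroup p (G ⧸ Subgroup.center G) := ih inferInstance a' ha'
    obtain ⟨c, hc⟩ := IsPGroup.iff_card.mp hquot
    have hidx : (Subgroup.center G).index = p ^ c := by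
      rw [Subgroup.index_eq_card, hc]
    have hab : IsPGroup p (G ⧸ commutator G) := by
      apply IsPGroup.of_card (n := a)
      rw [← Subgroup.index_eq_card, ha]
    intro g
    -- `g ^ (p ^ c)` is central
    have h1 : g ^ (p ^ c) ∈ Subgroup.center G := by
      rw [← hidx]
      exact (Subgroup.center G).pow_index_mem g
    -- its `p ^ a`-th power lies in the commutator subgroup
    have h2 : (g ^ (p ^ c)) ^ (p ^ a) ∈ commutator G := by
      rw [← QuotientGroup.eq_one_iff, QuotientGroup.mk_pow]
      have : Nat.card (G ⧸ commutator G) = p ^ a := by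
        rw [← Subgroup.index_eq_card, ha]
      rw [← this]
      exact pow_card_eq_one'
    -- the transfer kills the commutator subgroup
    have h3 : ((g ^ (p ^ c)) ^ (p ^ a)) ^ (Subgroup.center G).index = 1 := by
      have hker := commutator_le_ker_of_comm (MonoidHom.transferCenterPow G)
        (fun x y => Subtype.ext (by
          rw [Subgroup.coe_mul, Subgroup.coe_mul]
          exact Subgroup.mem_center_iff.mp (MonoidHom.transferCenterPow G y).2 _)) h2
      rw [MonoidHom.mem_ker] at hker
      have := congrArg (fun z : Subgroup.center G => (z : G)) hker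
      simp only [MonoidHom.transferCenterPow_apply, Subgroup.coe_one] at this
      exact this
    refine ⟨c + a + c, ?_⟩
    rw [hidx] at h3
    rw [pow_add, pow_add, pow_mul, pow_mul]
    exact h3

/-- a finite nilpotent group whose commutator subgroup has `p`-power index has `p`-power order -/
theorem card_eq_pow_of_commutator_index {Q : Type*} [Group Q] [Finite Q] [Group.IsNilpotent Q]
    {p : ℕ} (hp : p.Prime) {a : ℕ} (h : (commutator Q).index = p ^ a) :
    ∃ b : ℕ, Nat.card Q = p ^ b := by
  haveI : Fact p.Prime := ⟨hp⟩
  exact IsPGroup.iff_card.mp (isPGroup_of_commutator_index Q p inferInstance a h)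

end NilpQuot

section Section

variable {L : Type*} [Group L]

theorem card_quot_eq_relIndex (K M : Subgroup L) [(M.subgroupOf K).Normal] :
    Nat.card (↥K ⧸ M.subgroupOf K) = M.relIndex K :=
  (Subgroup.index_eq_card _).symm

theorem commutator_quot_index (K M : Subgroup L) (hMK : M ≤ K) [(M.subgroupOf K).Normal] :
    (commutator (↥K ⧸ M.subgroupOf K)).index = (⁅K, K⁆ ⊔ M).relIndex K := by
  have hsurj := QuotientGroup.mk'_surjective (M.subgroupOf K)
  rw [← Subgroup.index_comap_of_surjective _ hsurj]
  have h1 : commutator (↥K ⧸ M.subgroupOf K) =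
      (commutator ↥K).map (QuotientGroup.mk' (M.subgroupOf K)) := by
    rw [commutator_def, commutator_def, Subgroup.map_commutator,
      ← MonoidHom.range_eq_map, MonoidHom.range_eq_top.mpr hsurj]
  rw [h1, Subgroup.comap_map_eq, QuotientGroup.ker_mk']
  have h2 : (⁅K, K⁆ ⊔ M).subgroupOf K = commutator ↥K ⊔ M.subgroupOf K := by
    rw [Subgroup.subgroupOf_sup K.commutator_le_self hMK]
    congr 1
    rw [← Subgroup.map_subtype_commutator]
    exact Subgroup.comap_map_eq_self_of_injective K.subtype_injective _
  show _ = ((⁅K, K⁆ ⊔ M).subgroupOf K).index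
  rw [h2]

end Section

end Cfsg.Agent.Lib.Helper34
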