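import Mathlib
import Cfsg.Prelude.Def_OddOrderChar
import Cfsg.Agent.Lib.Helper33.Dade

/-!
# The counting identity behind the Dade isometry (helper34)

Under the Dade hypothesis for `(A, L, H)` and for a function `F` on `G` constant on conjugacy
classes,
`|L| * ∑_{g ∈ D} F g = |G| * ∑_{a ∈ A} |H a|⁻¹ * ∑_{u ∈ H a} F (a u)`
where `D` is the set of elements conjugate into some coset `a · H a`.
-/

set_option autoImplicit false

namespace Cfsg.Agent.Lib.Helper34

open Cfsg
open Cfsg.Agent.Lib.Helper33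

section

variable {G : Type*} [Group G] {A : Set G} {L : Subgroup G} {H : G → Subgroup G}

/-- every element of `C_G(b)` is `l * u` with `l ∈ C_L(b)` and `u ∈ H b` -/
theorem dade_centralizer_decomp (hD : DadeHypothesis A L H) {b : G} (hb : b ∈ A) {c : G}
    (hc : c ∈ Subgroup.centralizer ({b} : Set G)) :
    ∃ l ∈ L ⊓ Subgroup.centralizer ({b} : Set G), ∃ u ∈ H b, c = l * u := by
  set C := Subgroup.centralizer ({b} : Set G) with hC
  have hNC : H b ≤ C := hD.le_centralizer b hb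
  have hMC : L ⊓ C ≤ C := inf_le_right
  have hN' : ((H b).subgroupOf C).Normal := by
    constructor
    intro u hu c
    rw [Subgroup.mem_subgroupOf] at hu ⊢
    simpa using hD.conj_mem_H b hb c c.2 u hu
  have hsup' : (H b).subgroupOf C ⊔ (L ⊓ C).subgroupOf C = ⊤ := by
    rw [← Subgroup.subgroupOf_sup hNC hMC, hD.sup_eq b hb]
    exact Subgroup.subgroupOf_self C
  have hkmem : (⟨c, hc⟩ : C) ∈ (H b).subgroupOf C ⊔ (L ⊓ C).subgroupOf C := by
    rw [hsup']; trivial
  obtain ⟨y, hy, z, hz, hyz⟩ := Subgroup.mem_sup_of_normal_left.mp hkmem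
  have hy' : (y : G) ∈ H b := Subgroup.mem_subgroupOf.mp hy
  have hz' : (z : G) ∈ L ⊓ C := Subgroup.mem_subgroupOf.mp hz
  have hc' : c = (y : G) * (z : G) := by
    have := congrArg Subtype.val hyz
    simpa using this.symm
  refine ⟨z, hz', (z : G)⁻¹ * y * z, ?_, ?_⟩
  · have := hD.conj_mem_H b hb (z : G)⁻¹ (C.inv_mem z.2) y hy'
    simpa using this
  · rw [hc']; group

theorem dade_H_inf_L (hD : DadeHypothesis A L H) {b : G} (hb : b ∈ A) {u : G} (hu : u ∈ H b)
    (huL : u ∈ L) : u = 1 := by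
  have h1 : u ∈ H b ⊓ (L ⊓ Subgroup.centralizer ({b} : Set G)) :=
    ⟨hu, huL, hD.le_centralizer b hb hu⟩
  rw [hD.inf_eq_bot b hb] at h1
  exact Subgroup.mem_bot.mp h1

theorem dade_commute (hD : DadeHypothesis A L H) {b : G} (hb : b ∈ A) {u : G} (hu : u ∈ H b) :
    u * b = b * u := by
  have := hD.le_centralizer b hb hu
  rw [Subgroup.mem_centralizer_iff] at this
  exact (this b rfl).symm

/-- the elements conjugating `b` into `A` are the products `z u`, `z ∈ L`, `u ∈ H b` -/
theorem dade_conj_mem_iff [Finite G] (hD : DadeHypothesis A L H) {b : G} (hb : b ∈ A) (y : G) :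
    y * b * y⁻¹ ∈ A ↔ ∃ z ∈ L, ∃ u ∈ H b, y = z * u := by
  constructor
  · intro hy
    obtain ⟨z, hz, hzb⟩ := hD.fusion b hb y hy
    have hc : z⁻¹ * y ∈ Subgroup.centralizer ({b} : Set G) := by
      rw [Subgroup.mem_centralizer_iff]
      intro t ht
      rw [Set.mem_singleton_iff] at ht
      subst ht
      have e : z⁻¹ * (z * t * z⁻¹) * z = z⁻¹ * (y * t * y⁻¹) * z := by rw [hzb]
      have e1 : z⁻¹ * (z * t * z⁻¹) * z = t := by group
      rw [e1] at e
      calc t * (z⁻¹ * y) = z⁻¹ * (y * t * y⁻¹) * z * (z⁻¹ * y) := by rw [← e]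
        _ = z⁻¹ * y * t := by group
    obtain ⟨l, hl, u, hu, hlu⟩ := dade_centralizer_decomp hD hb hc
    refine ⟨z * l, L.mul_mem hz hl.1, u, hu, ?_⟩
    have : y = z * (z⁻¹ * y) := by group
    rw [this, hlu]; group
  · rintro ⟨z, hz, u, hu, rfl⟩
    have hub := dade_commute hD hb hu
    have : z * u * b * (z * u)⁻¹ = z * b * z⁻¹ := by
      calc z * u * b * (z * u)⁻¹ = z * (u * b) * u⁻¹ * z⁻¹ := by group
        _ = z * (b * u) * u⁻¹ * z⁻¹ := by rw [hub]
        _ = z * b * z⁻¹ := by group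
    rw [this]
    exact hD.conj_mem z hz b hb

theorem dade_conj_eq_of_mul [Finite G] (hD : DadeHypothesis A L H) {b : G} (hb : b ∈ A)
    {z u : G} (hu : u ∈ H b) : z * u * b * (z * u)⁻¹ = z * b * z⁻¹ := by
  have hub := dade_commute hD hb hu
  calc z * u * b * (z * u)⁻¹ = z * (u * b) * u⁻¹ * z⁻¹ := by group
    _ = z * (b * u) * u⁻¹ * z⁻¹ := by rw [hub]
    _ = z * b * z⁻¹ := by group

/-- `|{y : y b y⁻¹ ∈ A}| = |L| |H b|` -/
theorem dade_card_conj_mem [Finite G] (hD : DadeHypothesis A L H) {b : G} (hb : b ∈ A) :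
    Nat.card {y : G // y * b * y⁻¹ ∈ A} = Nat.card L * Nat.card (H b) := by
  rw [← Nat.card_prod]
  symm
  apply Nat.card_congr
  refine Equiv.ofBijective (fun p : ↥L × ↥(H b) => ⟨(p.1 : G) * (p.2 : G),
    (dade_conj_mem_iff hD hb _).mpr ⟨p.1, p.1.2, p.2, p.2.2, rfl⟩⟩) ⟨?_, ?_⟩
  · rintro ⟨z, u⟩ ⟨z', u'⟩ h
    have h1 : (z : G) * (u : G) = (z' : G) * (u' : G) := congrArg Subtype.val h
    have h2 : (u : G) * (u' : G)⁻¹ = (z : G)⁻¹ * (z' : G) := by
      calc (u : G) * (u' : G)⁻¹ = (z : G)⁻¹ * ((z : G) * (u : G)) * (u' : G)⁻¹ := by group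
        _ = (z : G)⁻¹ * ((z' : G) * (u' : G)) * (u' : G)⁻¹ := by rw [h1]
        _ = (z : G)⁻¹ * (z' : G) := by group
    have h3 : (u : G) * (u' : G)⁻¹ = 1 := by
      apply dade_H_inf_L hD hb ((H b).mul_mem u.2 ((H b).inv_mem u'.2))
      rw [h2]
      exact L.mul_mem (L.inv_mem z.2) z'.2
    have hu : (u : G) = u' := by
      have := mul_inv_eq_one.mp h3
      exact this
    have hz : (z : G) = z' := by
      rw [hu] at h1
      exact mul_right_cancel h1
    exact Prod.ext (Subtype.ext hz) (Subtype.ext hu)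
  · rintro ⟨y, hy⟩
    obtain ⟨z, hz, u, hu, rfl⟩ := (dade_conj_mem_iff hD hb y).mp hy
    exact ⟨(⟨z, hz⟩, ⟨u, hu⟩), rfl⟩

/-- the subgroups attached to `G`-conjugate members of `A` have the same order -/
theorem dade_card_H_conj [Finite G] (hD : DadeHypothesis A L H) {b : G} (hb : b ∈ A) (y : G)
    (hy : y * b * y⁻¹ ∈ A) : Nat.card (H (y * b * y⁻¹)) = Nat.card (H b) := by
  obtain ⟨z, hz, u, hu, rfl⟩ := (dade_conj_mem_iff hD hb y).mp hy
  rw [dade_conj_eq_of_mul hD hb hu, dade_map_conj_eq hD hb hz]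
  exact Nat.card_congr
    ((H b).equivMapOfInjective _ (MulAut.conj z).injective).toEquiv.symm

/-- for `v ∈ H b`: the conjugate `y (b v) y⁻¹` lies in the coset `a · H a` iff `y b y⁻¹ = a` -/
theorem dade_coset_conj_iff [Finite G] (hD : DadeHypothesis A L H) {a b : G} (ha : a ∈ A)
    (hb : b ∈ A) {v : G} (hv : v ∈ H b) (y : G) :
    a⁻¹ * (y * (b * v) * y⁻¹) ∈ H a ↔ y * b * y⁻¹ = a := by
  constructor
  · intro h
    have e : y * (b * v) * y⁻¹ = a * (a⁻¹ * (y * (b * v) * y⁻¹)) := by group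
    exact dade_conj_eq hD hb ha hv h e
  · intro h
    have hyA : y * b * y⁻¹ ∈ A := by rw [h]; exact ha
    obtain ⟨z, hz, u, hu, rfl⟩ := (dade_conj_mem_iff hD hb y).mp hyA
    have hzb : z * b * z⁻¹ = a := by rw [← h, dade_conj_eq_of_mul hD hb hu]
    have e : a⁻¹ * (z * u * (b * v) * (z * u)⁻¹) = z * (u * v * u⁻¹) * z⁻¹ := by
      rw [← h]
      have hub := dade_commute hD hb hu
      calc (z * u * b * (z * u)⁻¹)⁻¹ * (z * u * (b * v) * (z * u)⁻¹)
          = z * u * v * u⁻¹ * z⁻¹ := by group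
        _ = z * (u * v * u⁻¹) * z⁻¹ := by group
    rw [e, ← hzb, dade_map_conj_eq hD hb hz]
    refine ⟨u * v * u⁻¹, ?_, ?_⟩
    · exact (H b).mul_mem ((H b).mul_mem hu hv) ((H b).inv_mem hu)
    · simp [MulAut.conj_apply]

end

section Sum

variable {G : Type*} [Group G] [Fintype G] {A : Set G} {L : Subgroup G} [Fintype L]
  {H : G → Subgroup G} {K : Type*} [Field K] [CharZero K]

open Classical in
/-- the multiplicity function: `∑_a |H a|⁻¹ #{x : x g x⁻¹ ∈ a H a}` equals `|L|` on the support and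
`0` off it -/
theorem dade_mult (hD : DadeHypothesis A L H) (g : G) :
    ∑ a ∈ Finset.univ.filter (fun a : L => (a : G) ∈ A), (Nat.card (H a) : K)⁻¹ *
      ∑ x : G, (if (a : G)⁻¹ * (x * g * x⁻¹) ∈ H a then (1 : K) else 0) =
    if (∃ a ∈ A, ∃ u ∈ H a, ∃ x : G, x * g * x⁻¹ = a * u) then (Nat.card L : K) else 0 := by
  split_ifs with hg
  · obtain ⟨b, hb, v, hv, x₀, hx₀⟩ := hg
    -- reindex x = y x₀
    have h1 : ∀ a : L, (a : G) ∈ A →
        ∑ x : G, (if (a : G)⁻¹ * (x * g * x⁻¹) ∈ H a then (1 : K) else 0) =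
        ∑ y : G, (if y * b * y⁻¹ = (a : G) then (1 : K) else 0) := by
      intro a ha
      rw [← Equiv.sum_comp (Equiv.mulRight x₀)]
      apply Finset.sum_congr rfl
      intro y _
      have e : (Equiv.mulRight x₀ y) * g * (Equiv.mulRight x₀ y)⁻¹ = y * (b * v) * y⁻¹ := by
        simp only [Equiv.coe_mulRight]
        rw [← hx₀]; group
      rw [e]
      have := dade_coset_conj_iff hD ha hb hv y
      simp only [this]
    rw [Finset.sum_congr rfl (fun a ha => by rw [h1 a (Finset.mem_filter.mp ha).2])]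
    -- swap the sums
    simp only [Finset.mul_sum]
    rw [Finset.sum_comm]
    have h2 : ∀ y : G, ∑ a ∈ Finset.univ.filter (fun a : L => (a : G) ∈ A),
        (Nat.card (H a) : K)⁻¹ * (if y * b * y⁻¹ = (a : G) then (1 : K) else 0) =
        if y * b * y⁻¹ ∈ A then (Nat.card (H b) : K)⁻¹ else 0 := by
      intro y
      split_ifs with hy
      · have hyL : y * b * y⁻¹ ∈ L := hD.subset hy
        rw [Finset.sum_eq_single (⟨y * b * y⁻¹, hyL⟩ : L)]
        · rw [if_pos rfl, mul_one]
          simp only []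
          rw [dade_card_H_conj hD hb y hy]
        · intro a _ hne
          rw [if_neg, mul_zero]
          intro h
          exact hne (Subtype.ext h.symm)
        · intro h
          exfalso
          apply h
          exact Finset.mem_filter.mpr ⟨Finset.mem_univ _, hy⟩
      · apply Finset.sum_eq_zero
        intro a ha
        rw [if_neg, mul_zero]
        intro h
        apply hy
        rw [h]
        exact (Finset.mem_filter.mp ha).2
    rw [Finset.sum_congr rfl (fun y _ => h2 y), ← Finset.sum_filter, Finset.sum_const,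
      nsmul_eq_mul]
    have hcard : (Finset.univ.filter (fun y : G => y * b * y⁻¹ ∈ A)).card =
        Nat.card L * Nat.card (H b) := by
      rw [← dade_card_conj_mem hD hb, Nat.card_eq_fintype_card, Fintype.card_subtype]
    rw [hcard]
    have hne : (Nat.card (H b) : K) ≠ 0 := by
      have : 0 < Nat.card (H b) := Nat.card_pos
      exact_mod_cast this.ne'
    push_cast
    field_simp
  · apply Finset.sum_eq_zero
    intro a ha
    have haA : (a : G) ∈ A := (Finset.mem_filter.mp ha).2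
    rw [Finset.sum_eq_zero, mul_zero]
    intro x _
    rw [if_neg]
    intro h
    apply hg
    exact ⟨a, haA, _, h, x, by group⟩

open Classical in
/-- **the counting identity** -/
theorem dade_sum (hD : DadeHypothesis A L H) (F : G → K) (hF : ∀ g h : G, F (h * g * h⁻¹) = F g) :
    (Nat.card L : K) * ∑ g ∈ Finset.univ.filter
        (fun g : G => ∃ a ∈ A, ∃ u ∈ H a, ∃ x : G, x * g * x⁻¹ = a * u), F g =
    (Nat.card G : K) * ∑ a ∈ Finset.univ.filter (fun a : L => (a : G) ∈ A),
      (Nat.card (H a) : K)⁻¹ * ∑ u ∈ Finset.univ.filter (fun u : G => u ∈ H a), F (a * u) := by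
  -- the coset sum as an indicator sum, conjugated by x
  have h1 : ∀ (a : G) (x : G), ∑ u ∈ Finset.univ.filter (fun u : G => u ∈ H a), F (a * u) =
      ∑ g : G, (if a⁻¹ * (x * g * x⁻¹) ∈ H a then F g else 0) := by
    intro a x
    rw [← Finset.sum_filter]
    refine Finset.sum_equiv ((Equiv.mulLeft a).trans (MulAut.conj x⁻¹).toEquiv) ?_ ?_
    · intro u
      simp only [Finset.mem_filter, Finset.mem_univ, true_and, Equiv.trans_apply,
        Equiv.coe_mulLeft, MulEquiv.toEquiv_eq_coe, EquivLike.coe_coe, MulAut.conj_apply, inv_inv]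
      have e : a⁻¹ * (x * (x⁻¹ * (a * u) * x) * x⁻¹) = u := by group
      rw [e]
    · intro u _
      simp only [Equiv.trans_apply, Equiv.coe_mulLeft, MulEquiv.toEquiv_eq_coe,
        EquivLike.coe_coe, MulAut.conj_apply, inv_inv]
      have := hF (a * u) x⁻¹
      rw [inv_inv] at this
      rw [this]
  -- sum over x
  have h2 : (Nat.card G : K) * ∑ a ∈ Finset.univ.filter (fun a : L => (a : G) ∈ A),
      (Nat.card (H a) : K)⁻¹ * ∑ u ∈ Finset.univ.filter (fun u : G => u ∈ H a), F (a * u) =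
      ∑ x : G, ∑ a ∈ Finset.univ.filter (fun a : L => (a : G) ∈ A),
        (Nat.card (H a) : K)⁻¹ * ∑ g : G, (if (a : G)⁻¹ * (x * g * x⁻¹) ∈ H a then F g else 0) := by
    rw [Finset.sum_congr rfl (fun x _ => Finset.sum_congr rfl
      (fun a _ => by rw [← h1 (a : G) x])), Finset.sum_const, Finset.card_univ, nsmul_eq_mul,
      Nat.card_eq_fintype_card]
  rw [h2]
  -- reorganise by g
  have h3 : ∑ x : G, ∑ a ∈ Finset.univ.filter (fun a : L => (a : G) ∈ A),
        (Nat.card (H a) : K)⁻¹ * ∑ g : G, (if (a : G)⁻¹ * (x * g * x⁻¹) ∈ H a then F g else 0) =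
      ∑ g : G, F g * ∑ a ∈ Finset.univ.filter (fun a : L => (a : G) ∈ A), (Nat.card (H a) : K)⁻¹ *
        ∑ x : G, (if (a : G)⁻¹ * (x * g * x⁻¹) ∈ H a then (1 : K) else 0) := by
    simp only [Finset.mul_sum]
    rw [Finset.sum_comm]
    rw [Finset.sum_congr rfl (fun a _ => Finset.sum_comm)]
    rw [Finset.sum_comm]
    apply Finset.sum_congr rfl
    intro g _
    apply Finset.sum_congr rfl
    intro a _
    apply Finset.sum_congr rfl
    intro x _
    split_ifs <;> ring
  rw [h3]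
  have h4 : ∑ g : G, F g * ∑ a ∈ Finset.univ.filter (fun a : L => (a : G) ∈ A),
        (Nat.card (H a) : K)⁻¹ *
        ∑ x : G, (if (a : G)⁻¹ * (x * g * x⁻¹) ∈ H a then (1 : K) else 0) =
      ∑ g : G, F g * (if (∃ a ∈ A, ∃ u ∈ H a, ∃ x : G, x * g * x⁻¹ = a * u)
        then (Nat.card L : K) else 0) :=
    Finset.sum_congr rfl (fun g _ => by rw [dade_mult hD g])
  rw [h4, Finset.mul_sum, Finset.sum_filter]
  apply Finset.sum_congr rfl
  intro g _
  split_ifs <;> ring

end Sum

end Cfsg.Agent.Lib.Helper34
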