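import Mathlib
import Cfsg.Prelude.Def_Characters
import Cfsg.Agent.Lib.Helper05.CharBasic

/-!
# Averages of characters over cosets (helper34)

* `isCharacter_fixedPoints` : if `f : N →* G` lands in the normaliser of the finite subgroup `K`,
  then `y ↦ |K|⁻¹ ∑_{u ∈ K} χ (f y * u)` is a character of `N` (the character of `N` on the
  `K`-fixed points).
* `coset_sum_coprime` : for `y` normalising `K` with `|K|` prime to the order of `y` and `F`
  invariant under conjugation by `K`:
  `|C_K(y)| ∑_{u ∈ K} F (y u) = |K| ∑_{c ∈ C_K(y)} F (y c)`.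
* `orbit_sum_int` : a weighted orbit-counting lemma.
-/

set_option autoImplicit false

namespace Cfsg.Agent.Lib.Helper34

open Cfsg

section FixedPoints

variable {G : Type*} [Group G]

/-- the character of `N` acting (through `f`) on the fixed points of `K` -/
theorem isCharacter_fixedPoints {χ : G → ℂ} (hχ : IsCharacter G χ) (K : Subgroup G) [Fintype K]
    {N : Type*} [Group N] (f : N →* G) (hf : ∀ y : N, ∀ u ∈ K, f y * u * (f y)⁻¹ ∈ K) :
    IsCharacter N (fun y => (Fintype.card K : ℂ)⁻¹ * ∑ u : K, χ (f y * (u : G))) := by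
  classical
  obtain ⟨n, ρ, rfl⟩ := hχ
  have hcard : (Fintype.card K : ℂ) ≠ 0 := by
    have : 0 < Fintype.card K := Fintype.card_pos
    exact_mod_cast this.ne'
  -- the fixed points
  let W : Submodule ℂ (Fin n → ℂ) :=
    { carrier := {v | ∀ u : K, ρ (u : G) v = v}
      add_mem' := by
        intro v w hv hw u
        rw [map_add, hv u, hw u]
      zero_mem' := by
        intro u
        rw [map_zero]
      smul_mem' := by
        intro c v hv u
        rw [map_smul, hv u] }
  have hWmem : ∀ v, v ∈ W ↔ ∀ u : K, ρ (u : G) v = v := fun v => Iff.rfl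
  -- stability
  have hstab : ∀ y : N, ∀ v ∈ W, ρ (f y) v ∈ W := by
    intro y v hv u
    have h1 : (f y)⁻¹ * (u : G) * f y ∈ K := by
      have := hf y⁻¹ u u.2
      rw [map_inv, inv_inv] at this
      exact this
    have h2 : (u : G) * f y = f y * ((f y)⁻¹ * (u : G) * f y) := by group
    have h3 := hv ⟨_, h1⟩
    calc ρ (u : G) (ρ (f y) v) = ρ ((u : G) * f y) v := by rw [map_mul]; rfl
      _ = ρ (f y * ((f y)⁻¹ * (u : G) * f y)) v := by rw [h2]
      _ = ρ (f y) (ρ ((f y)⁻¹ * (u : G) * f y) v) := by rw [map_mul]; rfl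
      _ = ρ (f y) v := by rw [h3]
  -- the representation on the fixed points
  let σ : Representation ℂ N W :=
    { toFun := fun y => (ρ (f y)).restrict (hstab y)
      map_one' := by
        ext v
        simp
      map_mul' := by
        intro y z
        ext v
        simp }
  -- the averaging projection
  let e : (Fin n → ℂ) →ₗ[ℂ] (Fin n → ℂ) := (Fintype.card K : ℂ)⁻¹ • ∑ u : K, ρ (u : G)
  have he1 : ∀ v, e v ∈ W := by
    intro v u'
    simp only [e, LinearMap.smul_apply, LinearMap.sum_apply, map_smul, map_sum]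
    congr 1
    have : ∀ u : K, ρ (u' : G) (ρ (u : G) v) = ρ ((u' * u : K) : G) v := by
      intro u
      rw [Subgroup.coe_mul, map_mul]
      rfl
    simp only [this]
    exact Fintype.sum_equiv (Equiv.mulLeft u') _ _ (fun u => rfl)
  have he2 : ∀ v ∈ W, e v = v := by
    intro v hv
    simp only [e, LinearMap.smul_apply, LinearMap.sum_apply]
    rw [Finset.sum_congr rfl (fun u _ => hv u), Finset.sum_const, Finset.card_univ, ← Nat.cast_smul_eq_nsmul ℂ,
      smul_smul, inv_mul_cancel₀ hcard, one_smul]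
  have key : ∀ y : N, σ.character y = (Fintype.card K : ℂ)⁻¹ * ∑ u : K, (ρ.character) (f y * (u : G)) := by
    intro y
    have hall : ∀ x, ((ρ (f y)) ∘ₗ e) x ∈ W := fun x => hstab y _ (he1 x)
    have h1 := LinearMap.trace_restrict_eq_of_forall_mem W ((ρ (f y)) ∘ₗ e) hall
    have h2 : ((ρ (f y)) ∘ₗ e).restrict (fun x _ => hall x) = σ y := by
      ext v
      simp only [LinearMap.coe_restrict_apply, LinearMap.comp_apply]
      rw [he2 v v.2]
      rfl
    rw [h2] at h1
    change LinearMap.trace ℂ W (σ y) = _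
    rw [h1]
    have h4 : (ρ (f y)) ∘ₗ e = (Fintype.card K : ℂ)⁻¹ • ∑ u : K, ρ (f y * (u : G)) := by
      simp only [e, LinearMap.comp_smul]
      congr 1
      rw [← Module.End.mul_eq_comp, Finset.mul_sum]
      apply Finset.sum_congr rfl
      intro u _
      rw [map_mul]
    rw [h4, map_smul, map_sum, smul_eq_mul]
    rfl
  have := Cfsg.Agent.Lib.Helper05.isCharacter_of_rep σ
  have h3 : σ.character = fun y => (Fintype.card K : ℂ)⁻¹ * ∑ u : K, (ρ.character) (f y * (u : G)) :=
    funext key
  rw [h3] at this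
  exact this

end FixedPoints

section Coset

variable {G : Type*} [Group G]

/-- CRT exponent: `m ≡ 1` modulo the order of `y` and `m ≡ 0` modulo `|K|` -/
theorem exists_crt_pow (K : Subgroup G) [Finite K] (y : G)
    (hcop : (Nat.card K).Coprime (orderOf y)) :
    ∃ m : ℕ, y ^ m = y ∧ ∀ k ∈ K, k ^ m = 1 := by
  obtain ⟨a, ha1, ha2⟩ := Nat.chineseRemainder hcop.symm 1 0
  refine ⟨a, ?_, ?_⟩
  · have : y ^ a = y ^ 1 := (pow_eq_pow_iff_modEq).mpr ha1
    rw [this, pow_one]
  · intro k hk
    obtain ⟨b, rfl⟩ := (Nat.modEq_zero_iff_dvd).mp ha2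
    have h2 : (⟨k, hk⟩ : K) ^ Nat.card K = 1 := pow_card_eq_one'
    have h3 : k ^ Nat.card K = 1 := by
      have := congrArg Subtype.val h2
      simp only [SubmonoidClass.coe_pow, OneMemClass.coe_one] at this
      exact this
    rw [pow_mul, h3, one_pow]

/-- **coprime coset sums**: if `y` normalises `K`, `|K|` is prime to the order of `y`, and `F` is
invariant under conjugation by `K`, then the average of `F` over `y K` equals its average over
`y C_K(y)`. -/
theorem coset_sum_coprime (K C : Subgroup G) [Fintype K] [Fintype C] (y : G)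
    (hy : ∀ u ∈ K, y⁻¹ * u * y ∈ K) (hcop : (Nat.card K).Coprime (orderOf y))
    (hC : ∀ c, c ∈ C ↔ c ∈ K ∧ c * y = y * c)
    (F : G → ℂ) (hF : ∀ k ∈ K, ∀ x, F (k * x * k⁻¹) = F x) :
    (Fintype.card C : ℂ) * ∑ u : K, F (y * (u : G)) =
      (Fintype.card K : ℂ) * ∑ c : C, F (y * (c : G)) := by
  classical
  obtain ⟨m, hym, hKm⟩ := exists_crt_pow K y hcop
  have hCK : ∀ c : C, (c : G) ∈ K := fun c => ((hC c).1 c.2).1
  have hCy : ∀ c : C, (c : G) * y = y * (c : G) := fun c => ((hC c).1 c.2).2
  let Φ : K × C → K := fun p =>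
    ⟨(y⁻¹ * (p.1 : G) * y) * (p.2 : G) * (p.1 : G)⁻¹,
      K.mul_mem (K.mul_mem (hy _ p.1.2) (hCK p.2)) (K.inv_mem p.1.2)⟩
  have hΦ : ∀ p : K × C, y * ((Φ p : K) : G) = (p.1 : G) * (y * (p.2 : G)) * (p.1 : G)⁻¹ := by
    intro p
    simp only [Φ]
    group
  -- Step 1
  have h1 : ∑ p : K × C, F (y * ((Φ p : K) : G)) = (Fintype.card K : ℂ) * ∑ c : C, F (y * (c : G)) := by
    rw [Fintype.sum_prod_type]
    simp only [hΦ, hF _ (Subtype.property _)]
    rw [Finset.sum_const, Finset.card_univ, nsmul_eq_mul]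
  -- fibres
  have hpow : ∀ c : C, (y * (c : G)) ^ m = y := by
    intro c
    have hcomm : Commute y (c : G) := (hCy c).symm
    rw [hcomm.mul_pow, hym, hKm _ (hCK c), mul_one]
  have hfib : ∀ p p₀ : K × C, Φ p = Φ p₀ → (p₀.1 : G)⁻¹ * (p.1 : G) ∈ C := by
    intro p p₀ h
    have e1 : (p.1 : G) * (y * (p.2 : G)) * (p.1 : G)⁻¹ =
        (p₀.1 : G) * (y * (p₀.2 : G)) * (p₀.1 : G)⁻¹ := by
      rw [← hΦ, ← hΦ, h]
    have e2 : ((p₀.1 : G)⁻¹ * (p.1 : G)) * (y * (p.2 : G)) * ((p₀.1 : G)⁻¹ * (p.1 : G))⁻¹ =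
        y * (p₀.2 : G) := by
      have : y * (p₀.2 : G) = (p₀.1 : G)⁻¹ * ((p₀.1 : G) * (y * (p₀.2 : G)) * (p₀.1 : G)⁻¹) * (p₀.1 : G) := by
        group
      rw [this, ← e1]
      group
    have e3 := congrArg (fun z => z ^ m) e2
    simp only [conj_pow, hpow] at e3
    rw [hC]
    refine ⟨K.mul_mem (K.inv_mem p₀.1.2) p.1.2, ?_⟩
    calc (p₀.1 : G)⁻¹ * (p.1 : G) * y
        = ((p₀.1 : G)⁻¹ * (p.1 : G) * y * ((p₀.1 : G)⁻¹ * (p.1 : G))⁻¹) * ((p₀.1 : G)⁻¹ * (p.1 : G)) := by
          group
      _ = y * ((p₀.1 : G)⁻¹ * (p.1 : G)) := by rw [e3]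
  have hle : ∀ u : K, (Finset.univ.filter (fun p : K × C => Φ p = u)).card ≤ Fintype.card C := by
    intro u
    rcases (Finset.univ.filter (fun p : K × C => Φ p = u)).eq_empty_or_nonempty with h | ⟨p₀, hp₀⟩
    · rw [h]
      simp
    · rw [Finset.mem_filter] at hp₀
      have hcardC : Fintype.card C =
          ((Finset.univ : Finset C).map ⟨Subtype.val, Subtype.val_injective⟩).card := by
        rw [Finset.card_map, Finset.card_univ]
      rw [hcardC]
      apply Finset.card_le_card_of_injOn (fun p : K × C => (p₀.1 : G)⁻¹ * (p.1 : G))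
      · intro p hp
        rw [Finset.mem_coe, Finset.mem_filter] at hp
        rw [Finset.mem_coe, Finset.mem_map]
        exact ⟨⟨_, hfib p p₀ (hp.2.trans hp₀.2.symm)⟩, Finset.mem_univ _, rfl⟩
      · intro p hp q hq hpq
        rw [Finset.mem_coe, Finset.mem_filter] at hp hq
        have e1 : (p.1 : G) = (q.1 : G) := by
          have := mul_left_cancel hpq
          exact this
        have e2 : Φ p = Φ q := hp.2.trans hq.2.symm
        have e3 := congrArg (fun k : K => (k : G)) e2
        simp only [Φ] at e3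
        rw [e1] at e3
        have e4 : (p.2 : G) = (q.2 : G) := by
          have := mul_right_cancel e3
          exact mul_left_cancel this
        exact Prod.ext (Subtype.ext e1) (Subtype.ext e4)
  have htot : ∑ u : K, (Finset.univ.filter (fun p : K × C => Φ p = u)).card =
      ∑ _u : K, Fintype.card C := by
    rw [← Finset.card_eq_sum_card_fiberwise (fun p _ => Finset.mem_univ (Φ p)), Finset.card_univ,
      Fintype.card_prod, Finset.sum_const, Finset.card_univ, smul_eq_mul]
  have heq : ∀ u : K, (Finset.univ.filter (fun p : K × C => Φ p = u)).card = Fintype.card C := by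
    intro u
    exact (Finset.sum_eq_sum_iff_of_le (fun u _ => hle u)).1 htot u (Finset.mem_univ u)
  -- Step 2
  have h2 : ∑ p : K × C, F (y * ((Φ p : K) : G)) = (Fintype.card C : ℂ) * ∑ u : K, F (y * (u : G)) := by
    rw [← Finset.sum_fiberwise (Finset.univ : Finset (K × C)) Φ, Finset.mul_sum]
    apply Finset.sum_congr rfl
    intro u _
    rw [Finset.sum_congr rfl (fun p hp => by rw [(Finset.mem_filter.1 hp).2]), Finset.sum_const,
      heq u, nsmul_eq_mul]
  rw [← h2, h1]

end Coset

section Orbit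

/-- **weighted orbit counting**: if `T` is constant on orbits and `T x` is an integer multiple of
the order of the stabiliser of `x`, then `∑ x, T x` is an integer multiple of `|L|`. -/
theorem orbit_sum_int {L X : Type*} [Group L] [Fintype L] [Fintype X] [MulAction L X]
    (T : X → ℂ) (hinv : ∀ (l : L) (x : X), T (l • x) = T x)
    (hint : ∀ x, ∃ m : ℤ, T x = (Nat.card (MulAction.stabilizer L x) : ℂ) * m) :
    ∃ m : ℤ, ∑ x, T x = (Nat.card L : ℂ) * m := by
  classical
  have hω : ∀ ω : MulAction.orbitRel.Quotient L X, ∃ m : ℤ,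
      ∑ x ∈ Finset.univ.filter
        (fun x : X => (Quotient.mk'' x : MulAction.orbitRel.Quotient L X) = ω), T x
        = (Nat.card L : ℂ) * m := by
    intro ω
    induction ω using Quotient.inductionOn' with
    | h x₀ =>
    obtain ⟨m₀, hm₀⟩ := hint x₀
    refine ⟨m₀, ?_⟩
    have hmem : ∀ x, (Quotient.mk'' x : MulAction.orbitRel.Quotient L X) = Quotient.mk'' x₀ ↔
        x ∈ MulAction.orbit L x₀ := by
      intro x
      rw [Quotient.eq'']
      exact MulAction.orbitRel_apply
    have hT : ∀ x ∈ Finset.univ.filter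
        (fun x : X => (Quotient.mk'' x : MulAction.orbitRel.Quotient L X) = Quotient.mk'' x₀),
        T x = T x₀ := by
      intro x hx
      obtain ⟨l, rfl⟩ := (hmem x).1 (Finset.mem_filter.1 hx).2
      exact hinv l x₀
    rw [Finset.sum_congr rfl hT, Finset.sum_const, nsmul_eq_mul, hm₀]
    have hcard : (Finset.univ.filter
        (fun x : X => (Quotient.mk'' x : MulAction.orbitRel.Quotient L X) = Quotient.mk'' x₀)).card *
        Nat.card (MulAction.stabilizer L x₀) = Nat.card L := by
      have h1 := MulAction.card_orbit_mul_card_stabilizer_eq_card_group L x₀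
      rw [Nat.card_eq_fintype_card, Nat.card_eq_fintype_card, ← h1]
      congr 1
      rw [← Fintype.card_subtype]
      apply Fintype.card_congr
      exact Equiv.subtypeEquivRight hmem
    rw [← hcard]
    push_cast
    ring
  choose m hm using hω
  refine ⟨∑ ω, m ω, ?_⟩
  rw [← Finset.sum_fiberwise (Finset.univ : Finset X)
    (Quotient.mk'' : X → MulAction.orbitRel.Quotient L X) T]
  rw [Finset.sum_congr rfl (fun ω _ => hm ω)]
  push_cast
  rw [Finset.mul_sum]

end Orbit

end Cfsg.Agent.Lib.Helper34
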