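import Mathlib
import Cfsg.Prelude.Def_OddOrderChar
import Cfsg.Agent.Lib.Helper33.Dade
import Cfsg.Agent.Lib.Helper34.CosetAvg
import Cfsg.Agent.Lib.Helper34.GenChar
import Cfsg.Agent.Lib.Helper34.DadeCount

/-!
# The Dade expansion (helper34)

Under the Dade hypothesis for `(A, L, H)` and for a character `χ` of `G`, the function
`Ψ x = ∑_{∅ ≠ B ⊆ A, x B x⁻¹ = B} (-1)^(|B|+1) |H_B|⁻¹ ∑_{u ∈ H_B} χ (x u)` on `L`
(`H_B = ⋂_{b ∈ B} H b`) has integral inner product with every generalized character of `L`, and
`Ψ a = |H a|⁻¹ ∑_{u ∈ H a} χ (a u)` for `a ∈ A`.  Hence the Dade map sends generalized characters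
to generalized characters (no Brauer characterisation needed).
-/

set_option autoImplicit false

namespace Cfsg.Agent.Lib.Helper34

open Cfsg
open Cfsg.Agent.Lib.Helper33
open scoped ComplexConjugate
open scoped Classical

section Defs

variable {G : Type*} [Group G]

/-- the average of `χ` over the coset `x K` -/
noncomputable def avgOn [Fintype G] (K : Subgroup G) (χ : G → ℂ) (x : G) : ℂ :=
  (Nat.card K : ℂ)⁻¹ * ∑ u : K, χ (x * (u : G))

theorem avgOn_congr [Fintype G] {K K' : Subgroup G} (h : K = K') (χ : G → ℂ) (x : G) :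
    avgOn K χ x = avgOn K' χ x := by
  subst h
  rfl

/-- conjugation action on finite subsets -/
@[reducible] noncomputable def conjFinsetAction (L : Type*) [Group L] : MulAction L (Finset L) where
  smul l B := B.image (fun b => l * b * l⁻¹)
  one_smul B := by
    change B.image (fun b => 1 * b * 1⁻¹) = B
    simp
  mul_smul l l' B := by
    change B.image (fun b => (l * l') * b * (l * l')⁻¹) =
      (B.image (fun b => l' * b * l'⁻¹)).image (fun b => l * b * l⁻¹)
    rw [Finset.image_image]
    congr 1
    funext b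
    simp only [Function.comp_apply]
    group

attribute [local instance] conjFinsetAction

theorem mem_smul_finset_iff {L : Type*} [Group L] (l : L) (B : Finset L) (c : L) :
    c ∈ l • B ↔ l⁻¹ * c * l ∈ B := by
  change c ∈ B.image (fun b => l * b * l⁻¹) ↔ _
  rw [Finset.mem_image]
  constructor
  · rintro ⟨b, hb, rfl⟩
    have : l⁻¹ * (l * b * l⁻¹) * l = b := by group
    rw [this]
    exact hb
  · intro h
    exact ⟨_, h, by group⟩

theorem conj_mem_smul_finset {L : Type*} [Group L] (l : L) {B : Finset L} {b : L} (hb : b ∈ B) :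
    l * b * l⁻¹ ∈ l • B := by
  rw [mem_smul_finset_iff]
  have : l⁻¹ * (l * b * l⁻¹) * l = b := by group
  rw [this]
  exact hb

theorem card_smul_finset {L : Type*} [Group L] (l : L) (B : Finset L) : (l • B).card = B.card := by
  change (B.image (fun b => l * b * l⁻¹)).card = _
  apply Finset.card_image_of_injective
  intro b c h
  simpa using h

end Defs

section Main

variable {G : Type*} [Group G] [Fintype G] {A : Set G} {L : Subgroup G} [Fintype L]
  {H : G → Subgroup G}

attribute [local instance] conjFinsetAction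

/-- the members of `A` inside `L` -/
noncomputable def AL (A : Set G) (L : Subgroup G) [Fintype L] : Finset L :=
  Finset.univ.filter (fun a : L => (a : G) ∈ A)

theorem mem_AL (a : L) : a ∈ AL A L ↔ (a : G) ∈ A := by
  simp [AL]

/-- `H_B = ⋂_{b ∈ B} H b` -/
def HB (H : G → Subgroup G) (B : Finset L) : Subgroup G := ⨅ b ∈ B, H (b : G)

theorem mem_HB (B : Finset L) (u : G) : u ∈ HB H B ↔ ∀ b ∈ B, u ∈ H (b : G) := by
  simp [HB, Subgroup.mem_iInf]

theorem HB_singleton (a : L) : HB H ({a} : Finset L) = H (a : G) := by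
  ext u
  simp [mem_HB]

theorem HB_insert (a : L) (B : Finset L) : HB H (insert a B) = H (a : G) ⊓ HB H B := by
  ext u
  simp [mem_HB, Subgroup.mem_inf]

theorem smul_subset_AL (hD : DadeHypothesis A L H) (l : L) {B : Finset L} (hB : B ⊆ AL A L) :
    l • B ⊆ AL A L := by
  intro c hc
  rw [mem_smul_finset_iff] at hc
  have h1 := (mem_AL _).1 (hB hc)
  rw [mem_AL]
  have h2 := hD.conj_mem (l : G) l.2 _ h1
  have h3 : (l : G) * ((l⁻¹ * c * l : L) : G) * (l : G)⁻¹ = (c : G) := by
    push_cast
    group
  rwa [h3] at h2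

/-- `H_{l B l⁻¹} = l H_B l⁻¹` -/
theorem mem_HB_smul (hD : DadeHypothesis A L H) (l : L) {B : Finset L} (hB : B ⊆ AL A L) (u : G) :
    u ∈ HB H (l • B) ↔ (l : G)⁻¹ * u * (l : G) ∈ HB H B := by
  rw [mem_HB, mem_HB]
  constructor
  · intro h b hb
    have hbA : (b : G) ∈ A := (mem_AL _).1 (hB hb)
    have h1 := h (l * b * l⁻¹) (conj_mem_smul_finset l hb)
    have h2 := dade_map_conj_eq hD hbA l.2
    have h3 : ((l * b * l⁻¹ : L) : G) = (l : G) * (b : G) * (l : G)⁻¹ := by push_cast; rfl
    rw [h3, h2] at h1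
    obtain ⟨v, hv, hvu⟩ := h1
    rw [← hvu]
    simp only [MulEquiv.coe_toMonoidHom, MulAut.conj_apply]
    have : (l : G)⁻¹ * ((l : G) * v * (l : G)⁻¹) * (l : G) = v := by group
    rw [this]
    exact hv
  · intro h c hc
    rw [mem_smul_finset_iff] at hc
    have hbA : ((l⁻¹ * c * l : L) : G) ∈ A := (mem_AL _).1 (hB hc)
    have h1 := h _ hc
    have h2 := dade_map_conj_eq hD hbA l.2
    have h3 : (l : G) * ((l⁻¹ * c * l : L) : G) * (l : G)⁻¹ = (c : G) := by
      push_cast
      group
    rw [h3] at h2
    rw [h2]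
    refine ⟨_, h1, ?_⟩
    simp only [MulEquiv.coe_toMonoidHom, MulAut.conj_apply]
    group

/-- the setwise stabiliser of `B` in `L` -/
noncomputable def NB (B : Finset L) : Subgroup L := MulAction.stabilizer L B

theorem mem_NB (B : Finset L) (x : L) : x ∈ NB B ↔ x • B = B := MulAction.mem_stabilizer_iff

theorem conj_mem_HB_of_mem_NB (hD : DadeHypothesis A L H) {B : Finset L} (hB : B ⊆ AL A L)
    {x : L} (hx : x ∈ NB B) {u : G} (hu : u ∈ HB H B) : (x : G) * u * (x : G)⁻¹ ∈ HB H B := by
  have hx' : x⁻¹ ∈ NB B := (NB B).inv_mem hx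
  rw [mem_NB] at hx'
  have := (mem_HB_smul hD x⁻¹ hB u)
  rw [hx'] at this
  have h2 := this.1 hu
  rw [Subgroup.coe_inv, inv_inv] at h2
  exact h2

/-- conjugation invariance of coset averages -/
theorem avgOn_conj {K K' : Subgroup G} (g : G) (h : ∀ u, u ∈ K' ↔ g⁻¹ * u * g ∈ K) {χ : G → ℂ}
    (hχ : IsClassFunction G χ) (x : G) : avgOn K' χ (g * x * g⁻¹) = avgOn K χ x := by
  let e : ↥K ≃ ↥K' :=
    { toFun := fun u => ⟨g * (u : G) * g⁻¹, by
        rw [h]
        have : g⁻¹ * (g * (u : G) * g⁻¹) * g = (u : G) := by group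
        rw [this]
        exact u.2⟩
      invFun := fun u => ⟨g⁻¹ * (u : G) * g, (h _).1 u.2⟩
      left_inv := by
        intro u
        apply Subtype.ext
        simp only
        group
      right_inv := by
        intro u
        apply Subtype.ext
        simp only
        group }
  unfold avgOn
  rw [Nat.card_congr e]
  congr 1
  symm
  apply Fintype.sum_equiv e
  intro u
  have : g * x * g⁻¹ * ((e u : K') : G) = g * (x * (u : G)) * g⁻¹ := by
    change g * x * g⁻¹ * (g * (u : G) * g⁻¹) = _
    group
  rw [this, hχ]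

theorem avgOn_smul (hD : DadeHypothesis A L H) {χ : G → ℂ} (hχ : IsClassFunction G χ) (l : L)
    {B : Finset L} (hB : B ⊆ AL A L) (x : L) :
    avgOn (HB H (l • B)) χ ((l * x * l⁻¹ : L) : G) = avgOn (HB H B) χ (x : G) := by
  have := avgOn_conj (K := HB H B) (K' := HB H (l • B)) (l : G) (mem_HB_smul hD l hB) hχ (x : G)
  rw [← this]
  congr 1

theorem self_mem_NB_insert {a : L} {B : Finset L} (haN : a ∈ NB B) : a ∈ NB (insert a B) := by
  rw [mem_NB] at haN ⊢
  ext c
  rw [mem_smul_finset_iff, Finset.mem_insert, Finset.mem_insert]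
  have h1 : a⁻¹ * c * a ∈ B ↔ c ∈ B := by
    rw [← mem_smul_finset_iff, haN]
  rw [h1]
  constructor
  · rintro (h | h)
    · left
      have : c = a * (a⁻¹ * c * a) * a⁻¹ := by group
      rw [this, h]
      group
    · right; exact h
  · rintro (h | h)
    · left
      rw [h]
      group
    · right; exact h

theorem self_mem_NB_erase {a : L} {B : Finset L} (haN : a ∈ NB B) : a ∈ NB (B.erase a) := by
  rw [mem_NB] at haN ⊢
  ext c
  rw [mem_smul_finset_iff, Finset.mem_erase, Finset.mem_erase]
  have h1 : a⁻¹ * c * a ∈ B ↔ c ∈ B := by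
    rw [← mem_smul_finset_iff, haN]
  rw [h1]
  have h2 : a⁻¹ * c * a ≠ a ↔ c ≠ a := by
    constructor
    · intro h hc
      apply h
      rw [hc]
      group
    · intro h hc
      apply h
      have : c = a * (a⁻¹ * c * a) * a⁻¹ := by group
      rw [this, hc]
      group
  rw [h2]

theorem self_mem_NB_singleton (a : L) : a ∈ NB ({a} : Finset L) := by
  rw [mem_NB]
  ext c
  rw [mem_smul_finset_iff, Finset.mem_singleton, Finset.mem_singleton]
  constructor
  · intro h
    have : c = a * (a⁻¹ * c * a) * a⁻¹ := by group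
    rw [this, h]
    group
  · intro h
    rw [h]
    group

/-- **the key identity**: adding to `B` an element `a ∈ A` normalising `B` does not change the
average over the coset `a H_B`. -/
theorem avgOn_insert (hD : DadeHypothesis A L H) {χ : G → ℂ} (hχ : IsClassFunction G χ) {a : L}
    (ha : a ∈ AL A L) {B : Finset L} (hB : B ⊆ AL A L) (hne : B.Nonempty) (haN : a ∈ NB B) :
    avgOn (HB H B) χ (a : G) = avgOn (HB H (insert a B)) χ (a : G) := by
  have haA : (a : G) ∈ A := (mem_AL a).1 ha
  obtain ⟨b, hb⟩ := hne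
  have hbA : (b : G) ∈ A := (mem_AL b).1 (hB hb)
  have hKle : HB H B ≤ H (b : G) := fun u hu => (mem_HB B u).1 hu b hb
  -- coprimality
  have hcopK : (Nat.card (HB H B)).Coprime
      (Nat.card ↥(L ⊓ Subgroup.centralizer ({(a : G)} : Set G))) :=
    Nat.Coprime.coprime_dvd_left (Subgroup.card_dvd_of_le hKle) (hD.coprime _ hbA _ haA)
  have haC : (a : G) ∈ L ⊓ Subgroup.centralizer ({(a : G)} : Set G) :=
    ⟨a.2, mem_centralizer_singleton_self _⟩
  have hord : orderOf (a : G) ∣ Nat.card ↥(L ⊓ Subgroup.centralizer ({(a : G)} : Set G)) := by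
    have := orderOf_dvd_natCard (⟨(a : G), haC⟩ : ↥(L ⊓ Subgroup.centralizer ({(a : G)} : Set G)))
    rwa [Subgroup.orderOf_mk] at this
  have hcop : (Nat.card (HB H B)).Coprime (orderOf (a : G)) :=
    Nat.Coprime.coprime_dvd_right hord hcopK
  have hy : ∀ u ∈ HB H B, (a : G)⁻¹ * u * (a : G) ∈ HB H B := by
    intro u hu
    have := conj_mem_HB_of_mem_NB hD hB ((NB B).inv_mem haN) hu
    rwa [Subgroup.coe_inv, inv_inv] at this
  have hC : ∀ c, c ∈ HB H (insert a B) ↔ c ∈ HB H B ∧ c * (a : G) = (a : G) * c := by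
    intro c
    rw [HB_insert, Subgroup.mem_inf]
    constructor
    · rintro ⟨h1, h2⟩
      exact ⟨h2, dade_commute hD haA h1⟩
    · rintro ⟨h1, h2⟩
      refine ⟨?_, h1⟩
      apply dade_mem_H_of_coprime hD haA (k := c) (n := Nat.card (HB H B)) _ _ hcopK
      · rw [Subgroup.mem_centralizer_iff]
        intro z hz
        rw [Set.mem_singleton_iff] at hz
        rw [hz, h2]
      · exact pow_card_subgroup_eq_one h1
  have key := coset_sum_coprime (HB H B) (HB H (insert a B)) (a : G) hy hcop hC χ
    (fun k _ x => hχ x k)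
  unfold avgOn
  rw [Nat.card_eq_fintype_card, Nat.card_eq_fintype_card]
  have h1 : (Fintype.card ↥(HB H B) : ℂ) ≠ 0 := by
    have : 0 < Fintype.card ↥(HB H B) := Fintype.card_pos
    exact_mod_cast this.ne'
  have h2 : (Fintype.card ↥(HB H (insert a B)) : ℂ) ≠ 0 := by
    have : 0 < Fintype.card ↥(HB H (insert a B)) := Fintype.card_pos
    exact_mod_cast this.ne'
  field_simp
  linear_combination key

/-- the alternating sum of fixed-point averages -/
noncomputable def PsiL (A : Set G) (L : Subgroup G) [Fintype L] (H : G → Subgroup G) (χ : G → ℂ)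
    (x : L) : ℂ :=
  ∑ B ∈ (AL A L).powerset.filter (fun B => B.Nonempty ∧ x ∈ NB B),
    (-1 : ℂ) ^ (B.card + 1) * avgOn (HB H B) χ (x : G)

/-- **the value of `Ψ` on `A`** -/
theorem PsiL_apply_mem (hD : DadeHypothesis A L H) {χ : G → ℂ} (hχ : IsClassFunction G χ) {a : L}
    (ha : a ∈ AL A L) : PsiL A L H χ a = avgOn (H (a : G)) χ (a : G) := by
  unfold PsiL
  set s := (AL A L).powerset.filter (fun B => B.Nonempty ∧ a ∈ NB B) with hs
  have hmem : ∀ B, B ∈ s ↔ B ⊆ AL A L ∧ B.Nonempty ∧ a ∈ NB B := by
    intro B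
    rw [hs, Finset.mem_filter, Finset.mem_powerset]
  have hsing : ({a} : Finset L) ∈ s := by
    rw [hmem]
    exact ⟨Finset.singleton_subset_iff.2 ha, Finset.singleton_nonempty a, self_mem_NB_singleton a⟩
  rw [← Finset.add_sum_erase s _ hsing]
  have h0 : ∑ B ∈ s.erase {a}, (-1 : ℂ) ^ (B.card + 1) * avgOn (HB H B) χ (a : G) = 0 := by
    have hmem' : ∀ B, B ∈ s.erase {a} ↔ B ≠ {a} ∧ B ⊆ AL A L ∧ B.Nonempty ∧ a ∈ NB B := by
      intro B
      rw [Finset.mem_erase, hmem]
    refine Finset.sum_involution (fun B _ => if a ∈ B then B.erase a else insert a B) ?_ ?_ ?_ ?_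
    · intro B hB
      rw [hmem'] at hB
      obtain ⟨hBa, hBA, hBne, hBN⟩ := hB
      by_cases haB : a ∈ B
      · rw [if_pos haB]
        have hne' : (B.erase a).Nonempty := by
          rw [Finset.nonempty_iff_ne_empty]
          intro h
          apply hBa
          rw [← Finset.insert_erase haB, h]
          rfl
        have hk := avgOn_insert hD hχ ha ((Finset.erase_subset a B).trans hBA) hne'
          (self_mem_NB_erase hBN)
        rw [Finset.insert_erase haB] at hk
        have hc : B.card = (B.erase a).card + 1 := (Finset.card_erase_add_one haB).symm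
        rw [hk, hc]
        ring
      · rw [if_neg haB]
        have hk := avgOn_insert hD hχ ha hBA hBne hBN
        rw [hk, Finset.card_insert_of_notMem haB]
        ring
    · intro B _ _
      by_cases haB : a ∈ B
      · rw [if_pos haB]
        intro h
        have := Finset.notMem_erase a B
        rw [h] at this
        exact this haB
      · rw [if_neg haB]
        intro h
        apply haB
        rw [← h]
        exact Finset.mem_insert_self a B
    · intro B hB
      rw [hmem'] at hB ⊢
      obtain ⟨hBa, hBA, hBne, hBN⟩ := hB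
      by_cases haB : a ∈ B
      · rw [if_pos haB]
        refine ⟨?_, (Finset.erase_subset a B).trans hBA, ?_, self_mem_NB_erase hBN⟩
        · intro h
          have := Finset.notMem_erase a B
          rw [h] at this
          exact this (Finset.mem_singleton_self a)
        · rw [Finset.nonempty_iff_ne_empty]
          intro h
          apply hBa
          rw [← Finset.insert_erase haB, h]
          rfl
      · rw [if_neg haB]
        refine ⟨?_, ?_, Finset.insert_nonempty a B, self_mem_NB_insert hBN⟩
        · intro h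
          obtain ⟨b, hb⟩ := hBne
          have hb' : b ∈ insert a B := Finset.mem_insert_of_mem hb
          rw [h, Finset.mem_singleton] at hb'
          rw [hb'] at hb
          exact haB hb
        · intro c hc
          rw [Finset.mem_insert] at hc
          rcases hc with rfl | hc
          · exact ha
          · exact hBA hc
    · intro B _
      by_cases haB : a ∈ B
      · simp only [if_pos haB, Finset.notMem_erase, if_false]
        exact Finset.insert_erase haB
      · simp only [if_neg haB, Finset.mem_insert_self, if_true]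
        exact Finset.erase_insert haB
  rw [h0, add_zero, Finset.card_singleton, avgOn_congr (HB_singleton a)]
  norm_num

theorem smul_mem_NB_iff (l x : L) (B : Finset L) : l * x * l⁻¹ ∈ NB (l • B) ↔ x ∈ NB B := by
  rw [mem_NB, mem_NB, ← mul_smul]
  have : l * x * l⁻¹ * l = l * x := by group
  rw [this, mul_smul]
  constructor
  · intro h
    have := congrArg (fun C => l⁻¹ • C) h
    simpa using this
  · intro h
    rw [h]

theorem cond_smul_iff (hD : DadeHypothesis A L H) (l : L) (B : Finset L) :
    (l • B ⊆ AL A L ∧ (l • B).Nonempty) ↔ (B ⊆ AL A L ∧ B.Nonempty) := by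
  have hne : ∀ (l : L) (B : Finset L), (l • B).Nonempty ↔ B.Nonempty := by
    intro l B
    rw [← Finset.card_pos, ← Finset.card_pos, card_smul_finset]
  constructor
  · rintro ⟨h1, h2⟩
    refine ⟨?_, (hne l B).1 h2⟩
    have := smul_subset_AL hD l⁻¹ h1
    rwa [inv_smul_smul] at this
  · rintro ⟨h1, h2⟩
    exact ⟨smul_subset_AL hD l h1, (hne l B).2 h2⟩

/-- the contribution of a subset `B` -/
noncomputable def termB (A : Set G) (L : Subgroup G) [Fintype L] (H : G → Subgroup G) (χ : G → ℂ)
    (α : L → ℂ) (B : Finset L) : ℂ :=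
  if B ⊆ AL A L ∧ B.Nonempty then
    (-1 : ℂ) ^ (B.card + 1) *
      ∑ x : L, (if x ∈ NB B then α x * conj (avgOn (HB H B) χ (x : G)) else 0)
  else 0

theorem termB_smul (hD : DadeHypothesis A L H) {χ : G → ℂ} (hχ : IsClassFunction G χ) {α : L → ℂ}
    (hα : IsClassFunction L α) (l : L) (B : Finset L) :
    termB A L H χ α (l • B) = termB A L H χ α B := by
  unfold termB
  by_cases hc : B ⊆ AL A L ∧ B.Nonempty
  · rw [if_pos hc, if_pos ((cond_smul_iff hD l B).2 hc), card_smul_finset]
    congr 1
    symm
    refine Fintype.sum_equiv (MulAut.conj l).toEquiv _ _ (fun x => ?_)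
    show (if x ∈ NB B then α x * conj (avgOn (HB H B) χ (x : G)) else 0) =
      (if l * x * l⁻¹ ∈ NB (l • B) then α (l * x * l⁻¹) *
        conj (avgOn (HB H (l • B)) χ ((l * x * l⁻¹ : L) : G)) else 0)
    by_cases hx : x ∈ NB B
    · rw [if_pos hx, if_pos ((smul_mem_NB_iff l x B).2 hx), hα, avgOn_smul hD hχ l hc.1 x]
    · rw [if_neg hx, if_neg (fun h => hx ((smul_mem_NB_iff l x B).1 h))]
  · rw [if_neg hc, if_neg (fun h => hc ((cond_smul_iff hD l B).1 h))]

theorem termB_int (hD : DadeHypothesis A L H) {χ : G → ℂ} (hχ : IsCharacter G χ) {α : L → ℂ}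
    (hα : IsGeneralizedCharacter L α) (B : Finset L) :
    ∃ m : ℤ, termB A L H χ α B = (Nat.card (MulAction.stabilizer L B) : ℂ) * m := by
  unfold termB
  by_cases hc : B ⊆ AL A L ∧ B.Nonempty
  · rw [if_pos hc]
    -- the two generalized characters of the stabiliser
    have h1 : IsGeneralizedCharacter ↥(NB B) (fun y : ↥(NB B) => α (y : L)) :=
      isGeneralizedCharacter_restrict (NB B) hα
    have h2 : IsCharacter ↥(NB B) (fun y : ↥(NB B) =>
        (Fintype.card ↥(HB H B) : ℂ)⁻¹ * ∑ u : ↥(HB H B),
          χ ((L.subtype.comp (NB B).subtype) y * (u : G))) := by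
      apply isCharacter_fixedPoints hχ (HB H B) (L.subtype.comp (NB B).subtype)
      intro y u hu
      exact conj_mem_HB_of_mem_NB hD hc.1 y.2 hu
    obtain ⟨m, hm⟩ := classInner_genChar_int h1 (IsCharacter.isGeneralizedCharacter h2)
    refine ⟨(-1) ^ (B.card + 1) * m, ?_⟩
    have h3 : ∑ x : L, (if x ∈ NB B then α x * conj (avgOn (HB H B) χ (x : G)) else 0) =
        (Nat.card ↥(NB B) : ℂ) * m := by
      have hne : (Nat.card ↥(NB B) : ℂ) ≠ 0 := by
        have : 0 < Nat.card ↥(NB B) := Nat.card_pos
        exact_mod_cast this.ne'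
      rw [← hm, classInner_def, ← mul_assoc, mul_inv_cancel₀ hne, one_mul]
      rw [← Finset.sum_filter]
      rw [Finset.sum_subtype (Finset.univ.filter (fun x : L => x ∈ NB B)) (p := fun x => x ∈ NB B)
        (by intro x; simp)]
      apply Finset.sum_congr rfl
      intro y _
      congr 2
      unfold avgOn
      rw [Nat.card_eq_fintype_card]
      rfl
    rw [h3]
    push_cast
    have : (Nat.card ↥(MulAction.stabilizer L B) : ℂ) = (Nat.card ↥(NB B) : ℂ) := rfl
    rw [this]
    ring
  · rw [if_neg hc]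
    exact ⟨0, by simp⟩

/-- **integrality**: `Ψ` has integral inner product with every generalized character of `L`. -/
theorem classInner_PsiL_int (hD : DadeHypothesis A L H) {χ : G → ℂ} (hχ : IsCharacter G χ)
    {α : L → ℂ} (hα : IsGeneralizedCharacter L α) :
    ∃ z : ℤ, classInner α (PsiL A L H χ) = z := by
  have hχc : IsClassFunction G χ := Helper83.char_isClassFunction hχ
  have hαc : IsClassFunction L α := isGeneralizedCharacter_isClassFunction hα
  obtain ⟨m, hm⟩ := orbit_sum_int (L := L) (X := Finset L) (termB A L H χ α)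
    (fun l B => termB_smul hD hχc hαc l B) (fun B => termB_int hD hχ hα B)
  refine ⟨m, ?_⟩
  have hsum : ∑ x : L, α x * conj (PsiL A L H χ x) = ∑ B : Finset L, termB A L H χ α B := by
    have h1 : ∀ x : L, α x * conj (PsiL A L H χ x) =
        ∑ B : Finset L, (if B ⊆ AL A L ∧ B.Nonempty then (-1 : ℂ) ^ (B.card + 1) *
          (if x ∈ NB B then α x * conj (avgOn (HB H B) χ (x : G)) else 0) else 0) := by
      intro x
      unfold PsiL
      rw [map_sum, Finset.mul_sum, Finset.sum_filter]
      have hpow : (AL A L).powerset = Finset.univ.filter (fun B : Finset L => B ⊆ AL A L) := by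
        ext B
        simp
      rw [hpow, Finset.sum_filter]
      apply Finset.sum_congr rfl
      intro B _
      by_cases h1 : B ⊆ AL A L
      · by_cases h2 : B.Nonempty
        · by_cases h3 : x ∈ NB B
          · rw [if_pos h1, if_pos ⟨h2, h3⟩, if_pos ⟨h1, h2⟩, if_pos h3, map_mul, map_pow, map_neg,
              map_one]
            ring
          · rw [if_pos h1, if_neg (fun h => h3 h.2), if_pos ⟨h1, h2⟩, if_neg h3, mul_zero]
        · rw [if_pos h1, if_neg (fun h => h2 h.1), if_neg (fun h => h2 h.2)]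
      · rw [if_neg h1, if_neg (fun h => h1 h.1)]
    rw [Finset.sum_congr rfl (fun x _ => h1 x), Finset.sum_comm]
    apply Finset.sum_congr rfl
    intro B _
    unfold termB
    by_cases hc : B ⊆ AL A L ∧ B.Nonempty
    · simp only [if_pos hc]
      rw [Finset.mul_sum]
    · simp only [if_neg hc]
      rw [Finset.sum_const_zero]
  rw [classInner_def, hsum, hm, ← mul_assoc, inv_mul_cancel₀, one_mul]
  have : 0 < Nat.card ↥L := Nat.card_pos
  exact_mod_cast this.ne'

end Main

end Cfsg.Agent.Lib.Helper34
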