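import Cfsg.Agent.S1535
import Cfsg.Agent.Lib.Helper83.Abelian

/-!
# Frobenius groups whose kernel has order `e + 1` (helper34)
-/

set_option autoImplicit false

namespace Cfsg.Agent.Lib.Helper34

open scoped ComplexConjugate
open Cfsg
open Cfsg.Agent.Lib.Helper05 (classInner_irr classInner_irr_self classInner_irr_ne exists_pos_degree)

section Small

variable {N : Type*} [Group N] [Fintype N] (H : Subgroup N) [hHn : H.Normal]

/-- the closure of a conjugation-invariant set is normal -/
theorem closure_normal_of_conj_invariant {Q : Type*} [Group Q] (s : Set Q)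
    (hs : ∀ x ∈ s, ∀ n : Q, n * x * n⁻¹ ∈ s) : (Subgroup.closure s).Normal := by
  refine ⟨fun x hx n => ?_⟩
  induction hx using Subgroup.closure_induction with
  | mem x hx => exact Subgroup.subset_closure (hs x hx n)
  | one => simp
  | mul a b _ _ iha ihb =>
    have : n * (a * b) * n⁻¹ = (n * a * n⁻¹) * (n * b * n⁻¹) := by group
    rw [this]
    exact Subgroup.mul_mem _ iha ihb
  | inv a _ iha =>
    have : n * a⁻¹ * n⁻¹ = (n * a * n⁻¹)⁻¹ := by group
    rw [this]
    exact Subgroup.inv_mem _ iha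

/-- **Frobenius group with kernel of order `e + 1`.** The kernel is an elementary abelian group and
there is exactly one irreducible character not containing it in the kernel. -/
theorem frob_small (hH1 : H ≠ ⊥) (hnil : Group.IsNilpotent H)
    (hC : ∀ h ∈ H, h ≠ 1 → Subgroup.centralizer ({h} : Set N) ≤ H)
    (hcard : Nat.card H = H.index + 1) :
    (∀ a ∈ H, ∀ b ∈ H, a * b = b * a) ∧ (∃ p : ℕ, p.Prime ∧ ∀ x ∈ H, x ^ p = 1) ∧
    ∃ χ₀ : N → ℂ, {χ : N → ℂ | IsIrrCharacter N χ ∧ ∃ h ∈ H, χ h ≠ χ 1} = {χ₀} := by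
  classical
  haveI : Nontrivial H := (Subgroup.nontrivial_iff_ne_bot H).mpr hH1
  -- every nontrivial normal subgroup of `N` inside `H` is `H`
  have hkey : ∀ Y : Subgroup N, Y.Normal → Y ≤ H → Y ≠ ⊥ → Y = H := by
    intro Y hYn hYH hY1
    have h1 := Cfsg.Agent.S1535.relIndex_ge H hC ⊥ Y bot_le hYH (by
      intro h
      exact hY1 (le_bot_iff.mp h))
    rw [Subgroup.relIndex_bot_left] at h1
    exact Subgroup.eq_of_le_of_card_ge hYH (by omega)
  -- abelian
  have hab : ∀ a ∈ H, ∀ b ∈ H, a * b = b * a := by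
    set Z : Subgroup N := H ⊓ Subgroup.centralizer (H : Set N) with hZ
    haveI : Z.Normal := inferInstance
    have hZ1 : Z ≠ ⊥ := by
      have hc := Group.IsNilpotent.center_ne_bot (G := ↥H)
      obtain ⟨z, hz, hz1⟩ : ∃ z ∈ Subgroup.center ↥H, z ≠ 1 := by
        by_contra h
        push Not at h
        exact hc ((Subgroup.eq_bot_iff_forall _).mpr h)
      intro hbot
      apply hz1
      have hzmem : (z : N) ∈ Z := by
        refine Subgroup.mem_inf.mpr ⟨z.2, ?_⟩
        rw [Subgroup.mem_centralizer_iff]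
        intro k hk
        have := Subgroup.mem_center_iff.mp hz ⟨k, hk⟩
        exact congrArg Subtype.val this
      rw [hbot, Subgroup.mem_bot] at hzmem
      exact Subtype.ext hzmem
    have hZH := hkey Z inferInstance inf_le_left hZ1
    intro a ha b hb
    have h1 : a ∈ Z := by rw [hZH]; exact ha
    have h2 := (Subgroup.mem_inf.mp h1).2
    rw [Subgroup.mem_centralizer_iff] at h2
    exact (h2 b hb).symm
  refine ⟨hab, ?_, ?_⟩
  · -- exponent `p`
    have hc1 : Nat.card H ≠ 1 := by
      intro h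
      exact hH1 (Subgroup.card_eq_one.mp h)
    obtain ⟨p, hp, hpd⟩ := Nat.exists_prime_and_dvd hc1
    haveI : Fact p.Prime := ⟨hp⟩
    obtain ⟨x, hx⟩ := exists_prime_orderOf_dvd_card' (G := ↥H) p hpd
    refine ⟨p, hp, ?_⟩
    set s : Set N := {y | y ∈ H ∧ y ^ p = 1} with hs
    have hsn : (Subgroup.closure s).Normal := by
      apply closure_normal_of_conj_invariant
      rintro y ⟨hy1, hy2⟩ n
      refine ⟨hHn.conj_mem y hy1 n, ?_⟩
      rw [conj_pow, hy2, mul_one, mul_inv_cancel]
    have hle : Subgroup.closure s ≤ H := by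
      rw [Subgroup.closure_le]
      rintro y ⟨hy1, -⟩
      exact hy1
    have hne : Subgroup.closure s ≠ ⊥ := by
      intro h
      have hxs : (x : N) ∈ Subgroup.closure s := by
        apply Subgroup.subset_closure
        refine ⟨x.2, ?_⟩
        have := pow_orderOf_eq_one x
        rw [hx] at this
        have h2 := congrArg Subtype.val this
        simpa using h2
      rw [h, Subgroup.mem_bot] at hxs
      have hx1 : x = 1 := Subtype.ext hxs
      rw [hx1, orderOf_one] at hx
      exact hp.one_lt.ne hx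
    have heq := hkey _ hsn hle hne
    intro y hy
    rw [← heq] at hy
    have : y ∈ H ∧ y ^ p = 1 := by
      induction hy using Subgroup.closure_induction with
      | mem y hy => exact hy
      | one => exact ⟨H.one_mem, one_pow _⟩
      | mul a b _ _ iha ihb =>
        refine ⟨H.mul_mem iha.1 ihb.1, ?_⟩
        rw [(show Commute a b from hab a iha.1 b ihb.1).mul_pow, iha.2, ihb.2, one_mul]
      | inv a _ iha =>
        exact ⟨H.inv_mem iha.1, by rw [inv_pow, iha.2, inv_one]⟩
    exact this.2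
  · -- exactly one character
    rw [Cfsg.Agent.S1535.set_eq H hC]
    set S : Set (N → ℂ) := inducedIrrAbove H ⊥ with hS
    have hSirr : ∀ χ ∈ S, IsIrrCharacter N χ := Cfsg.Agent.S1535.irrS H hC
    have hSfin : S.Finite := inducedIrrAbove_finite H ⊥
    obtain ⟨Sf, hSf⟩ : ∃ T : Finset (N → ℂ), (T : Set (N → ℂ)) = S :=
      ⟨hSfin.toFinset, Set.Finite.coe_toFinset _⟩
    have hsum := sum_inducedIrrAbove H ⊥ bot_le Sf hSf
    rw [Subgroup.relIndex_bot_left, hcard] at hsum
    have hcomm : ∀ a b : ↥H, a * b = b * a := fun a b => Subtype.ext (hab a a.2 b b.2)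
    have hterm : ∀ φ ∈ Sf, φ 1 ^ 2 / classInner φ φ = (H.index : ℂ) ^ 2 := by
      intro φ hφ
      have hφS : φ ∈ S := by rw [← hSf]; exact Finset.mem_coe.mpr hφ
      obtain ⟨θ, hθ, -, -, rfl⟩ := hφS
      have hφS' : indFun H θ ∈ S := by rw [← hSf]; exact Finset.mem_coe.mpr hφ
      have hθ1 : θ 1 = 1 := Cfsg.Agent.Lib.Helper83.irr_degree_one_of_comm hcomm ⟨θ, hθ⟩
      rw [classInner_irr_self (hSirr _ hφS'), div_one, Cfsg.Agent.Lib.Helper83.indFun_one_eq,
        hθ1, mul_one]
    rw [Finset.sum_congr rfl hterm, Finset.sum_const, nsmul_eq_mul] at hsum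
    have he : (H.index : ℂ) ≠ 0 := by
      exact_mod_cast (Subgroup.index_ne_zero_of_finite (H := H))
    have hcard1 : Sf.card = 1 := by
      have h1 : (Sf.card : ℂ) * (H.index : ℂ) ^ 2 = 1 * (H.index : ℂ) ^ 2 := by
        rw [hsum]
        push_cast
        ring
      have h2 := mul_right_cancel₀ (pow_ne_zero 2 he) h1
      exact_mod_cast h2
    obtain ⟨χ₀, hχ₀⟩ := Finset.card_eq_one.mp hcard1
    refine ⟨χ₀, ?_⟩
    rw [← hSf, hχ₀]
    simp

end Small

end Cfsg.Agent.Lib.Helper34
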