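import Mathlib

set_option autoImplicit false

namespace Cfsg.Agent.Lib.Helper34

/-- Sum of an invariant, algebraic-integer valued function over a finite invariant set on which a
finite group `Γ` acts freely (the action is given by an explicit map `act`) is `|Γ|` times an
algebraic integer. -/
theorem sum_free_action {Γ X : Type*} [Group Γ] [Fintype Γ] [DecidableEq X]
    (act : Γ → X → X) (h1 : ∀ x, act 1 x = x)
    (hmul : ∀ (γ γ' : Γ) (x : X), act (γ * γ') x = act γ (act γ' x))
    (f : X → ℂ) (hf : ∀ (γ : Γ) (x : X), f (act γ x) = f x) (hint : ∀ x, IsIntegral ℤ (f x)) :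
    ∀ (n : ℕ) (S : Finset X), S.card = n → (∀ (γ : Γ) x, x ∈ S → act γ x ∈ S) →
      (∀ (γ : Γ) x, x ∈ S → act γ x = x → γ = 1) →
      ∃ A : ℂ, IsIntegral ℤ A ∧ ∑ x ∈ S, f x = (Fintype.card Γ : ℂ) * A := by
  intro n
  induction n using Nat.strong_induction_on with
  | _ n ih =>
    intro S hcard hinv hfree
    rcases S.eq_empty_or_nonempty with rfl | ⟨x₀, hx₀⟩
    · exact ⟨0, isIntegral_zero, by simp⟩
    · have hinvact : ∀ (γ : Γ) (x : X), act γ⁻¹ (act γ x) = x := by
        intro γ x
        rw [← hmul, inv_mul_cancel, h1]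
      set O : Finset X := Finset.univ.image (fun γ : Γ => act γ x₀) with hO
      have hinj : Function.Injective (fun γ : Γ => act γ x₀) := by
        intro γ γ' h
        simp only at h
        have h2 : act (γ'⁻¹ * γ) x₀ = x₀ := by
          rw [hmul, h, hinvact]
        have h3 := hfree _ _ hx₀ h2
        exact (inv_mul_eq_one.mp h3).symm
      have hOS : O ⊆ S := by
        intro x hx
        rw [hO, Finset.mem_image] at hx
        obtain ⟨γ, _, rfl⟩ := hx
        exact hinv γ x₀ hx₀
      have hOsum : ∑ x ∈ O, f x = (Fintype.card Γ : ℂ) * f x₀ := by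
        rw [hO, Finset.sum_image (fun a _ b _ h => hinj h)]
        simp only [hf, Finset.sum_const, Finset.card_univ, nsmul_eq_mul]
      set S' := S \ O with hS'
      have hS'card : S'.card < n := by
        rw [← hcard]
        apply Finset.card_lt_card
        refine ⟨Finset.sdiff_subset, fun h => ?_⟩
        have h2 := h hx₀
        rw [hS', Finset.mem_sdiff] at h2
        apply h2.2
        rw [hO, Finset.mem_image]
        exact ⟨1, Finset.mem_univ _, h1 _⟩
      have hinv' : ∀ (γ : Γ) x, x ∈ S' → act γ x ∈ S' := by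
        intro γ x hx
        rw [hS', Finset.mem_sdiff] at hx ⊢
        refine ⟨hinv γ x hx.1, fun h => hx.2 ?_⟩
        rw [hO, Finset.mem_image] at h ⊢
        obtain ⟨γ', _, h'⟩ := h
        refine ⟨γ⁻¹ * γ', Finset.mem_univ _, ?_⟩
        rw [hmul, h', hinvact]
      have hfree' : ∀ (γ : Γ) x, x ∈ S' → act γ x = x → γ = 1 := by
        intro γ x hx
        exact hfree γ x (Finset.mem_sdiff.mp hx).1
      obtain ⟨A', hA', hsum'⟩ := ih S'.card hS'card S' rfl hinv' hfree'
      refine ⟨f x₀ + A', (hint x₀).add hA', ?_⟩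
      rw [← Finset.sum_sdiff hOS, ← hS', hsum', hOsum]
      ring

/-- In a subgroup of odd order no nontrivial element is conjugate (inside the subgroup) to its
inverse. -/
theorem eq_one_of_conj_eq_inv_of_odd {G : Type*} [Group G] (L : Subgroup G) [Finite L]
    (hodd : Odd (Nat.card L)) {g z : G} (hg : g ∈ L) (hz : z ∈ L) (h : g * z * g⁻¹ = z⁻¹) :
    z = 1 := by
  have hordg : Odd (orderOf g) := by
    have h1 : orderOf (⟨g, hg⟩ : L) ∣ Nat.card L := orderOf_dvd_natCard _
    rw [Subgroup.orderOf_mk] at h1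
    exact hodd.of_dvd_nat h1
  have hordz : Odd (orderOf z) := by
    have h1 : orderOf (⟨z, hz⟩ : L) ∣ Nat.card L := orderOf_dvd_natCard _
    rw [Subgroup.orderOf_mk] at h1
    exact hodd.of_dvd_nat h1
  have hgz : g * z = z⁻¹ * g := by
    calc g * z = (g * z * g⁻¹) * g := by group
      _ = z⁻¹ * g := by rw [h]
  have hgz' : g * z⁻¹ = z * g := by
    have h2 : g * z⁻¹ * g⁻¹ = z := by
      have : g * z⁻¹ * g⁻¹ = (g * z * g⁻¹)⁻¹ := by group
      rw [this, h, inv_inv]
    calc g * z⁻¹ = (g * z⁻¹ * g⁻¹) * g := by group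
      _ = z * g := by rw [h2]
  have hc2 : Commute (g ^ 2) z := by
    show g ^ 2 * z = z * g ^ 2
    rw [pow_two, mul_assoc, hgz, ← mul_assoc, hgz', mul_assoc]
  obtain ⟨k, hk⟩ := hordg
  have hgk : g = (g ^ 2) ^ (k + 1) := by
    rw [← pow_mul, show 2 * (k + 1) = orderOf g + 1 by omega, pow_succ, pow_orderOf_eq_one, one_mul]
  have hc : Commute g z := by
    rw [hgk]; exact hc2.pow_left _
  have hzz : z = z⁻¹ := by
    rw [← h, hc.eq, mul_inv_cancel_right]
  have hz2 : z ^ 2 = 1 := by
    rw [pow_two]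
    nth_rewrite 2 [hzz]
    exact mul_inv_cancel z
  have hd : orderOf z ∣ 2 := orderOf_dvd_of_pow_eq_one hz2
  have : orderOf z = 1 := by
    rcases (Nat.dvd_prime Nat.prime_two).mp hd with h1 | h2
    · exact h1
    · rw [h2] at hordz; exact absurd hordz (by decide)
  exact orderOf_eq_one_iff.mp this

end Cfsg.Agent.Lib.Helper34
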