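import Cfsg.Agent.Lib.Helper34.SibleyEx
import Cfsg.Agent.S1523

/-!
# Sibley's theorem, exceptional case, for a TI Sylow subgroup (helper34)
-/

set_option autoImplicit false

namespace Cfsg.Agent.Lib.Helper34

open Cfsg

/-- **Sibley, exceptional case.** `P` a non-abelian TI Sylow `p`-subgroup (`p` odd) properly
contained in its normaliser `N`, with `C_G(x) ≤ P` for `1 ≠ x ∈ P`.  Then the set of irreducible
characters of `N` not containing `P` in their kernel is coherent. -/
theorem sibley_ex_sylow {G : Type*} [Group G] [Fintype G] (p : ℕ) [Fact p.Prime] (hp : p ≠ 2)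
    (P : Sylow p G) (hna : ¬ IsMulCommutative (P : Subgroup G))
    (hTI : Cfsg.IsTISubset ((P : Subgroup G) : Set G))
    (hlt : (P : Subgroup G) < Subgroup.normalizer ((P : Subgroup G) : Set G))
    (hC : ∀ k ∈ (P : Subgroup G), k ≠ 1 → Subgroup.centralizer ({k} : Set G) ≤ (P : Subgroup G))
    [Fintype ↥(Subgroup.normalizer ((P : Subgroup G) : Set G))] :
    Cfsg.IsCoherent {χ : ↥(Subgroup.normalizer ((P : Subgroup G) : Set G)) → ℂ |
      Cfsg.IsIrrCharacter ↥(Subgroup.normalizer ((P : Subgroup G) : Set G)) χ ∧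
      ∃ x : ↥(Subgroup.normalizer ((P : Subgroup G) : Set G)), (x : G) ∈ (P : Subgroup G) ∧
        χ x ≠ χ 1} {1}ᶜ
      (fun α => Cfsg.indFun (Subgroup.normalizer ((P : Subgroup G) : Set G)) α) := by
  classical
  have hPN : (P : Subgroup G) ≤ Subgroup.normalizer ((P : Subgroup G) : Set G) :=
    Subgroup.le_normalizer
  haveI hKN : ((P : Subgroup G).subgroupOf
      (Subgroup.normalizer ((P : Subgroup G) : Set G))).Normal := Subgroup.normal_in_normalizer
  have hKp : IsPGroup p ((P : Subgroup G).subgroupOf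
      (Subgroup.normalizer ((P : Subgroup G) : Set G))) := P.isPGroup'.comap_subtype
  have hsyl : ∀ x : ↥(Subgroup.normalizer ((P : Subgroup G) : Set G)),
      (∃ j : ℕ, x ^ (p ^ j) = 1) → x ∈ (P : Subgroup G).subgroupOf
        (Subgroup.normalizer ((P : Subgroup G) : Set G)) := by
    rintro x ⟨j, hj⟩
    have hQn : ((P.subtype hPN : Sylow p ↥(Subgroup.normalizer ((P : Subgroup G) : Set G))) :
        Subgroup ↥(Subgroup.normalizer ((P : Subgroup G) : Set G))).Normal := by
      rw [Sylow.coe_subtype]; exact hKN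
    have hzp : IsPGroup p (Subgroup.zpowers x) := by
      have hdvd : orderOf x ∣ p ^ j := orderOf_dvd_of_pow_eq_one hj
      obtain ⟨i, -, hi⟩ := (Nat.dvd_prime_pow (Fact.out : p.Prime)).mp hdvd
      exact IsPGroup.of_card (n := i) (by rw [Nat.card_zpowers, hi])
    obtain ⟨Q', hQ'⟩ := hzp.exists_le_sylow
    haveI := Sylow.unique_of_normal (P.subtype hPN) hQn
    have hQQ : Q' = P.subtype hPN := Subsingleton.elim _ _
    have hx : x ∈ (Q' : Subgroup ↥(Subgroup.normalizer ((P : Subgroup G) : Set G))) :=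
      hQ' (Subgroup.mem_zpowers x)
    rw [hQQ, Sylow.coe_subtype] at hx
    exact hx
  have hna' : ¬ ∀ a ∈ (P : Subgroup G).subgroupOf (Subgroup.normalizer ((P : Subgroup G) : Set G)),
      ∀ b ∈ (P : Subgroup G).subgroupOf (Subgroup.normalizer ((P : Subgroup G) : Set G)),
        a * b = b * a := by
    intro h
    apply hna
    refine ⟨⟨fun a b => Subtype.ext ?_⟩⟩
    have := h ⟨a, hPN a.2⟩ a.2 ⟨b, hPN b.2⟩ b.2
    show (a : G) * (b : G) = (b : G) * (a : G)
    exact congrArg Subtype.val this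
  have hlt' : (P : Subgroup G).subgroupOf (Subgroup.normalizer ((P : Subgroup G) : Set G)) < ⊤ := by
    rw [lt_top_iff_ne_top, Ne, Subgroup.subgroupOf_eq_top]
    exact not_le_of_gt hlt
  have hC' := Cfsg.Agent.Lib.Helper34.frobTI_hC (P : Subgroup G) hC
  have hiso : ∀ α β : ↥(Subgroup.normalizer ((P : Subgroup G) : Set G)) → ℂ,
      Cfsg.IsClassFunction ↥(Subgroup.normalizer ((P : Subgroup G) : Set G)) α →
      Cfsg.IsClassFunction ↥(Subgroup.normalizer ((P : Subgroup G) : Set G)) β →
      (∀ x : ↥(Subgroup.normalizer ((P : Subgroup G) : Set G)),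
        x ∉ (P : Subgroup G).subgroupOf (Subgroup.normalizer ((P : Subgroup G) : Set G)) → α x = 0) →
      (∀ x : ↥(Subgroup.normalizer ((P : Subgroup G) : Set G)),
        x ∉ (P : Subgroup G).subgroupOf (Subgroup.normalizer ((P : Subgroup G) : Set G)) → β x = 0) →
      α 1 = 0 →
      Cfsg.classInner (Cfsg.indFun (Subgroup.normalizer ((P : Subgroup G) : Set G)) α)
        (Cfsg.indFun (Subgroup.normalizer ((P : Subgroup G) : Set G)) β) = Cfsg.classInner α β := by
    intro α β hα hβ hαoff hβoff hα1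
    exact Cfsg.Agent.Lib.Helper04.indFun_isometry_on_ti ((P : Subgroup G) : Set G) hTI
      (fun x hx => Subgroup.le_normalizer hx) α β hα hβ (fun x hx => hαoff x hx)
      (fun x hx => hβoff x hx) hα1
  have hoddN : Odd (Nat.card ↥(Subgroup.normalizer ((P : Subgroup G) : Set G))) :=
    odd_card_of_frob (Subgroup.normalizer ((P : Subgroup G) : Set G))
      ((P : Subgroup G).subgroupOf (Subgroup.normalizer ((P : Subgroup G) : Set G))) p hp hKp hna' hC'
  have hcardK : Nat.card ((P : Subgroup G).subgroupOf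
      (Subgroup.normalizer ((P : Subgroup G) : Set G))) = Nat.card (P : Subgroup G) :=
    Cfsg.Agent.S1519.card_subgroupOf_of_le hPN
  have hres := ex_assembly (Subgroup.normalizer ((P : Subgroup G) : Set G))
    ((P : Subgroup G).subgroupOf (Subgroup.normalizer ((P : Subgroup G) : Set G))) p hp hKp hsyl
    hna' hlt' hC' hiso (by
      intro ZN hZNn hZK hZc ψ hψ a ha hex
      obtain ⟨z, hz, hz1⟩ := hex
      set Z : Subgroup G := ZN.map (Subgroup.normalizer ((P : Subgroup G) : Set G)).subtype with hZ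
      have hZP : Z ≤ (P : Subgroup G) := by
        rintro _ ⟨z', hz', rfl⟩
        exact hZK hz'
      have hZn : ∀ x ∈ Subgroup.normalizer ((P : Subgroup G) : Set G), ∀ z' ∈ Z,
          x * z' * x⁻¹ ∈ Z := by
        rintro x hx _ ⟨z', hz', rfl⟩
        refine ⟨⟨x, hx⟩ * z' * ⟨x, hx⟩⁻¹, hZNn.conj_mem z' hz' ⟨x, hx⟩, ?_⟩
        simp
      have hZc' : ∀ z' ∈ Z, ∀ y ∈ (P : Subgroup G), z' * y = y * z' := by
        rintro _ ⟨z', hz', rfl⟩ y hy
        have := hZc z' hz' ⟨y, hPN hy⟩ hy
        exact congrArg Subtype.val this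
      have ha' : ∀ z' ∈ Z, z' ≠ 1 → ψ z' = a := by
        rintro _ ⟨z', hz', rfl⟩ hne
        apply ha z' hz'
        rintro rfl
        exact hne rfl
      have hzZ : ((z : ↥(Subgroup.normalizer ((P : Subgroup G) : Set G))) : G) ∈ Z :=
        ⟨z, hz, rfl⟩
      have hzne : ((z : ↥(Subgroup.normalizer ((P : Subgroup G) : Set G))) : G) ≠ 1 := by
        intro h
        apply hz1
        exact Subtype.ext h
      obtain ⟨A, hA, hAeq⟩ := Cfsg.Agent.S1523.core p P hTI hoddN Z hZP hZn hZc' ψ hψ a ha' _ hzZ hzne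
      refine ⟨A, hA, ?_⟩
      rw [hcardK]
      exact hAeq)
  exact hres

end Cfsg.Agent.Lib.Helper34
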