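import Mathlib
import Cfsg.Prelude.Def_Characters
import Cfsg.Prelude.Def_Blocks

/-!
# Power-map (Galois) orbits of class functions on `p`-groups: definitions for S4489 (helper34)

`ptw k φ = fun g => φ (g ^ k)`; for a character `φ` of a finite `p`-group and `p ∤ k` this is the Galois
conjugate of `φ` under `ζ ↦ ζ ^ k`.  `porbit p φ` is the set of all these twists and `pN p φ` its cardinality
(`= [ℚ(φ) : ℚ]`, keystone K-A).
-/

set_option autoImplicit false

namespace Cfsg.Agent.Lib.Helper34.PFaith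

/-- the twist of `φ` by the `k`-th power map -/
def ptw {G : Type*} [Group G] (k : ℕ) (φ : G → ℂ) : G → ℂ := fun g => φ (g ^ k)

@[simp] theorem ptw_apply {G : Type*} [Group G] (k : ℕ) (φ : G → ℂ) (g : G) :
    ptw k φ g = φ (g ^ k) := rfl

theorem ptw_one {G : Type*} [Group G] (φ : G → ℂ) : ptw 1 φ = φ := by
  funext g; simp [ptw]

theorem ptw_ptw {G : Type*} [Group G] (k l : ℕ) (φ : G → ℂ) : ptw k (ptw l φ) = ptw (k * l) φ := by
  funext g; simp [ptw, pow_mul]

/-- the orbit of `φ` under all power maps prime to `p` -/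
def porbit {G : Type*} [Group G] (p : ℕ) (φ : G → ℂ) : Set (G → ℂ) :=
  {φ' | ∃ k : ℕ, ¬ p ∣ k ∧ φ' = ptw k φ}

/-- the number of Galois conjugates of `φ` under power maps prime to `p` -/
noncomputable def pN {G : Type*} [Group G] (p : ℕ) (φ : G → ℂ) : ℕ := Set.ncard (porbit p φ)

end Cfsg.Agent.Lib.Helper34.PFaith
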