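import Mathlib

/-!
K-S2037-C (keystone for helper95): invariant complement by the five-fold norm.
-/

set_option autoImplicit false

namespace Cfsg.Agent.Lib.Helper34.SchurTwo

section norm

variable {E : Type*} [Group E] (M : Subgroup E) [M.Normal] (c : E)

/-- the five-fold norm on the normal subgroup `M` for conjugation by `c`. -/
noncomputable def nu5 (m : M) : M :=
  m * MulAut.conjNormal c m * MulAut.conjNormal c (MulAut.conjNormal c m) *
    MulAut.conjNormal c (MulAut.conjNormal c (MulAut.conjNormal c m)) *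
    MulAut.conjNormal c (MulAut.conjNormal c (MulAut.conjNormal c (MulAut.conjNormal c m)))

variable {M c}

theorem phi5_apply (hc5 : c ^ 5 = 1) (m : M) :
    MulAut.conjNormal c (MulAut.conjNormal c (MulAut.conjNormal c
      (MulAut.conjNormal c (MulAut.conjNormal c m)))) = m := by
  apply Subtype.ext
  simp only [MulAut.conjNormal_apply]
  have hc5' : c * c * c * c * c = 1 := by simpa [pow_succ] using hc5
  have h : c * (c * (c * (c * (c * (m : E) * c⁻¹) * c⁻¹) * c⁻¹) * c⁻¹) * c⁻¹
      = (c * c * c * c * c) * (m : E) * (c * c * c * c * c)⁻¹ := by group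
  rw [h, hc5']; simp

theorem nu5_mul (hcomm : ∀ a b : M, a * b = b * a) (a b : M) :
    nu5 M c (a * b) = nu5 M c a * nu5 M c b := by
  let _ : CommGroup M := { (inferInstance : Group M) with mul_comm := hcomm }
  simp only [nu5, map_mul]
  ac_rfl

theorem phi_nu5 (hcomm : ∀ a b : M, a * b = b * a) (hc5 : c ^ 5 = 1) (m : M) :
    MulAut.conjNormal c (nu5 M c m) = nu5 M c m := by
  let _ : CommGroup M := { (inferInstance : Group M) with mul_comm := hcomm }
  simp only [nu5, map_mul, phi5_apply hc5]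
  ac_rfl

theorem nu5_phi (hcomm : ∀ a b : M, a * b = b * a) (hc5 : c ^ 5 = 1) (m : M) :
    nu5 M c (MulAut.conjNormal c m) = nu5 M c m := by
  let _ : CommGroup M := { (inferInstance : Group M) with mul_comm := hcomm }
  simp only [nu5, phi5_apply hc5]
  ac_rfl

end norm

section compl

variable {E : Type*} [Group E]

/-- parity of membership in an index-two complement `C'` of `⟨z⟩` in `M`. -/
theorem mem_mul_iff_of_compl {M C' : Subgroup E} {z : E} (hzM : z ∈ M)
    (hzc : ∀ x : E, x * z = z * x) (hexp : ∀ m ∈ M, m * m = 1)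
    (hcov : ∀ m ∈ M, m ∈ C' ∨ m * z ∈ C')
    {a b : E} (ha : a ∈ M) (hb : b ∈ M) : a * b ∈ C' ↔ (a ∈ C' ↔ b ∈ C') := by
  constructor
  · intro hab
    constructor
    · intro ha'
      have := C'.mul_mem (C'.inv_mem ha') hab
      simpa using this
    · intro hb'
      have := C'.mul_mem hab (C'.inv_mem hb')
      simpa using this
  · intro h
    by_cases ha' : a ∈ C'
    · exact C'.mul_mem ha' (h.1 ha')
    · have hb' : b ∉ C' := fun hb' => ha' (h.2 hb')
      have h1 := (hcov a ha).resolve_left ha'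
      have h2 := (hcov b hb).resolve_left hb'
      have h3 := C'.mul_mem h1 h2
      have hzz : z * z = 1 := hexp z hzM
      have e : a * z * (b * z) = a * b := by
        calc a * z * (b * z) = a * (z * b) * z := by group
          _ = a * (b * z) * z := by rw [hzc b]
          _ = a * b * (z * z) := by group
          _ = a * b := by rw [hzz, mul_one]
      rwa [e] at h3

/-- two complements agreeing on a generating set coincide. -/
theorem compl_ext {M C' C'' : Subgroup E} {z : E} (hzM : z ∈ M)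
    (hzc : ∀ x : E, x * z = z * x) (hexp : ∀ m ∈ M, m * m = 1)
    (hC' : C' ≤ M) (hcov' : ∀ m ∈ M, m ∈ C' ∨ m * z ∈ C')
    (hC'' : C'' ≤ M) (hcov'' : ∀ m ∈ M, m ∈ C'' ∨ m * z ∈ C'')
    (S : Set E) (hgen : M ≤ Subgroup.closure S)
    (hS : ∀ s ∈ S, s ∈ M ∧ (s ∈ C' ↔ s ∈ C'')) : C' = C'' := by
  let A : Subgroup E :=
    { carrier := {x | x ∈ M ∧ (x ∈ C' ↔ x ∈ C'')}
      one_mem' := ⟨M.one_mem, by simp [C'.one_mem, C''.one_mem]⟩
      mul_mem' := by
        rintro a b ⟨ha, ha'⟩ ⟨hb, hb'⟩
        refine ⟨M.mul_mem ha hb, ?_⟩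
        rw [mem_mul_iff_of_compl hzM hzc hexp hcov' ha hb,
          mem_mul_iff_of_compl hzM hzc hexp hcov'' ha hb, ha', hb']
      inv_mem' := by
        rintro a ⟨ha, ha'⟩
        exact ⟨M.inv_mem ha, by rw [inv_mem_iff, inv_mem_iff, ha']⟩ }
  have hA : M ≤ A := hgen.trans ((Subgroup.closure_le A).2 (fun s hs => hS s hs))
  ext x
  constructor
  · intro hx; exact (hA (hC' hx)).2.1 hx
  · intro hx; exact (hA (hC'' hx)).2.2 hx

end compl

section main

open scoped Pointwise

theorem exists_invariant_complement {E : Type*} [Group E] [Finite E] (M : Subgroup E) [M.Normal]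
    (z : E) (hzM : z ∈ M) (hz1 : z ≠ 1) (hzc : ∀ x : E, x * z = z * x)
    (hexp : ∀ m ∈ M, m * m = 1) (m₁ m₂ m₃ m₄ : E)
    (hm₁ : m₁ ∈ M) (hm₂ : m₂ ∈ M) (hm₃ : m₃ ∈ M) (hm₄ : m₄ ∈ M)
    (hgen : M ≤ Subgroup.closure {z, m₁, m₂, m₃, m₄})
    (c : E) (hc5 : c ^ 5 = 1) (hcfix : ∀ m ∈ M, c * m * c⁻¹ = m → m = 1 ∨ m = z) :
    ∃ C : Subgroup E, C ≤ M ∧ z ∉ C ∧ (∀ m ∈ M, m ∈ C ∨ m * z ∈ C) ∧
      c ∈ Subgroup.normalizer (C : Set E) ∧
      M ≤ Subgroup.normalizer (C : Set E) ∧
      ∀ F : Subgroup E, c ∈ F →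
        (Subgroup.normalizer (C : Set E)).relIndex F ≤ 16 ∧
          (Subgroup.normalizer (C : Set E)).relIndex F % 5 = 1 := by
  classical
  have hnorm : ∀ g x : E, x ∈ M → g * x * g⁻¹ ∈ M := fun g x hx =>
    (inferInstance : M.Normal).conj_mem x hx g
  have hnorm' : ∀ g x : E, g * x * g⁻¹ ∈ M → x ∈ M := by
    intro g x hx
    have := hnorm g⁻¹ _ hx
    simpa [mul_assoc] using this
  have hzz : z * z = 1 := hexp z hzM
  have hconjz : ∀ g : E, g * z * g⁻¹ = z := fun g => by rw [hzc g, mul_inv_cancel_right]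
  -- commutativity of M
  have hcomm : ∀ a b : M, a * b = b * a := by
    intro a b
    apply Subtype.ext
    have ha := hexp a a.2
    have hb := hexp b b.2
    have hab := hexp ((a : E) * b) (M.mul_mem a.2 b.2)
    have h1 : (a : E)⁻¹ = a := inv_eq_of_mul_eq_one_right ha
    have h2 : (b : E)⁻¹ = b := inv_eq_of_mul_eq_one_right hb
    show (a : E) * b = b * a
    calc (a : E) * b = ((a : E) * b)⁻¹ := (inv_eq_of_mul_eq_one_right hab).symm
      _ = (b : E)⁻¹ * (a : E)⁻¹ := mul_inv_rev _ _
      _ = b * a := by rw [h1, h2]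
  set zM : M := ⟨z, hzM⟩ with hzMdef
  have hphiz : MulAut.conjNormal c zM = zM := by
    apply Subtype.ext
    rw [MulAut.conjNormal_apply]
    exact hconjz c
  have hzMzM : zM * zM = 1 := Subtype.ext hzz
  have hzM1 : zM ≠ 1 := fun h => hz1 (congrArg Subtype.val h)
  have hnuz : nu5 M c zM = zM := by
    simp only [nu5, hphiz]
    rw [hzMzM, one_mul, hzMzM, one_mul]
  have hnuval : ∀ m : M, nu5 M c m = 1 ∨ nu5 M c m = zM := by
    intro m
    have h := phi_nu5 hcomm hc5 m
    have h' : c * ((nu5 M c m : M) : E) * c⁻¹ = (nu5 M c m : M) := by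
      rw [← MulAut.conjNormal_apply, h]
    rcases hcfix _ (nu5 M c m).2 h' with h1 | h1
    · left; exact Subtype.ext h1
    · right; exact Subtype.ext h1
  have hnu1 : nu5 M c 1 = 1 := by simp [nu5]
  let νh : M →* M :=
    { toFun := nu5 M c
      map_one' := hnu1
      map_mul' := nu5_mul hcomm }
  let C : Subgroup E := νh.ker.map M.subtype
  have hCmem : ∀ x : E, x ∈ C ↔ ∃ h : x ∈ M, nu5 M c ⟨x, h⟩ = 1 := by
    intro x
    constructor
    · rintro ⟨m, hm, rfl⟩
      exact ⟨m.2, hm⟩
    · rintro ⟨h, hx⟩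
      exact ⟨⟨x, h⟩, hx, rfl⟩
  have hCM : C ≤ M := Subgroup.map_subtype_le _
  have hzC : z ∉ C := by
    intro h
    obtain ⟨h', hx⟩ := (hCmem z).1 h
    have : nu5 M c zM = 1 := hx
    rw [hnuz] at this
    exact hzM1 this
  have hcov : ∀ m ∈ M, m ∈ C ∨ m * z ∈ C := by
    intro m hm
    rcases hnuval ⟨m, hm⟩ with h | h
    · left; exact (hCmem m).2 ⟨hm, h⟩
    · right
      refine (hCmem _).2 ⟨M.mul_mem hm hzM, ?_⟩
      have : (⟨m * z, M.mul_mem hm hzM⟩ : M) = ⟨m, hm⟩ * zM := rfl
      rw [this, nu5_mul hcomm, h, hnuz, hzMzM]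
  have hcN : c ∈ Subgroup.normalizer (C : Set E) := by
    rw [Subgroup.mem_normalizer_iff]
    intro h
    have key : ∀ (hh : h ∈ M) (hh' : c * h * c⁻¹ ∈ M),
        nu5 M c ⟨c * h * c⁻¹, hh'⟩ = nu5 M c ⟨h, hh⟩ := by
      intro hh hh'
      have : (⟨c * h * c⁻¹, hh'⟩ : M) = MulAut.conjNormal c ⟨h, hh⟩ :=
        Subtype.ext (by rw [MulAut.conjNormal_apply])
      rw [this, nu5_phi hcomm hc5]
    constructor
    · intro hC
      obtain ⟨hh, hx⟩ := (hCmem h).1 hC
      exact (hCmem _).2 ⟨hnorm c h hh, by rw [key hh (hnorm c h hh), hx]⟩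
    · intro hC
      obtain ⟨hh', hx⟩ := (hCmem _).1 hC
      have hh := hnorm' c h hh'
      exact (hCmem _).2 ⟨hh, by rw [← key hh hh', hx]⟩
  have hMN : M ≤ Subgroup.normalizer (C : Set E) := by
    intro a ha
    rw [Subgroup.mem_normalizer_iff]
    intro h
    have e : ∀ hh : h ∈ M, a * h * a⁻¹ = h := by
      intro hh
      have := congrArg Subtype.val (hcomm ⟨a, ha⟩ ⟨h, hh⟩)
      have h' : a * h = h * a := this
      rw [h', mul_inv_cancel_right]
    constructor
    · intro hC
      rw [e (hCM hC)]; exact hC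
    · intro hC
      have hh := hnorm' a h (hCM hC)
      rw [e hh] at hC; exact hC
  refine ⟨C, hCM, hzC, hcov, hcN, hMN, ?_⟩
  -- conjugates of C
  have hmapmem : ∀ (g x : E), x ∈ C.map (MulAut.conj g).toMonoidHom ↔ g⁻¹ * x * g ∈ C := by
    intro g x
    rw [Subgroup.mem_map_equiv]
    simp [MulAut.conj_symm_apply]
  have hPconj : ∀ g : E, (C.map (MulAut.conj g).toMonoidHom ≤ M) ∧
      (∀ m ∈ M, m ∈ C.map (MulAut.conj g).toMonoidHom ∨
        m * z ∈ C.map (MulAut.conj g).toMonoidHom) := by
    intro g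
    constructor
    · intro x hx
      rw [hmapmem] at hx
      have h1 := hCM hx
      have h2 := hnorm g _ h1
      simpa [mul_assoc] using h2
    · intro m hm
      have h1 : g⁻¹ * m * g ∈ M := by
        have := hnorm g⁻¹ m hm
        simpa using this
      rcases hcov _ h1 with h | h
      · left; rw [hmapmem]; exact h
      · right; rw [hmapmem]
        have e : g⁻¹ * (m * z) * g = g⁻¹ * m * g * z := by
          calc g⁻¹ * (m * z) * g = g⁻¹ * m * (z * g) := by group
            _ = g⁻¹ * m * (g * z) := by rw [hzc g]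
            _ = g⁻¹ * m * g * z := by group
        rw [e]; exact h
  -- uniqueness
  have huniq : ∀ C' : Subgroup E, C' ≤ M → z ∉ C' → (∀ m ∈ M, m ∈ C' ∨ m * z ∈ C') →
      c ∈ Subgroup.normalizer (C' : Set E) → C' = C := by
    intro C' hC'M hzC' hcov' hcN'
    rw [Subgroup.mem_normalizer_iff] at hcN'
    have hpar := fun {a b : E} (ha : a ∈ M) (hb : b ∈ M) =>
      mem_mul_iff_of_compl (C' := C') hzM hzc hexp hcov' ha hb
    have hphimem : ∀ m : M, ((MulAut.conjNormal c m : M) : E) ∈ C' ↔ (m : E) ∈ C' := by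
      intro m
      rw [MulAut.conjNormal_apply]
      exact (hcN' m).symm
    have hnumem : ∀ m : M, ((nu5 M c m : M) : E) ∈ C' ↔ (m : E) ∈ C' := by
      intro m
      simp only [nu5, Subgroup.coe_mul]
      rw [hpar (M.mul_mem (M.mul_mem (M.mul_mem m.2 (Subtype.prop _)) (Subtype.prop _))
        (Subtype.prop _)) (Subtype.prop _),
        hpar (M.mul_mem (M.mul_mem m.2 (Subtype.prop _)) (Subtype.prop _)) (Subtype.prop _),
        hpar (M.mul_mem m.2 (Subtype.prop _)) (Subtype.prop _),
        hpar m.2 (Subtype.prop _)]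
      simp only [hphimem]
      tauto
    have hiff : ∀ m : M, (m : E) ∈ C' ↔ nu5 M c m = 1 := by
      intro m
      rw [← hnumem m]
      rcases hnuval m with h | h
      · rw [h]; simp [C'.one_mem]
      · rw [h]
        constructor
        · intro h'; exact absurd h' hzC'
        · intro h'; exact absurd h' hzM1
    ext x
    constructor
    · intro hx
      exact (hCmem x).2 ⟨hC'M hx, (hiff ⟨x, hC'M hx⟩).1 hx⟩
    · intro hx
      obtain ⟨h, hx'⟩ := (hCmem x).1 hx
      exact (hiff ⟨x, h⟩).2 hx'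
  intro F hcF
  set N : Subgroup E := Subgroup.normalizer (C : Set E) with hNdef
  set K : Subgroup F := N.subgroupOf F with hKdef
  have hrel : N.relIndex F = Nat.card (F ⧸ K) := rfl
  -- Θ
  have hΘ : ∀ g h : E, C.map (MulAut.conj g).toMonoidHom = C.map (MulAut.conj h).toMonoidHom →
      g⁻¹ * h ∈ N := by
    intro g h hgh
    rw [hNdef, Subgroup.mem_normalizer_iff]
    intro x
    have h1 := hmapmem g (h * x * h⁻¹)
    have h2 := hmapmem h (h * x * h⁻¹)
    rw [hgh] at h1
    have e1 : h⁻¹ * (h * x * h⁻¹) * h = x := by group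
    have e2 : g⁻¹ * (h * x * h⁻¹) * g = g⁻¹ * h * x * (g⁻¹ * h)⁻¹ := by group
    rw [e1] at h2
    rw [e2] at h1
    rw [← h2, h1]
  have hmemN : ∀ g : E, C.map (MulAut.conj g).toMonoidHom = C → g ∈ N := by
    intro g hg
    rw [hNdef, Subgroup.mem_normalizer_iff]
    intro x
    have h1 := hmapmem g (g * x * g⁻¹)
    rw [hg] at h1
    have e1 : g⁻¹ * (g * x * g⁻¹) * g = x := by group
    rw [e1] at h1
    exact h1.symm
  haveI : Finite (F ⧸ K) := inferInstance
  constructor
  · -- bound by 16
    rw [hrel]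
    let f : F ⧸ K → Bool × Bool × Bool × Bool := fun q =>
      (decide (m₁ ∈ C.map (MulAut.conj ((q.out : F) : E)).toMonoidHom),
       decide (m₂ ∈ C.map (MulAut.conj ((q.out : F) : E)).toMonoidHom),
       decide (m₃ ∈ C.map (MulAut.conj ((q.out : F) : E)).toMonoidHom),
       decide (m₄ ∈ C.map (MulAut.conj ((q.out : F) : E)).toMonoidHom))
    have hf : Function.Injective f := by
      intro q q' hqq
      simp only [f, Prod.mk.injEq, decide_eq_decide] at hqq
      obtain ⟨e1, e2, e3, e4⟩ := hqq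
      have hzmap : ∀ g : E, z ∉ C.map (MulAut.conj g).toMonoidHom := by
        intro g hg
        rw [hmapmem] at hg
        have : g⁻¹ * z * g = z := by
          have := hconjz g⁻¹
          simpa using this
        rw [this] at hg
        exact hzC hg
      have heq : C.map (MulAut.conj ((q.out : F) : E)).toMonoidHom
          = C.map (MulAut.conj ((q'.out : F) : E)).toMonoidHom := by
        apply compl_ext hzM hzc hexp (hPconj _).1 (hPconj _).2 (hPconj _).1 (hPconj _).2
          {z, m₁, m₂, m₃, m₄} hgen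
        intro s hs
        simp only [Set.mem_insert_iff, Set.mem_singleton_iff] at hs
        rcases hs with rfl | rfl | rfl | rfl | rfl
        · exact ⟨hzM, ⟨fun h => absurd h (hzmap _), fun h => absurd h (hzmap _)⟩⟩
        · exact ⟨hm₁, e1⟩
        · exact ⟨hm₂, e2⟩
        · exact ⟨hm₃, e3⟩
        · exact ⟨hm₄, e4⟩
      have hK : (q.out)⁻¹ * q'.out ∈ K := by
        refine Subgroup.mem_subgroupOf.2 ?_
        have := hΘ _ _ heq
        simpa using this
      have : ((q.out : F) : F ⧸ K) = (q'.out : F) := QuotientGroup.eq.2 hK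
      rwa [QuotientGroup.out_eq', QuotientGroup.out_eq'] at this
    calc Nat.card (F ⧸ K) ≤ Nat.card (Bool × Bool × Bool × Bool) :=
          Nat.card_le_card_of_injective f hf
      _ = 16 := by simp [Nat.card_eq_fintype_card]
  · -- congruence mod 5
    rw [hrel]
    haveI : Fact (Nat.Prime 5) := ⟨by norm_num⟩
    haveI : Fintype (F ⧸ K) := Fintype.ofFinite _
    let cF : F := ⟨c, hcF⟩
    let σ : F ⧸ K → F ⧸ K := fun q => cF • q
    let σE : Function.End (F ⧸ K) := σ
    have hcF5 : cF ^ 5 = 1 := Subtype.ext (by simpa using hc5)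
    have h5 : ∀ q, (σE ^ 5) q = q := by
      intro q
      show σ (σ (σ (σ (σ q)))) = q
      simp only [σ, smul_smul]
      have : cF * (cF * (cF * (cF * cF))) = cF ^ 5 := by simp [pow_succ, mul_assoc]
      rw [this, hcF5, one_smul]
    have hσ5 : σE ^ 5 ^ 1 = 1 := by
      rw [pow_one]
      exact funext h5
    have hmod : Fintype.card (F ⧸ K) ≡ Fintype.card (Function.fixedPoints σ) [MOD 5] :=
      Equiv.Perm.card_fixedPoints_modEq (f := σE) (p := 5) (n := 1) hσ5
    have hfix : Function.fixedPoints σ = {((1 : F) : F ⧸ K)} := by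
      ext q
      rw [Function.mem_fixedPoints_iff, Set.mem_singleton_iff]
      constructor
      · intro hq
        induction q using QuotientGroup.induction_on with
        | H g =>
          have h1 : σ (g : F ⧸ K) = ((cF * g : F) : F ⧸ K) := rfl
          rw [h1, QuotientGroup.eq] at hq
          rw [hKdef, Subgroup.mem_subgroupOf] at hq
          -- n := g⁻¹ c⁻¹ g ∈ N
          have hn : ((g : E))⁻¹ * c⁻¹ * (g : E) ∈ N := by
            have : (((cF * g)⁻¹ * g : F) : E) = ((g : E))⁻¹ * c⁻¹ * (g : E) := by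
              simp [cF, mul_assoc]
            rwa [this] at hq
          have hn' : ((g : E))⁻¹ * c * (g : E) ∈ N := by
            have := N.inv_mem hn
            simpa [mul_assoc] using this
          rw [hNdef, Subgroup.mem_normalizer_iff] at hn'
          have hcNg : c ∈ Subgroup.normalizer
              ((C.map (MulAut.conj (g : E)).toMonoidHom : Subgroup E) : Set E) := by
            rw [Subgroup.mem_normalizer_iff]
            intro x
            rw [hmapmem, hmapmem, hn' ((g : E)⁻¹ * x * g)]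
            have e : (g : E)⁻¹ * c * g * ((g : E)⁻¹ * x * g) * ((g : E)⁻¹ * c * g)⁻¹
                = (g : E)⁻¹ * (c * x * c⁻¹) * g := by group
            rw [e]
          have hzmap : z ∉ C.map (MulAut.conj (g : E)).toMonoidHom := by
            intro hg
            rw [hmapmem] at hg
            have : (g : E)⁻¹ * z * g = z := by
              have := hconjz (g : E)⁻¹
              simpa using this
            rw [this] at hg
            exact hzC hg
          have hCg := huniq _ (hPconj _).1 hzmap (hPconj _).2 hcNg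
          have hgN : (g : E) ∈ N := hmemN _ hCg
          rw [QuotientGroup.eq]
          rw [hKdef, Subgroup.mem_subgroupOf]
          simpa using hgN
      · intro hq
        rw [hq]
        have h1 : σ ((1 : F) : F ⧸ K) = ((cF * 1 : F) : F ⧸ K) := rfl
        rw [h1, QuotientGroup.eq, hKdef, Subgroup.mem_subgroupOf]
        simpa [cF] using N.inv_mem hcN
    have hcard : Fintype.card (Function.fixedPoints σ) = 1 := by
      rw [← Nat.card_eq_fintype_card, hfix]
      simp
    rw [hcard] at hmod
    rw [Nat.card_eq_fintype_card]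
    exact hmod

end main

end Cfsg.Agent.Lib.Helper34.SchurTwo
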