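import Mathlib
import Cfsg.Prelude.Def_Characters
import Cfsg.Prelude.Def_Blocks
import Cfsg.Agent.Lib.Helper83.CharBasic
import Cfsg.Agent.Lib.Helper83.Quotient

/-!
# `p`-solvable linear groups (S4472, Winter/Dixon): shared definitions (helper34)

* `lam p n = ∑_{i ≤ n} ⌊n / ((p-1) p^i)⌋` : Schur's bound.
* `cenQuot H K` (`K ⊲ X`): the subgroup of the `x : X` acting trivially on `H K / K`, i.e. with
  `h⁻¹ x⁻¹ h x ∈ K` for all `h ∈ H`  (`mem_cenQuot`).
-/

set_option autoImplicit false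

namespace Cfsg.Agent.Lib.Helper34.PSL

open Cfsg Cfsg.Agent.Lib.Helper83

/-- Schur's bound `λ_p(n)` -/
def lam (p n : ℕ) : ℕ := ∑ i ∈ Finset.range (n + 1), n / ((p - 1) * p ^ i)

/-- `C_X(H K / K)`: the elements of `X` acting trivially (by conjugation) on `H` modulo the normal subgroup `K` -/
def cenQuot {X : Type*} [Group X] (H K : Subgroup X) [K.Normal] : Subgroup X :=
  (Subgroup.centralizer ((H.map (QuotientGroup.mk' K) : Subgroup (X ⧸ K)) : Set (X ⧸ K))).comap
    (QuotientGroup.mk' K)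

theorem mem_cenQuot {X : Type*} [Group X] (H K : Subgroup X) [K.Normal] (x : X) :
    x ∈ cenQuot H K ↔ ∀ h ∈ H, h⁻¹ * x⁻¹ * h * x ∈ K := by
  unfold cenQuot
  rw [Subgroup.mem_comap, Subgroup.mem_centralizer_iff]
  constructor
  · intro hx h hh
    have h1 := hx (QuotientGroup.mk' K h) (Subgroup.mem_map_of_mem _ hh)
    simp only [QuotientGroup.mk'_apply] at h1
    rw [← QuotientGroup.mk_mul, ← QuotientGroup.mk_mul, QuotientGroup.eq] at h1
    have h3 : h⁻¹ * x⁻¹ * h * x = ((h * x)⁻¹ * (x * h))⁻¹ := by group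
    rw [h3]
    exact K.inv_mem h1
  · intro hx y hy
    obtain ⟨h, hh, rfl⟩ := hy
    simp only [QuotientGroup.mk'_apply]
    rw [← QuotientGroup.mk_mul, ← QuotientGroup.mk_mul, QuotientGroup.eq]
    have h1 := hx h hh
    have h3 : (h * x)⁻¹ * (x * h) = (h⁻¹ * x⁻¹ * h * x)⁻¹ := by group
    rw [h3]
    exact K.inv_mem h1

instance cenQuot_normal {X : Type*} [Group X] (H K : Subgroup X) [hH : H.Normal] [hK : K.Normal] :
    (cenQuot H K).Normal := by
  constructor
  intro x hx g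
  rw [mem_cenQuot] at hx ⊢
  intro h hh
  have h1 := hx (g⁻¹ * h * g) (by simpa using hH.conj_mem h hh g⁻¹)
  have h2 := hK.conj_mem _ h1 g
  convert h2 using 1
  group

theorem cenQuot_mono_right {X : Type*} [Group X] (H K K' : Subgroup X) [K.Normal] [K'.Normal]
    (h : K ≤ K') : cenQuot H K ≤ cenQuot H K' := by
  intro x hx
  rw [mem_cenQuot] at hx ⊢
  exact fun y hy => h (hx y hy)

/-- any normal subgroup `N` with `N ⊓ H ≤ K` acts trivially on `H` mod `K` (when `H` is normal) -/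
theorem le_cenQuot_of_inf_le {X : Type*} [Group X] (H K N : Subgroup X) [hH : H.Normal] [K.Normal]
    [hN : N.Normal] (h : N ⊓ H ≤ K) : N ≤ cenQuot H K := by
  intro x hx
  rw [mem_cenQuot]
  intro y hy
  apply h
  constructor
  · have h1 := hN.conj_mem _ (N.inv_mem hx) y⁻¹
    have h2 : y⁻¹ * x⁻¹ * y * x = (y⁻¹ * x⁻¹ * y⁻¹⁻¹) * x := by group
    rw [h2]
    exact N.mul_mem h1 hx
  · have h1 := hH.conj_mem _ hy x⁻¹
    have h2 : y⁻¹ * x⁻¹ * y * x = y⁻¹ * (x⁻¹ * y * x⁻¹⁻¹) := by group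
    rw [h2]
    exact H.mul_mem (H.inv_mem hy) h1

theorem index_cenQuot_ne_zero {X : Type*} [Group X] [Finite X] (H K : Subgroup X) [K.Normal] :
    (cenQuot H K).index ≠ 0 := Subgroup.index_ne_zero_of_finite

end Cfsg.Agent.Lib.Helper34.PSL
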