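import Mathlib
import Cfsg.Agent.Lib.Helper05.A10Defs

/-!
# K-A10-A2 (keystone 348902, S3489 pack, architect helper5): the element orders of `A₁₀` lie in `{1,…,10,12,15,21}`

The cycle type of an even permutation of 10 points is a multiset of numbers `≥ 2` with sum `≤ 10` and an even number of
even parts; a small recursive Boolean check over all such (ordered) lists, evaluated by `decide`, shows that the lcm lies in
the spectrum.
-/

set_option autoImplicit false

namespace Cfsg.Agent.Lib.Helper34.A10Iso

open Cfsg.Agent.Lib.Helper05.A10Iso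

/-- membership in the spectrum, as a Boolean -/
def inSpec (n : ℕ) : Bool := [1, 2, 3, 4, 5, 6, 7, 8, 9, 10, 12, 15, 21].contains n

theorem mem_spec_of_inSpec {n : ℕ} (h : inSpec n = true) : n ∈ spec := by
  unfold inSpec at h
  simp only [List.contains_eq_mem, List.mem_cons, List.not_mem_nil, or_false,
    decide_eq_true_eq] at h
  unfold spec
  simp only [Set.mem_insert_iff, Set.mem_singleton_iff]
  omega

/-- parity of the number of even entries -/
def evPar : List ℕ → Bool
  | [] => false
  | a :: l => xor (a % 2 == 0) (evPar l)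

/-- the lcm of a list -/
def lcmL : List ℕ → ℕ
  | [] => 1
  | a :: l => Nat.lcm a (lcmL l)

/-- the check: all lists of parts `≥ 2` with sum `≤ b`, starting from the lcm `L` and the parity `par` -/
def chk : ℕ → ℕ → ℕ → Bool → Bool
  | 0, _, _, _ => true
  | f + 1, b, L, par => (par || inSpec L) &&
      (List.range (b + 1)).all fun a => decide (a < 2) || chk f (b - a) (Nat.lcm L a) (xor par (a % 2 == 0))

theorem chk_sound : ∀ (f b L : ℕ) (par : Bool), chk f b L par = true → b < f →
    ∀ l : List ℕ, (∀ a ∈ l, 2 ≤ a) → l.sum ≤ b → xor par (evPar l) = false →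
      inSpec (Nat.lcm L (lcmL l)) = true := by
  intro f
  induction f with
  | zero => intro b L par _ hb; omega
  | succ f ih =>
    intro b L par hc hb l hl hs hp
    unfold chk at hc
    rw [Bool.and_eq_true, List.all_eq_true] at hc
    obtain ⟨hc1, hc2⟩ := hc
    cases l with
    | nil =>
      simp only [evPar, Bool.xor_false] at hp
      rw [hp, Bool.false_or] at hc1
      simp only [lcmL, Nat.lcm_one_right]
      exact hc1
    | cons a l =>
      have ha : 2 ≤ a := hl a List.mem_cons_self
      rw [List.sum_cons] at hs
      have hab : a ∈ List.range (b + 1) := List.mem_range.mpr (by omega)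
      have h1 := hc2 a hab
      rw [Bool.or_eq_true, decide_eq_true_eq] at h1
      rcases h1 with h1 | h1
      · omega
      · have := ih (b - a) (Nat.lcm L a) (xor par (a % 2 == 0)) h1 (by omega) l
          (fun x hx => hl x (List.mem_cons_of_mem _ hx)) (by omega)
          (by
            simp only [evPar] at hp
            rw [Bool.xor_assoc]
            exact hp)
        simp only [lcmL]
        rw [← Nat.lcm_assoc]
        exact this

theorem chk_ok : chk 11 10 1 false = true := by decide +kernel

/-- the sign of a list of cycle lengths -/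
theorem sign_pow_list (l : List ℕ) :
    (-1 : ℤˣ) ^ (l.sum + l.length) = bif evPar l then -1 else 1 := by
  induction l with
  | nil => simp [evPar]
  | cons a l ih =>
    have e : (a :: l).sum + (a :: l).length = (a + 1) + (l.sum + l.length) := by
      rw [List.sum_cons, List.length_cons]; omega
    rw [e, pow_add, ih]
    rcases Nat.even_or_odd a with ha | ha
    · have h1 : (a % 2 == 0) = true := by
        rw [beq_iff_eq]; exact Nat.even_iff.mp ha
      have h2 : (-1 : ℤˣ) ^ (a + 1) = -1 := (Even.add_one ha).neg_one_pow
      simp only [evPar, h1, h2]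
      cases evPar l <;> simp
    · have h1 : (a % 2 == 0) = false := by
        rw [beq_eq_false_iff_ne]
        have := Nat.odd_iff.mp ha
        omega
      have h2 : (-1 : ℤˣ) ^ (a + 1) = 1 := (Odd.add_one ha).neg_one_pow
      simp only [evPar, h1, h2]
      cases evPar l <;> simp

theorem lcm_coe_list (l : List ℕ) : Multiset.lcm (l : Multiset ℕ) = lcmL l := by
  induction l with
  | nil => simp [lcmL]
  | cons a l ih =>
    rw [← Multiset.cons_coe, Multiset.lcm_cons, ih]
    rfl

/-- LEAF A2 (348902) -/
theorem alt10_subset_spec : Set.range (orderOf : alternatingGroup (Fin 10) → ℕ) ⊆ spec := by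
  rintro _ ⟨σ, rfl⟩
  have hσ : Equiv.Perm.sign (σ : Equiv.Perm (Fin 10)) = 1 := Equiv.Perm.mem_alternatingGroup.mp σ.2
  rw [← Subgroup.orderOf_coe, ← Equiv.Perm.lcm_cycleType]
  obtain ⟨l, hl⟩ : ∃ l : List ℕ, (l : Multiset ℕ) = (σ : Equiv.Perm (Fin 10)).cycleType :=
    ⟨_, Multiset.coe_toList _⟩
  rw [← hl, lcm_coe_list]
  have h2 : ∀ a ∈ l, 2 ≤ a := by
    intro a ha
    apply Equiv.Perm.two_le_of_mem_cycleType (σ := (σ : Equiv.Perm (Fin 10)))
    rw [← hl]
    exact Multiset.mem_coe.mpr ha
  have hsum : l.sum ≤ 10 := by
    have h1 : l.sum = ((σ : Equiv.Perm (Fin 10)).cycleType).sum := by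
      rw [← hl, Multiset.sum_coe]
    rw [h1, Equiv.Perm.sum_cycleType]
    exact le_trans (Finset.card_le_univ _) (by simp)
  have hpar : evPar l = false := by
    have h1 := Equiv.Perm.sign_of_cycleType (σ : Equiv.Perm (Fin 10))
    rw [hσ, ← hl, Multiset.sum_coe, Multiset.coe_card, sign_pow_list] at h1
    by_contra hcon
    rw [Bool.not_eq_false] at hcon
    rw [hcon, cond_true] at h1
    exact absurd h1 (by decide)
  have := chk_sound 11 10 1 false chk_ok (by norm_num) l h2 hsum (by rw [hpar]; rfl)
  rw [Nat.lcm_one_left] at this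
  exact mem_spec_of_inSpec this

end Cfsg.Agent.Lib.Helper34.A10Iso
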