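import Mathlib
import Cfsg.Prelude.Def_GeometricClasses
import Cfsg.Agent.Lib.Helper61.AschDefs
import Cfsg.Agent.Lib.Helper42.AschC5
import Cfsg.Agent.Lib.Helper19.UnitaryDet
import Cfsg.Agent.Lib.Helper46.UnitaryField2

/-!
# K-S5663-R8 (keystone 278, architect helper61)

An absolutely irreducible group of isometries of the standard hermitian form fixing also a nondegenerate bilinear form is
realisable over `F_q`.  Proof: `tr x⁻¹ = tr x` (bilinear form) and `tr x⁻¹ = (tr x)^q` (hermitian form), so the traces are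
fixed by `x ↦ x^q`; conclude with `Helper42.Asch.realisableOver_of_trace_mem`.
-/

set_option autoImplicit false

namespace Cfsg.Agent.Lib.Helper34.AschU

open Cfsg Cfsg.Geo Cfsg.Agent.Lib.Helper61.Asch
open scoped Matrix Kronecker MatrixGroups

variable {F : Type*} [Field F] [Fintype F] {n q : ℕ}

local notation "V" => (Fin n → F)
local notation "Mat" => Matrix (Fin n) (Fin n) F

/-- A matrix fixing a nondegenerate bilinear form has the same trace as its inverse. -/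
theorem trace_inv_eq_of_fixes (b : V → V → F) (hb : IsBilinearForm b) (hbn : IsNondegenerateForm b)
    (g : GL (Fin n) F) (hg : ∀ u v, b ((g : Mat) *ᵥ u) ((g : Mat) *ᵥ v) = b u v) :
    Matrix.trace (((g⁻¹ : GL (Fin n) F)) : Mat) = Matrix.trace ((g : GL (Fin n) F) : Mat) := by
  classical
  set Bf : LinearMap.BilinForm F V :=
    LinearMap.mk₂ F b hb.add_left hb.smul_left hb.add_right hb.smul_right with hBf
  set Bm : Mat := LinearMap.BilinForm.toMatrix' Bf with hBm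
  have hBf_apply : ∀ u v, Bf u v = b u v := fun u v => rfl
  have hinv : Bf.comp (Matrix.toLin' (g : Mat)) (Matrix.toLin' (g : Mat)) = Bf := by
    apply LinearMap.ext₂
    intro u v
    rw [LinearMap.BilinForm.comp_apply, hBf_apply, hBf_apply, Matrix.toLin'_apply, Matrix.toLin'_apply]
    exact hg u v
  have h1 : (g : Mat)ᵀ * Bm * (g : Mat) = Bm := by
    have := LinearMap.BilinForm.toMatrix'_comp Bf (Matrix.toLin' (g : Mat)) (Matrix.toLin' (g : Mat))
    rw [hinv, LinearMap.toMatrix'_toLin'] at this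
    exact this.symm
  have hunit : IsUnit Bm := by
    rw [← Matrix.mulVec_injective_iff_isUnit]
    have hinj : Function.Injective (Bm.mulVecLin) := by
      rw [injective_iff_map_eq_zero]
      intro v hv
      rw [Matrix.mulVecLin_apply] at hv
      by_contra hv0
      obtain ⟨x, hx⟩ := (hbn v hv0).1
      apply hx
      rw [← hBf_apply, ← Matrix.toBilin'_toMatrix' Bf, Matrix.toBilin'_apply', ← hBm, hv]
      simp
    intro v w hvw
    exact hinj (by rw [Matrix.mulVecLin_apply, Matrix.mulVecLin_apply]; exact hvw)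
  -- the inverse matrices
  have hgg : ((g⁻¹ : GL (Fin n) F) : Mat) * (g : Mat) = 1 := by
    rw [← Matrix.GeneralLinearGroup.coe_mul, inv_mul_cancel]; rfl
  have hgg' : (g : Mat) * ((g⁻¹ : GL (Fin n) F) : Mat) = 1 := by
    rw [← Matrix.GeneralLinearGroup.coe_mul, mul_inv_cancel]; rfl
  -- `Bm * g = (g⁻¹)ᵀ * Bm`
  have h2 : Bm * (g : Mat) = ((g⁻¹ : GL (Fin n) F) : Mat)ᵀ * Bm := by
    have h3 : ((g⁻¹ : GL (Fin n) F) : Mat)ᵀ * ((g : Mat)ᵀ * Bm * (g : Mat)) =
        ((g⁻¹ : GL (Fin n) F) : Mat)ᵀ * Bm := by rw [h1]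
    rw [← Matrix.mul_assoc, ← Matrix.mul_assoc, ← Matrix.transpose_mul, hgg',
      Matrix.transpose_one, Matrix.one_mul] at h3
    exact h3
  obtain ⟨Bu, hBu⟩ := hunit
  have h4 : (g : Mat) = ((Bu⁻¹ : (Mat)ˣ) : Mat) * (((g⁻¹ : GL (Fin n) F) : Mat)ᵀ * Bm) := by
    rw [← h2, ← Matrix.mul_assoc, ← hBu, ← Units.val_mul, inv_mul_cancel, Units.val_one, Matrix.one_mul]
  calc Matrix.trace (((g⁻¹ : GL (Fin n) F)) : Mat)
      = Matrix.trace (((g⁻¹ : GL (Fin n) F) : Mat)ᵀ) := (Matrix.trace_transpose _).symm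
    _ = Matrix.trace ((((g⁻¹ : GL (Fin n) F) : Mat)ᵀ * Bm) * ((Bu⁻¹ : (Mat)ˣ) : Mat)) := by
        rw [Matrix.mul_assoc, ← hBu, ← Units.val_mul, mul_inv_cancel, Units.val_one, Matrix.mul_one]
    _ = Matrix.trace (((Bu⁻¹ : (Mat)ˣ) : Mat) * (((g⁻¹ : GL (Fin n) F) : Mat)ᵀ * Bm)) :=
        Matrix.trace_mul_comm _ _
    _ = Matrix.trace (g : Mat) := by rw [← h4]

/-- An element of `GU` has `tr x⁻¹ = (tr x)^q`. -/
theorem trace_inv_eq_pow_of_mem_GU (hF : Fintype.card F = q ^ 2) (g : GL (Fin n) F)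
    (hg : g ∈ GU n F q) :
    Matrix.trace (((g⁻¹ : GL (Fin n) F)) : Mat) = (Matrix.trace ((g : GL (Fin n) F) : Mat)) ^ q := by
  classical
  have h := Cfsg.Agent.Lib.Helper19.GU_transpose_mul_conj hF g hg
  have hgg' : (g : Mat) * ((g⁻¹ : GL (Fin n) F) : Mat) = 1 := by
    rw [← Matrix.GeneralLinearGroup.coe_mul, mul_inv_cancel]; rfl
  -- `σ(g) = (g⁻¹)ᵀ`
  have h2 : (Cfsg.Agent.Lib.Helper19.frobQ hF).mapMatrix (g : Mat) =
      ((g⁻¹ : GL (Fin n) F) : Mat)ᵀ := by
    have h3 : ((g⁻¹ : GL (Fin n) F) : Mat)ᵀ *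
        ((g : Mat)ᵀ * (Cfsg.Agent.Lib.Helper19.frobQ hF).mapMatrix (g : Mat)) =
        ((g⁻¹ : GL (Fin n) F) : Mat)ᵀ := by rw [h, Matrix.mul_one]
    rw [← Matrix.mul_assoc, ← Matrix.transpose_mul, hgg', Matrix.transpose_one, Matrix.one_mul] at h3
    exact h3
  have h5 : Matrix.trace ((Cfsg.Agent.Lib.Helper19.frobQ hF).mapMatrix (g : Mat)) =
      (Matrix.trace (g : Mat)) ^ q := by
    rw [← Cfsg.Agent.Lib.Helper19.frobQ_apply hF, Matrix.trace, Matrix.trace, map_sum]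
    rfl
  rw [← h5, h2, Matrix.trace_transpose]

/-- **K-S5663-R8**. -/
theorem realisable_of_fixes_bilinear (hF : Fintype.card F = q ^ 2) (X : Subgroup (GL (Fin n) F))
    (hX : spanAlg X = ⊤) (hXI : X ≤ GU n F q) (b : V → V → F) (hb : IsBilinearForm b)
    (hbn : IsNondegenerateForm b) (hfix : FixesForm (matrixSet X) b) :
    ∃ F₁ : Subfield F, F₁ ≠ ⊤ ∧ RealisableOver F₁ (matrixSet X) := by
  classical
  refine ⟨Cfsg.Agent.Lib.Helper46.fixedField hF, ?_, ?_⟩
  · intro htop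
    obtain ⟨z, hz⟩ := Cfsg.Agent.Lib.Helper46.exists_frobRing_ne hF
    apply hz
    rw [← Cfsg.Agent.Lib.Helper46.mem_fixedField, htop]
    exact Subfield.mem_top z
  · apply Cfsg.Agent.Lib.Helper42.Asch.realisableOver_of_trace_mem X hX
    intro x hx
    rw [Cfsg.Agent.Lib.Helper46.mem_fixedField, Cfsg.Agent.Lib.Helper46.frobRing_apply]
    have h1 := trace_inv_eq_of_fixes b hb hbn x
      (fun u v => hfix (x : Mat) ⟨x, hx, rfl⟩ u v)
    have h2 := trace_inv_eq_pow_of_mem_GU hF x (hXI hx)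
    rw [← h2, h1]

end Cfsg.Agent.Lib.Helper34.AschU
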