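import Mathlib
import Cfsg.Agent.Lib.Helper15.BG1379Defs
import Cfsg.Agent.Lib.Helper57.BG142D4
import Cfsg.Agent.Lib.Helper64.BG14K
import Cfsg.Agent.Lib.Helper68.BG144G2
import Cfsg.Agent.Lib.Helper01.BG134CJ
import Cfsg.Agent.Lib.Helper55.Basic
import Cfsg.Agent.Lib.Helper55.Uniq3

/-!
# K-1379-V8 (keystone 137908, S1379 pack, architect helper15): `κ` is invariant under conjugation
-/

set_option autoImplicit false

namespace Cfsg.Agent.Lib.Helper34.BG1379

open Cfsg Subgroup Cfsg.Agent.Lib.Helper55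

variable {G : Type*} [Group G] [Finite G]

/-- LEAF V8 (137908) -/
theorem mem_kappa_cj (hG : IsMinSimpleOddOrder G) {M : Subgroup G} (hM : IsCoatom M) (h : G) {q : ℕ}
    (hq : q ∈ kappa (M.map (MulAut.conj h).toMonoidHom)) : q ∈ kappa M := by
  have hq' : q ∈ kappa (cj h M) := hq
  have hM' : IsCoatom (cj h M) := isCoatom_cj h hM
  obtain ⟨hfa, hfb, -⟩ := Cfsg.Agent.Lib.Helper57.BG142.kappa_facts hM' hq'
  obtain ⟨hqp, hqM', hqσ', -⟩ := hq'
  haveI : Fact q.Prime := ⟨hqp⟩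
  have hqM : q ∣ Nat.card M := by
    rw [← card_cj h M]
    exact hqM'
  have hqσ : q ∉ sigma M := fun hc =>
    hqσ' ((Cfsg.Agent.Lib.Helper01.BG134.mem_sigma_cj_iff h).mpr hc)
  have hrank' : PRankLE q 1 ↥(cj h M) := by
    rcases hfa with h1 | h3
    · exact h1.2.2.2.2
    · exact h3.2.2.2
  have hrank : PRankLE q 1 ↥M := (Cfsg.Agent.Lib.Helper01.BG134.pRankLE_cj_iff h M q 1).mp hrank'
  -- a subgroup of order `q` of `M`
  obtain ⟨x, hx⟩ := exists_prime_orderOf_dvd_card' (G := ↥M) q hqM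
  set R : Subgroup G := (Subgroup.zpowers x).map M.subtype with hR
  have hRM : R ≤ M := Subgroup.map_subtype_le _
  have hRc : Nat.card R = q := by
    rw [hR, Subgroup.card_map_of_injective M.subtype_injective, Nat.card_zpowers, hx]
  have hC' := hfb (cj h R) (cj_mono hRM) (by rw [card_cj, hRc])
  have hC : sigmaCore M ⊓ Subgroup.centralizer (R : Set G) ≠ ⊥ := by
    intro h0
    apply hC'
    show sigmaCore (cj h M) ⊓ Subgroup.centralizer ((cj h R : Subgroup G) : Set G) = ⊥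
    rw [Cfsg.Agent.Lib.Helper68.BG144.sigmaCore_cj hG hM h, ← cj_centralizer, ← cj_inf, h0, cj_bot]
  exact Cfsg.Agent.Lib.Helper64.BG14.mem_kappa_of_cent_ne_bot hG hM hqp hqM hqσ hrank hRM hRc hC

end Cfsg.Agent.Lib.Helper34.BG1379
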