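import Mathlib

/-!
# K-1383-E3 (keystone 138306, S1383 pack, architect helper78)

`P` nonabelian of order `p ^ 3`, `K` acting on `P` with `C_P(k) = Z` of order `p` inside `[P,P]` for all `k ≠ 1`; if no
non-identity element of `K` normalizes a line `⟨v⟩ Z`, then `K` acts freely on the `p + 1` lines, so `|K|` divides `p + 1`.
-/

set_option autoImplicit false
set_option linter.unusedSectionVars false
set_option linter.unusedVariables false
set_option linter.style.haveILetI false

namespace Cfsg.Agent.Lib.Helper34.BG1383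

open Subgroup

section abstract

variable {Q : Type*} [Group Q] [Finite Q] {p : ℕ} [hp : Fact p.Prime]

/-- the centre of a nonabelian group of order `p ^ 3` has order `p` (as in `Helper15.IsoSub`) -/
theorem card_center_of_cube (hcard : Nat.card Q = p ^ 3) (hna : ¬ ∀ a b : Q, a * b = b * a) :
    Nat.card (center Q) = p := by
  have hQ : IsPGroup p Q := IsPGroup.of_card hcard
  haveI : Nontrivial Q := by
    rw [← Finite.one_lt_card_iff_nontrivial, hcard]
    exact Nat.one_lt_pow (by norm_num) hp.out.one_lt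
  haveI := hQ.center_nontrivial
  obtain ⟨k, hk⟩ := (hQ.to_subgroup (center Q)).exists_card_eq
  have hdvd : p ^ k ∣ p ^ 3 := by
    rw [← hk, ← hcard]; exact card_subgroup_dvd_card _
  have hk3 : k ≤ 3 := (Nat.pow_dvd_pow_iff_le_right hp.out.one_lt).mp hdvd
  have hk0 : k ≠ 0 := by
    rintro rfl
    rw [pow_zero] at hk
    have := (Nat.card_eq_one_iff_unique.mp hk).1
    exact not_subsingleton _ this
  have hmul := Subgroup.card_eq_card_quotient_mul_card_subgroup (center Q)
  rw [hcard, hk] at hmul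
  obtain rfl | rfl | rfl : k = 1 ∨ k = 2 ∨ k = 3 := by omega
  · rw [hk, pow_one]
  · exfalso
    have hq : Nat.card (Q ⧸ center Q) = p := by
      have h1 : p ^ 3 = p * p ^ 2 := by ring
      rw [h1] at hmul
      exact (Nat.eq_of_mul_eq_mul_right (pow_pos hp.out.pos 2) hmul).symm
    haveI := isCyclic_of_prime_card hq
    apply hna
    have hmc := MonoidHom.isMulCommutative_of_isCyclic_of_ker_le_center (QuotientGroup.mk' (center Q))
      (by rw [QuotientGroup.ker_mk'])
    exact fun a b => hmc.is_comm.comm a b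
  · exfalso
    have htop : center Q = ⊤ := by
      apply Subgroup.eq_top_of_card_eq
      rw [hk, hcard]
    apply hna
    intro a b
    have hb : b ∈ center Q := by rw [htop]; exact mem_top b
    exact mem_center_iff.mp hb a

/-- commutators are central in a nonabelian group of order `p ^ 3` (as in `Helper15.IsoSub`) -/
theorem comm_mem_center_of_cube (hcard : Nat.card Q = p ^ 3)
    (hna : ¬ ∀ a b : Q, a * b = b * a) (u v : Q) : u⁻¹ * v⁻¹ * u * v ∈ center Q := by
  have hc := card_center_of_cube hcard hna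
  have hmul := Subgroup.card_eq_card_quotient_mul_card_subgroup (center Q)
  rw [hcard, hc] at hmul
  have hq : Nat.card (Q ⧸ center Q) = p ^ 2 := by
    have h1 : p ^ 3 = p ^ 2 * p := by ring
    rw [h1] at hmul
    exact (Nat.eq_of_mul_eq_mul_right hp.out.pos hmul).symm
  have hcomm := IsPGroup.isMulCommutative_of_card_eq_prime_sq hq
  rw [← QuotientGroup.eq_one_iff]
  have e : ((u⁻¹ * v⁻¹ * u * v : Q) : Q ⧸ center Q) =
      (u : Q ⧸ center Q)⁻¹ * (v : Q ⧸ center Q)⁻¹ * (u : Q ⧸ center Q) * (v : Q ⧸ center Q) := by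
    simp
  rw [e]
  have h2 : (v : Q ⧸ center Q)⁻¹ * (u : Q ⧸ center Q) = (u : Q ⧸ center Q) * (v : Q ⧸ center Q)⁻¹ :=
    hcomm.is_comm.comm _ _
  rw [mul_assoc (u : Q ⧸ center Q)⁻¹, h2]
  group

end abstract

/-- a free action: the order of the group divides the number of points -/
theorem free_card_dvd (K Y : Type*) [Group K] [MulAction K Y]
    (h : ∀ b : Y, MulAction.stabilizer K b = ⊥) : Nat.card K ∣ Nat.card Y := by
  rw [Nat.card_congr (MulAction.selfEquivOrbitsQuotientProd h), Nat.card_prod]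
  exact dvd_mul_left _ _

variable {G : Type*} [Group G] [Finite G]

/-- the derived subgroup of a nonabelian subgroup of order `p ^ 3` centralizes it -/
theorem commutator_le_centralizer_of_cube (p : ℕ) [Fact p.Prime] (P : Subgroup G)
    (hP : Nat.card P = p ^ 3) (hPna : ¬ IsMulCommutative P) :
    ⁅P, P⁆ ≤ Subgroup.centralizer (P : Set G) := by
  have hna : ¬ ∀ a b : P, a * b = b * a := fun h => hPna ⟨⟨h⟩⟩
  rw [Subgroup.commutator_le]
  intro a ha b hb
  rw [Subgroup.mem_centralizer_iff]
  intro x hx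
  have h1 := comm_mem_center_of_cube hP hna (⟨a, ha⟩⁻¹ : P) (⟨b, hb⟩⁻¹ : P)
  rw [inv_inv, inv_inv] at h1
  have h2 := Subgroup.mem_center_iff.mp h1 ⟨x, hx⟩
  have h3 := congrArg Subtype.val h2
  simpa [commutatorElement_def] using h3

theorem arith_lines (p N : ℕ) (hp : 2 ≤ p) (h : N * (p ^ 2 - p) = p ^ 3 - p) : N = p + 1 := by
  obtain ⟨m, rfl⟩ := Nat.exists_eq_add_of_le hp
  have e1 : (2 + m) ^ 2 - (2 + m) = (2 + m) * (1 + m) := by
    have : (2 + m) ^ 2 = (2 + m) * (1 + m) + (2 + m) := by ring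
    omega
  have e2 : (2 + m) ^ 3 - (2 + m) = (2 + m + 1) * ((2 + m) * (1 + m)) := by
    have : (2 + m) ^ 3 = (2 + m + 1) * ((2 + m) * (1 + m)) + (2 + m) := by ring
    omega
  rw [e1, e2] at h
  exact Nat.eq_of_mul_eq_mul_right (by positivity) h

/-- the points of the action: the lines `⟨v⟩ Z`, `v ∈ P \ Z` -/
def Line (P Z : Subgroup G) : Type _ :=
  {L : Subgroup G // ∃ v ∈ P, v ∉ Z ∧ L = Subgroup.zpowers v ⊔ Z}

instance (P Z : Subgroup G) : Finite (Line P Z) := by
  unfold Line
  infer_instance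

/-- conjugation by the elements of `K` on the lines -/
@[reducible] def lineAction (P Z K : Subgroup G) (hKP : K ≤ Subgroup.normalizer (P : Set G))
    (hKZ : ∀ k ∈ K, Z.map (MulAut.conj k).toMonoidHom = Z) : MulAction K (Line P Z) where
  smul k L := ⟨L.1.map (MulAut.conj (k : G)).toMonoidHom, by
    obtain ⟨v, hv, hvZ, hL⟩ := L.2
    refine ⟨(k : G) * v * (k : G)⁻¹, ?_, ?_, ?_⟩
    · exact ((Subgroup.mem_normalizer_iff.mp (hKP k.2)) v).mp hv
    · intro h
      apply hvZ
      rw [← hKZ k k.2] at h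
      obtain ⟨z, hz, hzv⟩ := Subgroup.mem_map.mp h
      have : z = v := by
        have h1 : (k : G) * z * (k : G)⁻¹ = (k : G) * v * (k : G)⁻¹ := hzv
        exact mul_left_cancel (mul_right_cancel h1)
      rw [← this]; exact hz
    · rw [hL, Subgroup.map_sup, MonoidHom.map_zpowers, hKZ k k.2]
      rfl⟩
  one_smul L := by
    apply Subtype.ext
    show L.1.map (MulAut.conj ((1 : K) : G)).toMonoidHom = L.1
    rw [Subgroup.coe_one, map_one]
    exact Subgroup.map_id _
  mul_smul a b L := by
    apply Subtype.ext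
    show L.1.map (MulAut.conj ((a * b : K) : G)).toMonoidHom =
      (L.1.map (MulAut.conj (b : G)).toMonoidHom).map (MulAut.conj (a : G)).toMonoidHom
    rw [Subgroup.coe_mul, map_mul, Subgroup.map_map]
    rfl

/-- K-1383-E3 (138306) -/
theorem card_dvd_succ_of_no_invariant_line (p : ℕ) [Fact p.Prime]
    (hp : p ≠ 2) (P K : Subgroup G) (hP : Nat.card P = p ^ 3) (hPna : ¬ IsMulCommutative P)
    (hKP : K ≤ Subgroup.normalizer (P : Set G)) (hKc : IsCyclic K)
    (hcop : (Nat.card K).Coprime p) (hodd : Odd (Nat.card K))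
    (hZ : Nat.card ↥(P ⊓ Subgroup.centralizer (K : Set G)) = p)
    (hZ' : P ⊓ Subgroup.centralizer (K : Set G) ≤ ⁅P, P⁆)
    (hfix : ∀ k ∈ K, k ≠ 1 →
      P ⊓ Subgroup.centralizer ({k} : Set G) = P ⊓ Subgroup.centralizer (K : Set G))
    (hline : ∀ a ∈ K, a ≠ 1 → ∀ v ∈ P, v ∉ Subgroup.centralizer (K : Set G) →
      a * v * a⁻¹ ∉ Subgroup.zpowers v ⊔ (P ⊓ Subgroup.centralizer (K : Set G))) :
    Nat.card K ∣ p + 1 := by
  have hpp : p.Prime := Fact.out
  obtain ⟨Z, hZdef⟩ : ∃ Z : Subgroup G, Z = P ⊓ Subgroup.centralizer (K : Set G) := ⟨_, rfl⟩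
  rw [← hZdef] at hZ hZ' hline
  have hZP : Z ≤ P := by rw [hZdef]; exact inf_le_left
  have hZK : Z ≤ Subgroup.centralizer (K : Set G) := by rw [hZdef]; exact inf_le_right
  -- `Z` is central in `P`
  have hZc : Z ≤ Subgroup.centralizer (P : Set G) :=
    hZ'.trans (commutator_le_centralizer_of_cube p P hP hPna)
  -- `K` fixes `Z`
  have hKZ : ∀ k ∈ K, Z.map (MulAut.conj k).toMonoidHom = Z := by
    intro k hk
    ext x
    constructor
    · rintro ⟨z, hz, rfl⟩
      have h1 : k * z = z * k := (Subgroup.mem_centralizer_iff.mp (hZK hz)) k hk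
      show k * z * k⁻¹ ∈ Z
      rw [h1, mul_inv_cancel_right]; exact hz
    · intro hx
      refine ⟨x, hx, ?_⟩
      have h1 : k * x = x * k := (Subgroup.mem_centralizer_iff.mp (hZK hx)) k hk
      show k * x * k⁻¹ = x
      rw [h1, mul_inv_cancel_right]
  -- the lines have order `p ^ 2`
  have key : ∀ v ∈ P, v ∉ Z → Nat.card ↥(Subgroup.zpowers v ⊔ Z) = p ^ 2 := by
    intro v hv hvZ
    have hLP : Subgroup.zpowers v ⊔ Z ≤ P := sup_le (Subgroup.zpowers_le.mpr hv) hZP
    have hdvd : Nat.card ↥(Subgroup.zpowers v ⊔ Z) ∣ p ^ 3 := by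
      rw [← hP]; exact Subgroup.card_dvd_of_le hLP
    obtain ⟨j, hj3, hj⟩ := (Nat.dvd_prime_pow hpp).mp hdvd
    have hlt : Nat.card Z < Nat.card ↥(Subgroup.zpowers v ⊔ Z) := by
      have hss : (Z : Set G) ⊂ ((Subgroup.zpowers v ⊔ Z : Subgroup G) : Set G) := by
        refine ⟨fun x hx => (le_sup_right : Z ≤ Subgroup.zpowers v ⊔ Z) hx, fun h => hvZ (h ?_)⟩
        exact (le_sup_left : Subgroup.zpowers v ≤ Subgroup.zpowers v ⊔ Z)
          (Subgroup.mem_zpowers v)
      have := Set.ncard_lt_ncard hss (Set.toFinite _)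
      rwa [← Nat.card_coe_set_eq, ← Nat.card_coe_set_eq] at this
    rw [hZ, hj] at hlt
    have hj1 : 1 < j := by
      by_contra hcon
      have : j ≤ 1 := by omega
      have h := Nat.pow_le_pow_right hpp.pos this
      rw [pow_one] at h
      omega
    have hj3' : j ≠ 3 := by
      intro h3
      rw [h3] at hj
      have hEq : Subgroup.zpowers v ⊔ Z = P :=
        Subgroup.eq_of_le_of_card_ge hLP (by rw [hj, hP])
      apply hPna
      have hcomm : ∀ a ∈ P, ∀ b ∈ P, a * b = b * a := by
        have hcl : Subgroup.zpowers v ⊔ Z = Subgroup.closure ({v} ∪ (Z : Set G)) := by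
          rw [Subgroup.closure_union, Subgroup.zpowers_eq_closure, Subgroup.closure_eq]
        have hS : ∀ x ∈ ({v} ∪ (Z : Set G)), ∀ y ∈ ({v} ∪ (Z : Set G)), x * y = y * x := by
          intro x hx y hy
          rcases hx with hx | hx <;> rcases hy with hy | hy
          · rw [Set.mem_singleton_iff] at hx hy; rw [hx, hy]
          · rw [Set.mem_singleton_iff] at hx; rw [hx]
            exact (Subgroup.mem_centralizer_iff.mp (hZc hy)) v hv
          · rw [Set.mem_singleton_iff] at hy; rw [hy]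
            exact ((Subgroup.mem_centralizer_iff.mp (hZc hx)) v hv).symm
          · exact (Subgroup.mem_centralizer_iff.mp (hZc hy)) x (hZP hx)
        have hmc := Subgroup.isMulCommutative_closure hS
        intro a ha b hb
        rw [← hEq, hcl] at ha hb
        have := hmc.is_comm.comm (⟨a, ha⟩ : Subgroup.closure ({v} ∪ (Z : Set G))) ⟨b, hb⟩
        exact congrArg Subtype.val this
      exact ⟨⟨fun a b => Subtype.ext (hcomm a a.2 b b.2)⟩⟩
    have : j = 2 := by omega
    rw [hj, this]
  letI act := lineAction P Z K hKP hKZ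
  -- the action is free
  have hfree : ∀ L : Line P Z, MulAction.stabilizer K L = ⊥ := by
    intro L
    rw [eq_bot_iff]
    intro k hk
    rw [Subgroup.mem_bot]
    by_contra hk1
    have hkL : k • L = L := MulAction.mem_stabilizer_iff.mp hk
    obtain ⟨v, hv, hvZ, hL⟩ := L.2
    have h1 : (k • L).1 = L.1.map (MulAut.conj (k : G)).toMonoidHom := rfl
    have h2 : (k : G) * v * (k : G)⁻¹ ∈ L.1 := by
      have h3 := congrArg Subtype.val hkL
      rw [h1] at h3
      rw [← h3]
      refine ⟨v, ?_, rfl⟩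
      rw [hL]
      exact (le_sup_left : Subgroup.zpowers v ≤ Subgroup.zpowers v ⊔ Z) (Subgroup.mem_zpowers v)
    apply hline k k.2 (fun h => hk1 (Subtype.ext h)) v hv
      (fun h => hvZ (by rw [hZdef]; exact ⟨hv, h⟩))
    rw [← hL]
    exact h2
  have hdvd1 : Nat.card K ∣ Nat.card (Line P Z) := free_card_dvd K (Line P Z) hfree
  -- counting the lines
  have hcount : Nat.card (Line P Z) * (p ^ 2 - p) = p ^ 3 - p := by
    let Yset : Set G := (P : Set G) \ (Z : Set G)
    have hYmem : ∀ y : Yset, y.1 ∈ P ∧ y.1 ∉ Z := fun y => y.2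
    let F : Yset → Line P Z := fun y =>
      ⟨Subgroup.zpowers y.1 ⊔ Z, y.1, (hYmem y).1, (hYmem y).2, rfl⟩
    have hY : Nat.card Yset = p ^ 3 - p := by
      rw [Nat.card_coe_set_eq, Set.ncard_sdiff (show (Z : Set G) ⊆ P from hZP) (Set.toFinite _),
        ← Nat.card_coe_set_eq, ← Nat.card_coe_set_eq]
      exact congrArg₂ (· - ·) hP hZ
    have hfib : ∀ L : Line P Z, Nat.card {y : Yset // F y = L} = p ^ 2 - p := by
      intro L
      obtain ⟨v, hv, hvZ, hL⟩ := L.2
      have hLc : Nat.card ↥L.1 = p ^ 2 := by rw [hL]; exact key v hv hvZ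
      have hLP : L.1 ≤ P := by rw [hL]; exact sup_le (Subgroup.zpowers_le.mpr hv) hZP
      have hZL : Z ≤ L.1 := by rw [hL]; exact le_sup_right
      have e : {y : Yset // F y = L} ≃ ↥((L.1 : Set G) \ (Z : Set G)) :=
        { toFun := fun y => ⟨y.1.1, by
            have h1 : (F y.1).1 = L.1 := congrArg Subtype.val y.2
            refine ⟨?_, (hYmem y.1).2⟩
            show y.1.1 ∈ L.1
            rw [← h1]
            exact (le_sup_left : Subgroup.zpowers y.1.1 ≤ Subgroup.zpowers y.1.1 ⊔ Z)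
              (Subgroup.mem_zpowers _)⟩
          invFun := fun w => ⟨⟨w.1, ⟨hLP w.2.1, w.2.2⟩⟩, by
            apply Subtype.ext
            show Subgroup.zpowers w.1 ⊔ Z = L.1
            apply Subgroup.eq_of_le_of_card_ge (sup_le (Subgroup.zpowers_le.mpr w.2.1) hZL)
            rw [hLc, key w.1 (hLP w.2.1) w.2.2]⟩
          left_inv := fun y => Subtype.ext (Subtype.ext rfl)
          right_inv := fun w => Subtype.ext rfl }
      rw [Nat.card_congr e, Nat.card_coe_set_eq,
        Set.ncard_sdiff (show (Z : Set G) ⊆ L.1 from hZL) (Set.toFinite _),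
        ← Nat.card_coe_set_eq, ← Nat.card_coe_set_eq]
      exact congrArg₂ (· - ·) hLc hZ
    have hsig := Nat.card_congr (Equiv.sigmaFiberEquiv F)
    haveI : Fintype (Line P Z) := Fintype.ofFinite _
    rw [Nat.card_sigma] at hsig
    simp only [hfib] at hsig
    rw [Finset.sum_const, Finset.card_univ, smul_eq_mul, ← Nat.card_eq_fintype_card] at hsig
    rw [hsig, hY]
  have := arith_lines p _ hpp.two_le hcount
  rw [← this]
  exact hdvd1

end Cfsg.Agent.Lib.Helper34.BG1383
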