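import Mathlib
import Cfsg.Agent.Lib.Helper83.CharMisc

/-!
# K-CD3 leaf N4 (keystone 446004, S4460 pack, architect helper38): all `Irr(G/K)` linear gives `G' ≤ K`
-/

set_option autoImplicit false

namespace Cfsg.Agent.Lib.Helper34.CD3

open Cfsg

universe u

variable {G : Type u} [Group G] [Finite G]

/-- a group whose irreducible characters are all linear is commutative (N10, re-proved here) -/
theorem comm_of_all_linear' {Q : Type u} [Group Q] [Finite Q]
    (hlin : ∀ χ : IrrCharacter Q, charDegree (χ : Q → ℂ) = 1) : ∀ a b : Q, a * b = b * a := by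
  by_contra h
  obtain ⟨χ, hχ⟩ := Cfsg.Agent.Lib.Helper83.exists_nonlinear_of_not_comm h
  apply hχ
  rw [← Cfsg.Agent.Lib.Helper83.charDegree_cast (Cfsg.Agent.Lib.Helper83.isCharacter_of_irr χ.2),
    hlin χ, Nat.cast_one]

/-- 446004 N4 : all irreducible characters of `G / K` linear => `G' ≤ K`. -/
theorem commutator_le_of_linear (K : Subgroup G) [K.Normal]
    (hlin : ∀ χ : IrrCharacter (G ⧸ K), charDegree (χ : G ⧸ K → ℂ) = 1) :
    commutator G ≤ K := by
  have hcomm := comm_of_all_linear' hlin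
  rw [commutator_eq_closure, Subgroup.closure_le]
  rintro x ⟨a, b, rfl⟩
  show a * b * a⁻¹ * b⁻¹ ∈ K
  rw [← QuotientGroup.eq_one_iff]
  simp only [QuotientGroup.mk_mul, QuotientGroup.mk_inv]
  rw [hcomm (a : G ⧸ K) (b : G ⧸ K)]
  group

end Cfsg.Agent.Lib.Helper34.CD3
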