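import Mathlib
import Cfsg.Agent.S0858
import Cfsg.Agent.S0859
import Cfsg.Agent.Lib.Helper38.PGroup

/-!
# K-CD3 leaf N7 (keystone 446007, S4460 pack, architect helper38): an abelian normal subgroup of `p`-power index makes `G`
an M-group (S0858 + S0859; the chief factors above `H` have order `p`)
-/

set_option autoImplicit false
set_option linter.unusedVariables false
set_option linter.style.haveILetI false

namespace Cfsg.Agent.Lib.Helper34.CD3

open Cfsg

universe u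

variable {G : Type u} [Group G] [Finite G]

/-- the chief factors of `H1` between `L` and `K` have order `p` when `H1 / L` is a `p`-group -/
theorem relIndex_eq_prime_of_chief (p : ℕ) [Fact p.Prime] (H1 K L : Subgroup G)
    (hLK : L < K) (hKH1 : K ≤ H1)
    (hpow : ∃ j : ℕ, L.relIndex H1 = p ^ j)
    (hK : ∀ h ∈ H1, ∀ k ∈ K, h * k * h⁻¹ ∈ K) (hL : ∀ h ∈ H1, ∀ l ∈ L, h * l * h⁻¹ ∈ L)
    (hmin : ∀ M : Subgroup G, L ≤ M → M ≤ K → (∀ h ∈ H1, ∀ m ∈ M, h * m * h⁻¹ ∈ M) →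
      M = L ∨ M = K) : L.relIndex K = p := by
  have hp : p.Prime := Fact.out
  have hLH1 : L ≤ H1 := hLK.le.trans hKH1
  haveI hLn : (L.subgroupOf H1).Normal := ⟨fun n hn g => by
    rw [Subgroup.mem_subgroupOf] at hn ⊢
    exact hL g.1 g.2 n.1 hn⟩
  haveI hKn : (K.subgroupOf H1).Normal := ⟨fun n hn g => by
    rw [Subgroup.mem_subgroupOf] at hn ⊢
    exact hK g.1 g.2 n.1 hn⟩
  -- the quotient is a `p`-group
  have hQ : IsPGroup p (↥H1 ⧸ L.subgroupOf H1) := by
    obtain ⟨j, hj⟩ := hpow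
    apply IsPGroup.of_card (n := j)
    rw [← Subgroup.index_eq_card]
    exact hj
  -- the image of `K`
  obtain ⟨N, hNdef⟩ : ∃ N : Subgroup (↥H1 ⧸ L.subgroupOf H1),
      N = (K.subgroupOf H1).map (QuotientGroup.mk' (L.subgroupOf H1)) := ⟨_, rfl⟩
  haveI hNn : N.Normal := by
    rw [hNdef]
    exact Subgroup.Normal.map hKn _ (QuotientGroup.mk'_surjective _)
  have hNne : N ≠ ⊥ := by
    obtain ⟨k, hkK, hkL⟩ := SetLike.exists_of_lt hLK
    intro hbot
    have h1 : (QuotientGroup.mk' (L.subgroupOf H1)) ⟨k, hKH1 hkK⟩ ∈ N := by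
      rw [hNdef]
      exact Subgroup.mem_map_of_mem _ (Subgroup.mem_subgroupOf.mpr hkK)
    rw [hbot, Subgroup.mem_bot, QuotientGroup.mk'_apply, QuotientGroup.eq_one_iff,
      Subgroup.mem_subgroupOf] at h1
    exact hkL h1
  obtain ⟨x, hxN, hxZ, hx1⟩ := Cfsg.Agent.Lib.Helper38.normal_inf_center_ne_bot p hQ N hNne
  obtain ⟨n, hn⟩ := Cfsg.Agent.Lib.Helper38.exists_pow_orderOf_eq_prime p x hx1
    (IsPGroup.iff_orderOf.mp hQ x)
  obtain ⟨y, hydef⟩ : ∃ y, y = x ^ n := ⟨_, rfl⟩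
  rw [← hydef] at hn
  have hyN : y ∈ N := by rw [hydef]; exact N.pow_mem hxN n
  have hyZ : y ∈ Subgroup.center (↥H1 ⧸ L.subgroupOf H1) := by
    rw [hydef]; exact Subgroup.pow_mem _ hxZ n
  have hy1 : y ≠ 1 := by
    intro h
    rw [h, orderOf_one] at hn
    exact hp.one_lt.ne hn
  -- the central subgroup of order `p`
  have hCle : Subgroup.zpowers y ≤ Subgroup.center (↥H1 ⧸ L.subgroupOf H1) :=
    Subgroup.zpowers_le.mpr hyZ
  haveI hCn : (Subgroup.zpowers y).Normal := ⟨fun c hc g => by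
    have h1 := Subgroup.mem_center_iff.mp (hCle hc) g
    rw [h1, mul_inv_cancel_right]
    exact hc⟩
  obtain ⟨M', hM'def⟩ : ∃ M' : Subgroup ↥H1,
      M' = (Subgroup.zpowers y).comap (QuotientGroup.mk' (L.subgroupOf H1)) := ⟨_, rfl⟩
  haveI hM'n : M'.Normal := by
    rw [hM'def]; exact Subgroup.Normal.comap hCn _
  have hLM' : L.subgroupOf H1 ≤ M' := by
    intro l hl
    rw [hM'def, Subgroup.mem_comap, QuotientGroup.mk'_apply, (QuotientGroup.eq_one_iff l).mpr hl]
    exact Subgroup.one_mem _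
  have hM'K : M' ≤ K.subgroupOf H1 := by
    intro z hz
    rw [hM'def, Subgroup.mem_comap] at hz
    have h1 : (QuotientGroup.mk' (L.subgroupOf H1)) z ∈ N :=
      (Subgroup.zpowers_le.mpr hyN) hz
    rw [hNdef] at h1
    obtain ⟨k', hk', hkz⟩ := Subgroup.mem_map.mp h1
    have h2 : k'⁻¹ * z ∈ L.subgroupOf H1 := by
      rw [← QuotientGroup.eq_one_iff, QuotientGroup.mk_mul, QuotientGroup.mk_inv]
      have : (QuotientGroup.mk k' : ↥H1 ⧸ L.subgroupOf H1) = QuotientGroup.mk z := hkz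
      rw [this, inv_mul_cancel]
    have h3 : k'⁻¹ * z ∈ K.subgroupOf H1 := by
      rw [Subgroup.mem_subgroupOf] at h2 ⊢
      exact hLK.le h2
    have := (K.subgroupOf H1).mul_mem hk' h3
    rwa [mul_inv_cancel_left] at this
  -- minimality
  have hcases := hmin (M'.map H1.subtype)
    (by
      intro l hl
      exact ⟨⟨l, hLH1 hl⟩, hLM' (Subgroup.mem_subgroupOf.mpr hl), rfl⟩)
    (by
      rintro _ ⟨z, hz, rfl⟩
      exact Subgroup.mem_subgroupOf.mp (hM'K hz))
    (by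
      rintro h hh _ ⟨z, hz, rfl⟩
      exact ⟨⟨h, hh⟩ * z * ⟨h, hh⟩⁻¹, hM'n.conj_mem z hz ⟨h, hh⟩, rfl⟩)
  have hMK : M'.map H1.subtype = K := by
    rcases hcases with h | h
    · exfalso
      obtain ⟨z, hz⟩ := QuotientGroup.mk'_surjective (L.subgroupOf H1) y
      have hzM : z ∈ M' := by
        rw [hM'def, Subgroup.mem_comap, hz]; exact Subgroup.mem_zpowers y
      have hzL : (z : G) ∈ L := by
        rw [← h]; exact ⟨z, hzM, rfl⟩
      apply hy1
      rw [← hz, QuotientGroup.mk'_apply, QuotientGroup.eq_one_iff, Subgroup.mem_subgroupOf]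
      exact hzL
    · exact h
  have hM'eq : M' = K.subgroupOf H1 := by
    rw [← hMK]
    exact (Subgroup.comap_map_eq_self_of_injective H1.subtype_injective M').symm
  -- the index
  have h1 : L.relIndex K = (L.subgroupOf H1).relIndex (K.subgroupOf H1) :=
    (Subgroup.relIndex_subgroupOf hKH1).symm
  have h2 : L.subgroupOf H1 = (⊥ : Subgroup (↥H1 ⧸ L.subgroupOf H1)).comap
      (QuotientGroup.mk' (L.subgroupOf H1)) := by
    rw [MonoidHom.comap_bot, QuotientGroup.ker_mk']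
  rw [h1, ← hM'eq, h2, Subgroup.relIndex_comap, hM'def,
    Subgroup.map_comap_eq_self_of_surjective (QuotientGroup.mk'_surjective _),
    Subgroup.relIndex_bot_left, Nat.card_zpowers, hn]

/-- 446007 N7 : abelian normal subgroup of `p`-power index => `G` is an M-group
(S0858 + S0859). -/
theorem monomial_of_abelian_ppow [Fintype G] (p : ℕ) (hp : p.Prime) (H : Subgroup G) [H.Normal]
    (hab : ∀ a ∈ H, ∀ b ∈ H, a * b = b * a) (hidx : ∃ k : ℕ, H.index = p ^ k)
    (χ : G → ℂ) (hχ : IsIrrCharacter G χ) :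
    ∃ (U : Subgroup G) (lam : U → ℂ), IsCharacter U lam ∧ lam 1 = 1 ∧ indFun U lam = χ := by
  haveI : Fact p.Prime := ⟨hp⟩
  obtain ⟨k, hk⟩ := hidx
  -- solvability
  haveI hHs : Group.IsSolvable ↥H :=
    Group.isSolvable_of_comm fun a b => Subtype.ext (hab a.1 a.2 b.1 b.2)
  have hQp : IsPGroup p (G ⧸ H) := by
    apply IsPGroup.of_card (n := k)
    rw [← Subgroup.index_eq_card]
    exact hk
  haveI hQn : Group.IsNilpotent (G ⧸ H) := hQp.isNilpotent
  haveI hQs : Group.IsSolvable (G ⧸ H) := inferInstance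
  haveI hGs : Group.IsSolvable G :=
    Group.isSolvable_of_ker_le_range H.subtype (QuotientGroup.mk' H)
      (by rw [QuotientGroup.ker_mk', Subgroup.range_subtype])
  -- the chief factors above `H`
  have hchief : ∀ (H1 K L : Subgroup G), H ≤ L → L < K → K ≤ H1 →
      (∀ h ∈ H1, ∀ k ∈ K, h * k * h⁻¹ ∈ K) → (∀ h ∈ H1, ∀ l ∈ L, h * l * h⁻¹ ∈ L) →
      (∀ M : Subgroup G, L ≤ M → M ≤ K → (∀ h ∈ H1, ∀ m ∈ M, h * m * h⁻¹ ∈ M) →
        M = L ∨ M = K) → ¬ IsSquare (L.relIndex K) := by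
    intro H1 K L hHL hLK hKH1 hK hL hmin
    have hdvd : L.relIndex H1 ∣ p ^ k := by
      rw [← hk]
      exact (Subgroup.relIndex_dvd_of_le_left H1 hHL).trans
        (Subgroup.relIndex_dvd_index_of_normal H H1)
    obtain ⟨j, _, hj⟩ := (Nat.dvd_prime_pow hp).mp hdvd
    rw [relIndex_eq_prime_of_chief p H1 K L hLK hKH1 ⟨j, hj⟩ hK hL hmin]
    exact Irreducible.not_isSquare hp
  have hrel := Cfsg.Agent.S0858.result H hQs hchief
  have hab' : ∀ (q : ℕ) [Fact q.Prime] (P : Sylow q H), ∀ a ∈ P, ∀ b ∈ P, a * b = b * a := by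
    intro q _ P a _ b _
    exact Subtype.ext (hab a.1 a.2 b.1 b.2)
  exact Cfsg.Agent.S0859.result H hab' hrel χ hχ

end Cfsg.Agent.Lib.Helper34.CD3
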