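import Mathlib
import Cfsg.Prelude.Def_OddOrderChar
import Cfsg.Agent.S1516
import Cfsg.Agent.S1517
import Cfsg.Agent.S1521

/-!
# Coherence along a chain of degrees (helper34)

`coherent_chain` : in a coherence system `(S, τ, R)`, a finite conjugation-closed subset `X` whose
degrees are all multiples of the smallest one `d χ₁`, and such that for every `χ ∈ X` of larger
degree `2 d(χ) d(χ₁) < ∑_{φ ∈ X, d φ < d χ} d(φ)² / n(φ)`, is coherent.  (Iterated use of the
extension criterion Peterfalvi (5.6) = `S1516`, starting from the constant degree case (5.4) =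
`S1517`.)
-/

set_option autoImplicit false

namespace Cfsg.Agent.Lib.Helper34

open Cfsg

theorem coherent_chain {L : Type*} [Group L] [Fintype L] {G : Type*} [Group G] [Fintype G]
    (S : Set (L → ℂ)) (τ : (L → ℂ) → (G → ℂ)) (R : (L → ℂ) → Finset (G → ℂ))
    (hS : Cfsg.IsCoherenceSystem S τ R) (d n : (L → ℂ) → ℕ)
    (hd : ∀ φ ∈ S, φ 1 = (d φ : ℂ)) (hn : ∀ φ ∈ S, Cfsg.classInner φ φ = (n φ : ℂ))
    (X : Finset (L → ℂ)) (hXS : (↑X : Set (L → ℂ)) ⊆ S) (hXc : ∀ φ ∈ X, Cfsg.conjFun φ ∈ X)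
    (hpos : ∀ φ ∈ X, 0 < d φ)
    (χ₁ : L → ℂ) (hχ₁ : χ₁ ∈ X) (hdvd : ∀ φ ∈ X, d χ₁ ∣ d φ)
    (hineq : ∀ χ ∈ X, d χ ≠ d χ₁ →
      (2 * d χ * d χ₁ : ℝ) <
        ∑ φ ∈ X.filter (fun φ => d φ < d χ), ((d φ : ℝ) ^ 2 / (n φ : ℝ))) :
    Cfsg.IsCoherent (↑X : Set (L → ℂ)) {1}ᶜ τ := by
  classical
  have hXS' : ∀ φ ∈ X, φ ∈ S := fun φ hφ => hXS (Finset.mem_coe.mpr hφ)
  -- `d (conj φ) = d φ`
  have hdc : ∀ φ ∈ X, d (Cfsg.conjFun φ) = d φ := by
    intro φ hφ
    have h1 := hd _ (hXS' _ (hXc φ hφ))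
    have h2 := hd _ (hXS' _ hφ)
    have h3 : ((d (Cfsg.conjFun φ) : ℕ) : ℂ) = (d φ : ℂ) := by
      rw [← h1]
      show (starRingEnd ℂ) (φ 1) = _
      rw [h2, Complex.conj_natCast]
    exact_mod_cast h3
  have key : ∀ k : ℕ, ∀ T : Finset (L → ℂ), T.card = k → T ⊆ X →
      (∀ φ ∈ T, Cfsg.conjFun φ ∈ T) →
      (∀ φ ∈ T, ∀ ψ ∈ X, d ψ < d φ → ψ ∈ T) → (∀ ψ ∈ X, d ψ = d χ₁ → ψ ∈ T) →
      Cfsg.IsCoherent (↑T : Set (L → ℂ)) {1}ᶜ τ := by
    intro k
    induction k using Nat.strong_induction_on with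
    | _ k ih =>
    intro T hcard hTX hTc hdown hmin
    have hχ₁T : χ₁ ∈ T := hmin χ₁ hχ₁ rfl
    have hTS : (↑T : Set (L → ℂ)) ⊆ S := fun φ hφ => hXS' φ (hTX (Finset.mem_coe.mp hφ))
    by_cases hall : ∀ φ ∈ T, d φ = d χ₁
    · -- all degrees equal
      have hsys := Cfsg.Agent.S1521.isCoherenceSystem_subset hS hTS
        ⟨χ₁, Finset.mem_coe.mpr hχ₁T⟩ (fun χ hχ => Finset.mem_coe.mpr (hTc χ (Finset.mem_coe.mp hχ)))
      apply Cfsg.Agent.S1517.result _ τ R hsys
      intro φ hφ ψ hψ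
      rw [hd φ (hTS hφ), hd ψ (hTS hψ), hall φ (Finset.mem_coe.mp hφ), hall ψ (Finset.mem_coe.mp hψ)]
    · push Not at hall
      obtain ⟨φ₀, hφ₀T, hφ₀⟩ := hall
      obtain ⟨χ, hχT, hχmax⟩ := Finset.exists_max_image T d ⟨χ₁, hχ₁T⟩
      have hχX : χ ∈ X := hTX hχT
      have hχne : d χ ≠ d χ₁ := by
        intro h
        apply hφ₀
        have h1 := hχmax φ₀ hφ₀T
        have h2 := Nat.le_of_dvd (hpos φ₀ (hTX hφ₀T)) (hdvd φ₀ (hTX hφ₀T))
        omega
      set T' : Finset (L → ℂ) := (T.erase χ).erase (Cfsg.conjFun χ) with hT'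
      have hmemT' : ∀ φ, φ ∈ T' ↔ φ ≠ Cfsg.conjFun χ ∧ φ ≠ χ ∧ φ ∈ T := by
        intro φ
        rw [hT', Finset.mem_erase, Finset.mem_erase]
      have hT'T : T' ⊆ T := fun φ hφ => ((hmemT' φ).mp hφ).2.2
      have hχT' : χ ∉ T' := fun h => ((hmemT' χ).mp h).2.1 rfl
      have hcχT' : Cfsg.conjFun χ ∉ T' := fun h => ((hmemT' _).mp h).1 rfl
      have hlt : T'.card < k := by
        rw [← hcard]
        apply Finset.card_lt_card
        refine ⟨hT'T, fun h => hχT' (h hχT)⟩
      have hcoh' : Cfsg.IsCoherent (↑T' : Set (L → ℂ)) {1}ᶜ τ := by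
        refine ih T'.card hlt T' rfl (hT'T.trans hTX) ?_ ?_ ?_
        · intro φ hφ
          obtain ⟨h1, h2, h3⟩ := (hmemT' φ).mp hφ
          rw [hmemT']
          refine ⟨?_, ?_, hTc φ h3⟩
          · intro h
            apply h2
            rw [← Cfsg.Agent.S1517.conjFun_conjFun φ, h, Cfsg.Agent.S1517.conjFun_conjFun]
          · intro h
            apply h1
            rw [← h, Cfsg.Agent.S1517.conjFun_conjFun]
        · intro φ hφ ψ hψX hψ
          obtain ⟨h1, h2, h3⟩ := (hmemT' φ).mp hφ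
          rw [hmemT']
          have hle := hχmax φ h3
          refine ⟨?_, ?_, hdown φ h3 ψ hψX hψ⟩
          · intro h
            rw [h, hdc χ hχX] at hψ
            omega
          · intro h
            rw [h] at hψ
            omega
        · intro ψ hψX hψ
          rw [hmemT']
          refine ⟨?_, ?_, hmin ψ hψX hψ⟩
          · intro h
            rw [h, hdc χ hχX] at hψ
            exact hχne hψ
          · intro h
            rw [h] at hψ
            exact hχne hψ
      have hχ₁T' : χ₁ ∈ T' := by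
        rw [hmemT']
        refine ⟨?_, ?_, hχ₁T⟩
        · intro h
          apply hχne
          rw [h, hdc χ hχX]
        · intro h
          apply hχne
          rw [h]
      have hsum : (2 * d χ * d χ₁ : ℝ) < ∑ φ ∈ T', ((d φ : ℝ) ^ 2 / (n φ : ℝ)) := by
        refine lt_of_lt_of_le (hineq χ hχX hχne) ?_
        apply Finset.sum_le_sum_of_subset_of_nonneg
        · intro φ hφ
          obtain ⟨hφX, hφd⟩ := Finset.mem_filter.mp hφ
          rw [hmemT']
          refine ⟨?_, ?_, hdown χ hχT φ hφX hφd⟩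
          · intro h
            rw [h, hdc χ hχX] at hφd
            omega
          · intro h
            rw [h] at hφd
            omega
        · intro φ _ _
          positivity
      have hres := Cfsg.Agent.S1516.result S τ R hS d n hd hn T'
        (fun φ hφ => hTS (Finset.mem_coe.mpr (hT'T (Finset.mem_coe.mp hφ))))
        (by
          intro φ hφ
          obtain ⟨h1, h2, h3⟩ := (hmemT' φ).mp hφ
          rw [hmemT']
          refine ⟨?_, ?_, hTc φ h3⟩
          · intro h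
            apply h2
            rw [← Cfsg.Agent.S1517.conjFun_conjFun φ, h, Cfsg.Agent.S1517.conjFun_conjFun]
          · intro h
            apply h1
            rw [← h, Cfsg.Agent.S1517.conjFun_conjFun])
        hcoh' χ (hXS' χ hχX) hχT' hcχT' χ₁ hχ₁T' (hdvd χ hχX) hsum
      have hset : (↑T : Set (L → ℂ)) = ↑T' ∪ {χ, Cfsg.conjFun χ} := by
        ext φ
        simp only [Set.mem_union, Finset.mem_coe, Set.mem_insert_iff, Set.mem_singleton_iff]
        rw [hmemT']
        constructor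
        · intro h
          by_cases h1 : φ = χ
          · exact Or.inr (Or.inl h1)
          · by_cases h2 : φ = Cfsg.conjFun χ
            · exact Or.inr (Or.inr h2)
            · exact Or.inl ⟨h2, h1, h⟩
        · rintro (⟨-, -, h⟩ | h | h)
          · exact h
          · rw [h]; exact hχT
          · rw [h]; exact hTc χ hχT
      rw [hset]
      exact hres
  exact key X.card X rfl (Finset.Subset.refl X) hXc (fun φ _ ψ hψ _ => hψ) (fun ψ hψ _ => hψ)

end Cfsg.Agent.Lib.Helper34
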