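import Cfsg.Agent.Lib.Helper37.FieldAutDefs
import Cfsg.Agent.Lib.Helper24.AddAll
import Cfsg.Agent.Lib.Helper24.CoreTab

set_option autoImplicit false

/-! K-FA-5: a field automorphism of a Chevalley group is the entrywise map, and has the order of the automorphism
of the field. -/

namespace Cfsg.Agent.Lib.Helper34.FieldAut

open Cfsg.Lie Matrix
open Cfsg.Agent.Lib.Helper24
open Cfsg.Agent.Lib.Helper37.FieldAut

theorem x_eq_xMat {F : Type*} [Field F] (D : ChevalleyDatum) (r : Fin D.nroots) (t : F) :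
    D.x F r.val t = D.xMat F r t := by
  unfold ChevalleyDatum.x
  rw [dif_pos r.isLt]

/-- K-FA-5a -/
theorem fieldAut_coe {F : Type*} [Field F] (D : ChevalleyDatum) (φ : ↥(D.group F) ≃* ↥(D.group F))
    (σ : F ≃+* F)
    (hσ : ∀ (g : ↥(D.group F)) (r : ℕ) (t : F), r < D.nroots →
      ((g : GL D.Idx F) : Matrix D.Idx D.Idx F) = D.x F r t →
      ((φ g : GL D.Idx F) : Matrix D.Idx D.Idx F) = D.x F r (σ t))
    (g : ↥(D.group F)) : ((φ g : ↥(D.group F)) : GL D.Idx F) = glMap D (σ : F →+* F) g := by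
  obtain ⟨g, hg⟩ := g
  have key : ∀ (g : GL D.Idx F) (hg : g ∈ D.group F),
      ((φ ⟨g, hg⟩ : ↥(D.group F)) : GL D.Idx F) = glMap D (σ : F →+* F) g := by
    intro g hg
    unfold ChevalleyDatum.group at hg
    induction hg using Subgroup.closure_induction with
    | mem g hg' =>
      obtain ⟨r, t, hrt⟩ := hg'
      apply Units.ext
      have h1 := hσ ⟨g, Subgroup.subset_closure ⟨r, t, hrt⟩⟩ r.val t r.isLt
        (by rw [x_eq_xMat]; exact hrt)
      rw [h1, glMap_val, hrt, xMat_map, x_eq_xMat]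
      rfl
    | one =>
      have : (⟨1, (D.group F).one_mem⟩ : ↥(D.group F)) = 1 := rfl
      rw [map_one]
      have h2 := map_one φ
      rw [show (⟨1, Subgroup.one_mem _⟩ : ↥(D.group F)) = 1 from rfl, h2]
      rfl
    | mul a b ha hb iha ihb =>
      have ha' : a ∈ D.group F := ha
      have hb' : b ∈ D.group F := hb
      have : (⟨a * b, (D.group F).mul_mem ha' hb'⟩ : ↥(D.group F)) = ⟨a, ha'⟩ * ⟨b, hb'⟩ := rfl
      rw [map_mul, ← iha, ← ihb]
      change ((φ (⟨a, ha'⟩ * ⟨b, hb'⟩) : ↥(D.group F)) : GL D.Idx F) = _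
      rw [map_mul]
      rfl
    | inv a ha iha =>
      have ha' : a ∈ D.group F := ha
      rw [map_inv, ← iha]
      change ((φ (⟨a, ha'⟩⁻¹) : ↥(D.group F)) : GL D.Idx F) = _
      rw [map_inv]
      rfl
  exact key g hg

theorem x_injective {F : Type*} [Field F] (D : ChevalleyDatum)
    (hD : D ∈ [chevG2, chevB2, chevD4, chevF4, chevE6, chevE7, chevE8]) (r : ℕ) (hr : r < D.nroots)
    (a b : F) (h : D.x F r a = D.x F r b) : a = b := by
  have h1 : D.x F r (a - b) = 1 := by
    have e1 : D.x F r (a - b) = D.x F r a * D.x F r (-b) := by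
      rw [x_add D hD, sub_eq_add_neg]
    rw [e1, h, x_add D hD, add_neg_cancel, x_zero]
  have h2 : D.xMat F ⟨r, hr⟩ (a - b) = 1 := by
    rw [← x_eq_xMat D ⟨r, hr⟩]
    exact h1
  have := xMat_eq_one (negNeOK_all D hD) ⟨r, hr⟩ (a - b) h2
  exact sub_eq_zero.mp this

/-- K-FA-5b -/
theorem orderOf_fieldAut {F : Type*} [Field F] (D : ChevalleyDatum)
    (hD : D ∈ [chevG2, chevB2, chevD4, chevF4, chevE6, chevE7, chevE8])
    (φ : ↥(D.group F) ≃* ↥(D.group F)) (σ : F ≃+* F)
    (hσ : ∀ (g : ↥(D.group F)) (r : ℕ) (t : F), r < D.nroots →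
      ((g : GL D.Idx F) : Matrix D.Idx D.Idx F) = D.x F r t →
      ((φ g : GL D.Idx F) : Matrix D.Idx D.Idx F) = D.x F r (σ t)) :
    orderOf σ = orderOf φ := by
  have hpos : 0 < D.nroots := by
    simp only [List.mem_cons, List.not_mem_nil, or_false] at hD
    rcases hD with rfl | rfl | rfl | rfl | rfl | rfl | rfl <;> decide
  have hpow : ∀ k : ℕ, ∀ (g : ↥(D.group F)) (r : ℕ) (t : F), r < D.nroots →
      ((g : GL D.Idx F) : Matrix D.Idx D.Idx F) = D.x F r t →
      (((φ ^ k) g : GL D.Idx F) : Matrix D.Idx D.Idx F) = D.x F r ((σ ^ k) t) := by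
    intro k
    induction k with
    | zero =>
      intro g r t hr h
      simpa using h
    | succ k ih =>
      intro g r t hr h
      have h3 := hσ ((φ ^ k) g) r ((σ ^ k) t) hr (ih g r t hr h)
      rw [pow_succ', pow_succ']
      simpa [MulAut.mul_apply, RingAut.mul_apply] using h3
  rw [orderOf_eq_orderOf_iff]
  intro k
  constructor
  · intro hk
    apply MulEquiv.ext
    intro g
    have h5 := fieldAut_coe D (φ ^ k) (σ ^ k) (hpow k) g
    rw [hk] at h5
    apply Subtype.ext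
    rw [h5]
    apply Units.ext
    rw [glMap_val]
    ext i j
    simp [Matrix.map_apply]
  · intro hk
    apply RingEquiv.ext
    intro t
    have hmem : ∃ g : ↥(D.group F), ((g : GL D.Idx F) : Matrix D.Idx D.Idx F) = D.x F 0 t := by
      refine ⟨⟨⟨D.x F 0 t, D.x F 0 (-t), by rw [x_add D hD, add_neg_cancel, x_zero],
        by rw [x_add D hD, neg_add_cancel, x_zero]⟩, ?_⟩, rfl⟩
      apply Subgroup.subset_closure
      refine ⟨⟨0, hpos⟩, t, ?_⟩
      rw [← x_eq_xMat D ⟨0, hpos⟩]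
    obtain ⟨g, hg⟩ := hmem
    have h1 := hpow k g 0 t hpos hg
    rw [hk] at h1
    have h2 : D.x F 0 t = D.x F 0 ((σ ^ k) t) := by
      rw [← h1, ← hg]
      rfl
    have := x_injective D hD 0 hpos _ _ h2
    rw [← this]
    rfl

end Cfsg.Agent.Lib.Helper34.FieldAut
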