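import Mathlib
import Cfsg.Prelude.Def_Solvable
import Cfsg.Agent.Lib.Helper72.G42Defs
import Cfsg.Agent.Lib.Helper62.Small120

/-!
# K-G42 leaf L5 (keystone 255306, S2553 pack, architect helper72): `|Δ| = 5` gives `K ≅ A_5` or `S_5`
-/

set_option autoImplicit false
set_option linter.unusedVariables false

namespace Cfsg.Agent.Lib.Helper34.G42

open Cfsg.Agent.Lib.Helper72.G42

/-- `K` preserves `Δ` -/
theorem pres_of_cfg {K N : Subgroup (Equiv.Perm (Fin 8))} {Δ : Finset (Fin 8)} (h : Cfg K N Δ) :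
    ∀ k ∈ K, ∀ x, k x ∈ Δ ↔ x ∈ Δ := by
  have hA : ∀ k ∈ K, ∀ x ∈ Δ, k x ∈ Δ := by
    intro k hk x hx
    by_contra hkx
    obtain ⟨y, hy, hyx⟩ := Finset.exists_mem_ne (by have := h.hcard; omega : 1 < Δ.card) x
    obtain ⟨n, hn, hnx⟩ := h.htrans x hx y hy
    have h1 := h.hfix (k * n * k⁻¹) (h.hnorm k hk n hn) (k x) hkx
    have h2 : (k * n * k⁻¹) (k x) = k (n x) := by simp
    rw [h2, hnx] at h1
    exact hyx (k.injective h1)
  intro k hk x
  constructor
  · intro hkx
    have := hA k⁻¹ (K.inv_mem hk) (k x) hkx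
    simpa using this
  · exact hA k hk x

/-- the restriction of `K` to `Δ` -/
def resHom {K N : Subgroup (Equiv.Perm (Fin 8))} {Δ : Finset (Fin 8)} (h : Cfg K N Δ) :
    ↥K →* Equiv.Perm {x // x ∈ Δ} where
  toFun k := (k : Equiv.Perm (Fin 8)).subtypePerm (pres_of_cfg h k.1 k.2)
  map_one' := by
    ext x
    rfl
  map_mul' a b := by
    ext x
    rfl

theorem resHom_apply {K N : Subgroup (Equiv.Perm (Fin 8))} {Δ : Finset (Fin 8)} (h : Cfg K N Δ)
    (k : ↥K) (x : {x // x ∈ Δ}) : ((resHom h k) x : Fin 8) = (k : Equiv.Perm (Fin 8)) x := rfl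

theorem resHom_injective {K N : Subgroup (Equiv.Perm (Fin 8))} {Δ : Finset (Fin 8)}
    (h : Cfg K N Δ) (h5 : Δ.card = 5) : Function.Injective (resHom h) := by
  rw [← MonoidHom.ker_eq_bot_iff]
  obtain ⟨C, hCdef⟩ : ∃ C : Subgroup (Equiv.Perm (Fin 8)), C = (resHom h).ker.map K.subtype :=
    ⟨_, rfl⟩
  have hCK : C ≤ K := by rw [hCdef]; exact Subgroup.map_subtype_le _
  have hCn : NormalizedBy K C := by
    intro k hk m hm
    rw [hCdef] at hm ⊢
    obtain ⟨c, hc, rfl⟩ := hm
    exact ⟨⟨k, hk⟩ * c * ⟨k, hk⟩⁻¹, (inferInstance : (resHom h).ker.Normal).conj_mem c hc ⟨k, hk⟩, rfl⟩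
  have hfixΔ : ∀ c ∈ (resHom h).ker, ∀ x ∈ Δ, (c : Equiv.Perm (Fin 8)) x = x := by
    intro c hc x hx
    have h1 : resHom h c = 1 := hc
    have h2 := resHom_apply h c ⟨x, hx⟩
    rw [h1] at h2
    exact h2.symm
  have hcard : Nat.card (resHom h).ker ≤ 6 := by
    let f : (resHom h).ker → Equiv.Perm {x // x ∉ Δ} := fun c =>
      (c.1 : Equiv.Perm (Fin 8)).subtypePerm (fun x => not_congr (pres_of_cfg h c.1.1 c.1.2 x))
    have hf : Function.Injective f := by
      intro c c' hcc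
      apply Subtype.ext
      apply Subtype.ext
      ext x
      by_cases hx : x ∈ Δ
      · rw [hfixΔ c.1 c.2 x hx, hfixΔ c'.1 c'.2 x hx]
      · have h1 := congrArg (fun g : Equiv.Perm {x // x ∉ Δ} => ((g ⟨x, hx⟩ : {x // x ∉ Δ}) : Fin 8)) hcc
        exact congrArg Fin.val h1
    have h1 := Nat.card_le_card_of_injective f hf
    have h2 : Nat.card (Equiv.Perm {x // x ∉ Δ}) = 6 := by
      rw [Nat.card_eq_fintype_card, Fintype.card_perm, Fintype.card_subtype_compl, Fintype.card_coe,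
        h5, Fintype.card_fin]
      rfl
    omega
  have hCcard : Nat.card C ≤ 6 := by
    rw [hCdef, Nat.card_congr ((resHom h).ker.equivMapOfInjective K.subtype
      K.subtype_injective).symm.toEquiv]
    exact hcard
  have hCs : Group.IsSolvable ↥C :=
    Cfsg.Agent.Lib.Helper62.Small120.solvable_of_card_lt_sixty (Nat.card C) (by omega) C rfl
  have hCbot := h.hsolv C hCK hCn hCs
  rw [eq_bot_iff]
  intro c hc
  have h1 : (c : Equiv.Perm (Fin 8)) ∈ C := by rw [hCdef]; exact ⟨c, hc, rfl⟩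
  rw [hCbot, Subgroup.mem_bot] at h1
  rw [Subgroup.mem_bot]
  exact Subtype.ext h1

/-- 255306 L5 -/
theorem case5 {K N : Subgroup (Equiv.Perm (Fin 8))} {Δ : Finset (Fin 8)} (h : Cfg K N Δ) (h5 : Δ.card = 5) :
    Nonempty (↥K ≃* ↥(alternatingGroup (Fin 5))) ∨ Nonempty (↥K ≃* Equiv.Perm (Fin 5)) := by
  -- `K` is not solvable
  have hns : ¬ Group.IsSolvable ↥K := by
    intro hs
    have hKbot := h.hsolv K le_rfl
      (fun k hk m hm => K.mul_mem (K.mul_mem hk hm) (K.inv_mem hk)) hs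
    apply h.hN1
    rw [eq_bot_iff, ← hKbot]
    exact h.hNK
  have h60 : 60 ≤ Nat.card ↥K := by
    by_contra hlt
    exact hns (Cfsg.Agent.Lib.Helper62.Small120.solvable_of_card_lt_sixty (Nat.card ↥K)
      (by omega) ↥K rfl)
  -- the embedding into `S_5`
  obtain ⟨ψ, hψdef⟩ : ∃ ψ : ↥K →* Equiv.Perm (Fin 5),
      ψ = (Equiv.permCongrHom (Finset.equivFinOfCardEq h5)).toMonoidHom.comp (resHom h) := ⟨_, rfl⟩
  have hψ : Function.Injective ψ := by
    rw [hψdef]
    exact (Equiv.permCongrHom (Finset.equivFinOfCardEq h5)).injective.comp (resHom_injective h h5)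
  have e1 : ↥K ≃* ↥ψ.range := MonoidHom.ofInjective hψ
  have hIcard : Nat.card ↥ψ.range = Nat.card ↥K := (Nat.card_congr e1.toEquiv).symm
  have h120 : Nat.card (Equiv.Perm (Fin 5)) = 120 := by
    rw [Nat.card_eq_fintype_card, Fintype.card_perm, Fintype.card_fin]
    rfl
  have hmul := Subgroup.card_mul_index ψ.range
  rw [h120, hIcard] at hmul
  have hidx : ψ.range.index ≤ 2 := by
    by_contra hgt
    have h3 : 3 ≤ ψ.range.index := by omega
    have : 60 * 3 ≤ Nat.card ↥K * ψ.range.index := Nat.mul_le_mul h60 h3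
    omega
  have hA := Equiv.Perm.alternatingGroup_le_of_index_le_two hidx
  have hpos : 0 < ψ.range.index := by
    rcases Nat.eq_zero_or_pos ψ.range.index with h0 | h0
    · rw [h0, mul_zero] at hmul; omega
    · exact h0
  have hcases : ψ.range.index = 1 ∨ ψ.range.index = 2 := by omega
  rcases hcases with h1 | h2
  · right
    have htop : ψ.range = ⊤ := Subgroup.index_eq_one.mp h1
    exact ⟨e1.trans ((MulEquiv.subgroupCongr htop).trans Subgroup.topEquiv)⟩
  · left
    have hAcard : Nat.card ↥(alternatingGroup (Fin 5)) * 2 = 120 := by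
      have := Subgroup.card_mul_index (alternatingGroup (Fin 5))
      rw [alternatingGroup.index_eq_two, h120] at this
      exact this
    have hEq : alternatingGroup (Fin 5) = ψ.range := by
      apply Subgroup.eq_of_le_of_card_ge hA
      rw [hIcard]
      rw [h2] at hmul
      omega
    exact ⟨e1.trans (MulEquiv.subgroupCongr hEq.symm)⟩

end Cfsg.Agent.Lib.Helper34.G42
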