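import Mathlib
import Cfsg.Prelude.Def_HallClasses

/-!
# K-S2536-X2 : `Sym(7)` has a Hall `{2,3}`-subgroup (`S₃ × S₄`, order 144, index 35)
-/

set_option autoImplicit false
set_option linter.style.haveILetI false

open Cfsg

namespace Cfsg.Agent.Lib.Helper34.HallSym

/-- a subgroup of order 144 of `Sym(7)`: the image of `S₃ × S₄`. -/
theorem exists_subgroup_card_144 :
    ∃ H : Subgroup (Equiv.Perm (Fin 7)), Nat.card H = 144 := by
  classical
  have hD3 : Nat.card (Equiv.Perm (Fin 3)) = 6 := by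
    rw [Nat.card_eq_fintype_card, Fintype.card_perm, Fintype.card_fin]
    rfl
  have hD4 : Nat.card (Equiv.Perm (Fin 4)) = 24 := by
    rw [Nat.card_eq_fintype_card, Fintype.card_perm, Fintype.card_fin]
    rfl
  have hcard : Nat.card (Equiv.Perm (Fin 3) × Equiv.Perm (Fin 4)) = 144 := by
    rw [Nat.card_prod, hD3, hD4]
  let e : (Fin 3 ⊕ Fin 4) ≃ Fin 7 := finSumFinEquiv
  let f : Equiv.Perm (Fin 3) × Equiv.Perm (Fin 4) →* Equiv.Perm (Fin 3 ⊕ Fin 4) :=
    Equiv.Perm.sumCongrHom (Fin 3) (Fin 4)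
  have hf : Function.Injective f := Equiv.Perm.sumCongrHom_injective
  let g : Equiv.Perm (Fin 3) × Equiv.Perm (Fin 4) →* Equiv.Perm (Fin 7) :=
    (Equiv.permCongrHom e).toMonoidHom.comp f
  have hg : Function.Injective g := (Equiv.permCongrHom e).injective.comp hf
  refine ⟨g.range, ?_⟩
  rw [← hcard]
  exact (Nat.card_congr (MonoidHom.ofInjective hg).toEquiv).symm

/-- **K-S2536-X2**. -/
theorem hall_seven (π : Set ℕ) (h : ∀ r : ℕ, r.Prime → r ≤ 7 → (r ∈ π ↔ (r = 2 ∨ r = 3))) :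
    IsEPiGroup π (Equiv.Perm (Fin 7)) := by
  obtain ⟨H, hH⟩ := exists_subgroup_card_144
  have hG : Nat.card (Equiv.Perm (Fin 7)) = 5040 := by
    rw [Nat.card_eq_fintype_card, Fintype.card_perm, Fintype.card_fin]
    rfl
  have hidx : H.index = 35 := by
    have := H.card_mul_index
    rw [hH, hG] at this
    omega
  refine ⟨H, ?_, ?_⟩
  · intro p hp hdvd
    rw [hH] at hdvd
    have h144 : (144 : ℕ) = 2 ^ 4 * 3 ^ 2 := by norm_num
    rw [h144] at hdvd
    rcases (Nat.Prime.dvd_mul hp).1 hdvd with h2 | h3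
    · have := (Nat.prime_dvd_prime_iff_eq hp Nat.prime_two).1 (hp.dvd_of_dvd_pow h2)
      subst this
      exact (h 2 hp (by norm_num)).2 (Or.inl rfl)
    · have := (Nat.prime_dvd_prime_iff_eq hp Nat.prime_three).1 (hp.dvd_of_dvd_pow h3)
      subst this
      exact (h 3 hp (by norm_num)).2 (Or.inr rfl)
  · intro p hp hpπ hdvd
    rw [hidx] at hdvd
    have h35 : (35 : ℕ) = 5 * 7 := by norm_num
    rw [h35] at hdvd
    rcases (Nat.Prime.dvd_mul hp).1 hdvd with h5 | h7
    · have := (Nat.prime_dvd_prime_iff_eq hp (by norm_num : Nat.Prime 5)).1 h5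
      subst this
      rcases (h 5 hp (by norm_num)).1 hpπ with h' | h' <;> omega
    · have := (Nat.prime_dvd_prime_iff_eq hp (by norm_num : Nat.Prime 7)).1 h7
      subst this
      rcases (h 7 hp (by norm_num)).1 hpπ with h' | h' <;> omega

example : ∀ (π : Set ℕ) (_ : ∀ r : ℕ, r.Prime → r ≤ 7 → (r ∈ π ↔ (r = 2 ∨ r = 3))),
    IsEPiGroup π (Equiv.Perm (Fin 7)) := hall_seven

end Cfsg.Agent.Lib.Helper34.HallSym
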