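import Cfsg.Agent.Lib.Helper34.OElK0a
import Cfsg.Agent.Lib.Helper49.OElDefs
import Cfsg.Agent.Lib.Helper79.OTsO3

/-!
# K-OEl-K0 (keystone 598812, rows S5988 + S5990, architect helper49): the number of anisotropic pairs of a
nondegenerate quadratic space of dimension `2 D` and given type over a finite field (any characteristic):
`2 #AP = q^(2D-1) (q^D ∓ 1) (q^(D-1) ∓ 1) (q-1)²`.
-/

set_option autoImplicit false
set_option linter.unusedSectionVars false

namespace Cfsg.Agent.Lib.Helper34.OEl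

open scoped Classical
open Module Cfsg.Agent.Lib.Helper98.Elus Cfsg.Agent.Lib.Helper98.Sy Cfsg.Agent.Lib.Helper38.OhP
  Cfsg.Agent.Lib.Helper49.OEl

universe u
variable {F : Type u} [Field F] {V : Type u} [AddCommGroup V] [Module F V]

/-- an anisotropic pair: `u, w` span an anisotropic plane (they are then linearly independent) -/
def AP (Q : QuadraticForm F V) (u w : V) : Prop := ∀ s t : F, Q (s • u + t • w) = 0 → s = 0 ∧ t = 0

theorem arith_plus (q b T n K Z Zs M : ℤ) (hn : n = q ^ 2 * b ^ 2) (hK : K = q * b ^ 2) (hZ : Z = Zs + 1)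
    (hM : M + Z = n) (hZs : Zs = (q * b - 1) * (b + 1))
    (h : 2 * T + q * Z * M + q * M + Zs * (2 * n) = 2 * n * M + Zs * (q * Z + K)) :
    2 * T = q * b ^ 2 * ((q * b - 1) * (b - 1)) * ((q - 1) * (q - 1)) := by
  have hM' : M = n - Z := by linarith
  subst hM' hZ hn hK hZs
  linear_combination h

theorem arith_minus (q b T n K Z Zs M : ℤ) (hn : n = q ^ 2 * b ^ 2) (hK : K = q * b ^ 2) (hZ : Z = Zs + 1)
    (hM : M + Z = n) (hZs : Zs = (q * b + 1) * (b - 1))
    (h : 2 * T + q * Z * M + q * M + Zs * (2 * n) = 2 * n * M + Zs * (q * Z + K)) :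
    2 * T = q * b ^ 2 * ((q * b + 1) * (b + 1)) * ((q - 1) * (q - 1)) := by
  have hM' : M = n - Z := by linarith
  subst hM' hZ hn hK hZs
  linear_combination h

/-- LEAF K0 (598812). -/
theorem card_aniso_pairs [Fintype F] [FiniteDimensional F V] (Q : QuadraticForm F V)
    (O : Submodule F V) (hO : NonDeg (pB Q) O) (D : ℕ) (hD1 : 1 ≤ D) (hD : finrank F O = 2 * D) :
    (PlusQ Q O → 2 * Nat.card {p : V × V // p.1 ∈ O ∧ p.2 ∈ O ∧ AP Q p.1 p.2} =
      Fintype.card F ^ (2 * D - 1) * ((Fintype.card F ^ D - 1) * (Fintype.card F ^ (D - 1) - 1)) *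
        ((Fintype.card F - 1) * (Fintype.card F - 1))) ∧
    (¬ PlusQ Q O → 2 * Nat.card {p : V × V // p.1 ∈ O ∧ p.2 ∈ O ∧ AP Q p.1 p.2} =
      Fintype.card F ^ (2 * D - 1) * ((Fintype.card F ^ D + 1) * (Fintype.card F ^ (D - 1) + 1)) *
        ((Fintype.card F - 1) * (Fintype.card F - 1))) := by
  haveI : Finite V := Module.finite_of_finite F
  haveI : Fintype ↥O := Fintype.ofFinite _
  set Q' : QuadraticForm F ↥O := Q.comp O.subtype with hQ'
  have hQ'app : ∀ v : ↥O, Q' v = Q (v : V) := fun v => rfl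
  have hpol : ∀ a b : ↥O, QuadraticMap.polar Q' a b = pB Q (a : V) (b : V) := fun a b => rfl
  -- nondegeneracy
  have hnd : ∀ z : ↥O, z ≠ 0 → ∃ v, QuadraticMap.polar Q' v z ≠ 0 := by
    intro z hz
    by_contra hcon
    push Not at hcon
    apply hz
    apply Subtype.ext
    apply hO z.1 z.2
    intro v hv
    have := hcon ⟨v, hv⟩
    rw [hpol, pB_symm] at this
    exact this
  -- cardinalities
  set q := Fintype.card F with hq
  have hq1 : 1 ≤ q := Fintype.card_pos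
  obtain ⟨D', rfl⟩ : ∃ D', D = D' + 1 := ⟨D - 1, by omega⟩
  set b := q ^ D' with hb
  have hb1 : 1 ≤ b := Nat.one_le_pow _ _ hq1
  have hn : Fintype.card ↥O = q ^ 2 * b ^ 2 := by
    rw [Module.card_eq_pow_finrank (K := F), hD, hb, ← hq]
    ring
  have hKn : q * (q * b ^ 2) = Fintype.card ↥O := by
    rw [hn]; ring
  -- the three counts
  have hT : Nat.card {p : V × V // p.1 ∈ O ∧ p.2 ∈ O ∧ AP Q p.1 p.2} =
      (Finset.univ.filter fun p : ↥O × ↥O =>
        ∀ s t : F, Q' (s • p.1 + t • p.2) = 0 → s = 0 ∧ t = 0).card := by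
    rw [← Fintype.card_subtype, ← Nat.card_eq_fintype_card]
    apply Nat.card_congr
    exact
      { toFun := fun p => ⟨(⟨p.1.1, p.2.1⟩, ⟨p.1.2, p.2.2.1⟩), p.2.2.2⟩
        invFun := fun p => ⟨((p.1.1 : V), (p.1.2 : V)), p.1.1.2, p.1.2.2, p.2⟩
        left_inv := fun p => rfl
        right_inv := fun p => rfl }
  have hZs : Nat.card {x : V // x ∈ O ∧ x ≠ 0 ∧ Q x = 0} =
      ((Finset.univ.filter fun z : ↥O => Q' z = 0).erase 0).card := by
    have h1 : ((Finset.univ.filter fun z : ↥O => Q' z = 0).erase 0) =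
        Finset.univ.filter fun z : ↥O => z ≠ 0 ∧ Q' z = 0 := by
      ext z
      simp [Finset.mem_erase]
    rw [h1, ← Fintype.card_subtype, ← Nat.card_eq_fintype_card]
    apply Nat.card_congr
    exact
      { toFun := fun x => ⟨⟨x.1, x.2.1⟩, fun h => x.2.2.1 (congrArg Subtype.val h), x.2.2.2⟩
        invFun := fun z => ⟨(z.1 : V), z.1.2, fun h => z.2.1 (Subtype.ext h), z.2.2⟩
        left_inv := fun x => rfl
        right_inv := fun z => rfl }
  have h0S : (0 : ↥O) ∈ Finset.univ.filter fun z : ↥O => Q' z = 0 := by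
    rw [Finset.mem_filter]
    exact ⟨Finset.mem_univ _, map_zero Q'⟩
  have hZ : (Finset.univ.filter fun z : ↥O => Q' z = 0).card =
      ((Finset.univ.filter fun z : ↥O => Q' z = 0).erase 0).card + 1 :=
    (Finset.card_erase_add_one h0S).symm
  have hM : (Finset.univ.filter fun u : ↥O => Q' u ≠ 0).card +
      (Finset.univ.filter fun z : ↥O => Q' z = 0).card = Fintype.card ↥O := by
    rw [add_comm]
    exact Finset.card_filter_add_card_filter_not _
  have htot := ap_total Q' hnd (q * b ^ 2) hKn _ hZ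
  rw [← hq] at htot
  have hsing := Cfsg.Agent.Lib.Helper79.OTs.card_singular Q O hO (D' + 1) hD
  rw [hT]
  rw [hZs, ← hq] at hsing
  have e1 : 2 * (D' + 1) - 1 = 2 * D' + 1 := by omega
  have e2 : D' + 1 - 1 = D' := by omega
  rw [e1, e2]
  rw [e2] at hsing
  have hqD : q ^ (D' + 1) = q * b := by rw [hb]; ring
  have hq2D : q ^ (2 * D' + 1) = q * b ^ 2 := by rw [hb]; ring
  rw [hqD, hq2D, ← hb]
  rw [hqD, ← hb] at hsing
  have hqb1 : 1 ≤ q * b := Nat.one_le_iff_ne_zero.mpr (Nat.mul_ne_zero (by omega) (by omega))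
  set T := (Finset.univ.filter fun p : ↥O × ↥O =>
        ∀ s t : F, Q' (s • p.1 + t • p.2) = 0 → s = 0 ∧ t = 0).card with hTdef
  set Zc := (Finset.univ.filter fun z : ↥O => Q' z = 0).card with hZc
  set Zsc := ((Finset.univ.filter fun z : ↥O => Q' z = 0).erase 0).card with hZsc
  set Mc := (Finset.univ.filter fun u : ↥O => Q' u ≠ 0).card with hMc
  set n := Fintype.card ↥O with hndef
  have hnZ : (n : ℤ) = (q : ℤ) ^ 2 * (b : ℤ) ^ 2 := by rw [hn]; push_cast; ring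
  have hKZ : ((q * b ^ 2 : ℕ) : ℤ) = (q : ℤ) * (b : ℤ) ^ 2 := by push_cast; ring
  have hZZ : (Zc : ℤ) = (Zsc : ℤ) + 1 := by exact_mod_cast hZ
  have hMZ : (Mc : ℤ) + (Zc : ℤ) = (n : ℤ) := by exact_mod_cast hM
  have htotZ : 2 * (T : ℤ) + (q : ℤ) * (Zc : ℤ) * (Mc : ℤ) + (q : ℤ) * (Mc : ℤ) + (Zsc : ℤ) * (2 * (n : ℤ)) =
      2 * (n : ℤ) * (Mc : ℤ) + (Zsc : ℤ) * ((q : ℤ) * (Zc : ℤ) + ((q * b ^ 2 : ℕ) : ℤ)) := by
    exact_mod_cast htot
  constructor
  · intro hplus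
    have hs := hsing.1 hplus
    have hsZ : (Zsc : ℤ) = ((q : ℤ) * (b : ℤ) - 1) * ((b : ℤ) + 1) := by
      rw [hs]; push_cast [Nat.cast_sub hqb1]; ring
    have := arith_plus (q : ℤ) (b : ℤ) (T : ℤ) (n : ℤ) ((q * b ^ 2 : ℕ) : ℤ) (Zc : ℤ) (Zsc : ℤ) (Mc : ℤ)
      hnZ hKZ hZZ hMZ hsZ htotZ
    zify [hqb1, hb1, hq1]
    linarith [this]
  · intro hminus
    have hs := hsing.2 hminus
    have hsZ : (Zsc : ℤ) = ((q : ℤ) * (b : ℤ) + 1) * ((b : ℤ) - 1) := by
      rw [hs]; push_cast [Nat.cast_sub hb1]; ring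
    have := arith_minus (q : ℤ) (b : ℤ) (T : ℤ) (n : ℤ) ((q * b ^ 2 : ℕ) : ℤ) (Zc : ℤ) (Zsc : ℤ) (Mc : ℤ)
      hnZ hKZ hZZ hMZ hsZ htotZ
    zify [hqb1, hb1, hq1]
    linarith [this]

end Cfsg.Agent.Lib.Helper34.OEl
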