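import Mathlib

/-!
# K-OEl-K0 (keystone 598812), core counting: anisotropic pairs via the number of singular vectors on affine lines

`W` a finite vector space over a finite field with a quadratic form `Q`.  For `u w : W` let `rt Q u w` be the number of
`s : F` with `Q (w + s • u) = 0`.  Moment identities for `rt` give the number of `w` with no singular vector on `w + F u`.
-/

set_option autoImplicit false
set_option linter.unusedSectionVars false

namespace Cfsg.Agent.Lib.Helper34.OEl

open scoped Classical
open Finset

variable {F : Type*} [Field F] [Fintype F] {W : Type*} [AddCommGroup W] [Module F W] [Fintype W]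

/-- the number of singular vectors on the affine line `w + F u` (counted by the parameter) -/
noncomputable def rt (Q : QuadraticForm F W) (u w : W) : ℕ :=
  (Finset.univ.filter fun s : F => Q (w + s • u) = 0).card

theorem q_line (Q : QuadraticForm F W) (u w : W) (s : F) :
    Q (w + s • u) = Q w + s * QuadraticMap.polar Q w u + s ^ 2 * Q u := by
  have h1 : QuadraticMap.polar Q w (s • u) = Q (w + s • u) - Q w - Q (s • u) := rfl
  rw [QuadraticMap.polar_smul_right, QuadraticMap.map_smul, smul_eq_mul, smul_eq_mul] at h1
  linear_combination -h1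

theorem rt_translate (Q : QuadraticForm F W) (u w : W) (s : F) : rt Q u (w + s • u) = rt Q u w := by
  unfold rt
  apply Finset.card_bij (fun t _ => t + s)
  · intro t ht
    rw [Finset.mem_filter] at ht ⊢
    refine ⟨Finset.mem_univ _, ?_⟩
    rw [← ht.2, add_smul, add_assoc, add_comm (t • u)]
  · intro t₁ _ t₂ _ h
    exact add_right_cancel h
  · intro t ht
    rw [Finset.mem_filter] at ht
    refine ⟨t - s, ?_, sub_add_cancel t s⟩
    rw [Finset.mem_filter]
    refine ⟨Finset.mem_univ _, ?_⟩
    rw [← ht.2, add_assoc, ← add_smul, add_sub_cancel]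

/-- the moment identity -/
theorem sum_rt_mul (Q : QuadraticForm F W) (u : W) (g : W → ℕ) (hg : ∀ (w : W) (s : F), g (w + s • u) = g w) :
    ∑ w, rt Q u w * g w = Fintype.card F * ∑ z, (if Q z = 0 then g z else 0) := by
  have h1 : ∀ w, rt Q u w * g w = ∑ s : F, (if Q (w + s • u) = 0 then g (w + s • u) else 0) := by
    intro w
    unfold rt
    rw [Finset.card_filter, Finset.sum_mul]
    apply Finset.sum_congr rfl
    intro s _
    rw [hg]
    split_ifs <;> simp
  rw [Finset.sum_congr rfl (fun w _ => h1 w), Finset.sum_comm]
  have h2 : ∀ s : F, ∑ w, (if Q (w + s • u) = 0 then g (w + s • u) else 0) =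
      ∑ z, (if Q z = 0 then g z else 0) := by
    intro s
    exact Equiv.sum_comp (Equiv.addRight (s • u)) (fun z => if Q z = 0 then g z else 0)
  rw [Finset.sum_congr rfl (fun s _ => h2 s), Finset.sum_const, Finset.card_univ, smul_eq_mul]

/-- on a line through a singular vector `z` in a nonsingular direction `u` -/
theorem rt_of_singular (Q : QuadraticForm F W) (u z : W) (hu : Q u ≠ 0) (hz : Q z = 0) :
    rt Q u z = if QuadraticMap.polar Q z u = 0 then 1 else 2 := by
  unfold rt
  split_ifs with hB
  · have : (Finset.univ.filter fun s : F => Q (z + s • u) = 0) = {0} := by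
      ext s
      rw [Finset.mem_filter, Finset.mem_singleton, q_line, hz, hB]
      constructor
      · rintro ⟨_, h⟩
        have h' : s ^ 2 * Q u = 0 := by linear_combination h
        rcases mul_eq_zero.mp h' with h1 | h1
        · exact pow_eq_zero_iff (two_ne_zero) |>.mp h1
        · exact absurd h1 hu
      · rintro rfl
        exact ⟨Finset.mem_univ _, by ring⟩
    rw [this, Finset.card_singleton]
  · have : (Finset.univ.filter fun s : F => Q (z + s • u) = 0) =
        {0, -(QuadraticMap.polar Q z u) / Q u} := by
      ext s
      rw [Finset.mem_filter, Finset.mem_insert, Finset.mem_singleton, q_line, hz]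
      constructor
      · rintro ⟨_, h⟩
        have h' : s * (QuadraticMap.polar Q z u + s * Q u) = 0 := by linear_combination h
        rcases mul_eq_zero.mp h' with h1 | h1
        · exact Or.inl h1
        · right
          field_simp
          linear_combination h1
      · rintro (rfl | rfl)
        · exact ⟨Finset.mem_univ _, by ring⟩
        · refine ⟨Finset.mem_univ _, ?_⟩
          field_simp
          ring
    rw [this, Finset.card_pair]
    intro h0
    apply hB
    have h1 : -(QuadraticMap.polar Q z u) = 0 := by
      rw [eq_comm, div_eq_iff hu, zero_mul] at h0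
      exact h0
    exact neg_eq_zero.mp h1

/-- lines in a singular direction `z` -/
theorem rt_singular_dir (Q : QuadraticForm F W) (z v : W) (hz : Q z = 0) :
    rt Q z v = if QuadraticMap.polar Q v z = 0 then (if Q v = 0 then Fintype.card F else 0) else 1 := by
  unfold rt
  split_ifs with hB hv
  · have : (Finset.univ.filter fun s : F => Q (v + s • z) = 0) = Finset.univ := by
      ext s
      rw [Finset.mem_filter, q_line, hz, hB, hv]
      simp
    rw [this, Finset.card_univ]
  · have : (Finset.univ.filter fun s : F => Q (v + s • z) = 0) = ∅ := by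
      ext s
      rw [Finset.mem_filter, q_line, hz, hB]
      simp [hv]
    rw [this, Finset.card_empty]
  · have : (Finset.univ.filter fun s : F => Q (v + s • z) = 0) = {-(Q v) / QuadraticMap.polar Q v z} := by
      ext s
      rw [Finset.mem_filter, Finset.mem_singleton, q_line, hz]
      constructor
      · rintro ⟨_, h⟩
        field_simp
        linear_combination h
      · rintro rfl
        refine ⟨Finset.mem_univ _, ?_⟩
        field_simp
        ring
    rw [this, Finset.card_singleton]

theorem rt_le_two (Q : QuadraticForm F W) (u w : W) (hu : Q u ≠ 0) : rt Q u w ≤ 2 := by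
  by_cases h : ∃ s : F, Q (w + s • u) = 0
  · obtain ⟨s, hs⟩ := h
    rw [← rt_translate Q u w s, rt_of_singular Q u _ hu hs]
    split_ifs <;> omega
  · have : rt Q u w = 0 := by
      unfold rt
      rw [Finset.card_eq_zero, Finset.filter_eq_empty_iff]
      intro s _ hs
      exact h ⟨s, hs⟩
    omega

/-- general line count: `∑_w #{s | P (w + s u)} = q #{z | P z}` -/
theorem sum_card_line (P : W → Prop) (u : W) :
    ∑ w, (Finset.univ.filter fun s : F => P (w + s • u)).card =
      Fintype.card F * (Finset.univ.filter P).card := by
  have h1 : ∀ w, (Finset.univ.filter fun s : F => P (w + s • u)).card =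
      ∑ s : F, (if P (w + s • u) then 1 else 0) := fun w => Finset.card_filter _ _
  rw [Finset.sum_congr rfl (fun w _ => h1 w), Finset.sum_comm]
  have h2 : ∀ s : F, ∑ w, (if P (w + s • u) then 1 else 0) = (Finset.univ.filter P).card := by
    intro s
    rw [Finset.card_filter]
    exact Equiv.sum_comp (Equiv.addRight (s • u)) (fun z => if P z then 1 else 0)
  rw [Finset.sum_congr rfl (fun s _ => h2 s), Finset.sum_const, Finset.card_univ, smul_eq_mul]

/-- the zeros of a nonzero linear functional -/
theorem card_functional_zero (φ : W →ₗ[F] F) (v₀ : W) (hv₀ : φ v₀ ≠ 0) :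
    Fintype.card F * (Finset.univ.filter fun v : W => φ v = 0).card = Fintype.card W := by
  rw [← sum_card_line (fun v : W => φ v = 0) v₀]
  have h1 : ∀ w : W, (Finset.univ.filter fun s : F => φ (w + s • v₀) = 0).card = 1 := by
    intro w
    have : (Finset.univ.filter fun s : F => φ (w + s • v₀) = 0) = {-(φ w) / φ v₀} := by
      ext s
      rw [Finset.mem_filter, Finset.mem_singleton, map_add, map_smul, smul_eq_mul]
      constructor
      · rintro ⟨_, h⟩
        field_simp
        linear_combination h
      · rintro rfl
        refine ⟨Finset.mem_univ _, ?_⟩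
        field_simp
        ring
    rw [this, Finset.card_singleton]
  rw [Finset.sum_congr rfl (fun w _ => h1 w), Finset.sum_const, Finset.card_univ, smul_eq_mul, mul_one]

/-- anisotropic pairs and lines without singular vectors -/
theorem ap_iff_rt (Q : QuadraticForm F W) (u w : W) (hu : Q u ≠ 0) :
    (∀ s t : F, Q (s • u + t • w) = 0 → s = 0 ∧ t = 0) ↔ rt Q u w = 0 := by
  unfold rt
  rw [Finset.card_eq_zero, Finset.filter_eq_empty_iff]
  constructor
  · intro h s _ hs
    have := h s 1 (by rw [one_smul, add_comm]; exact hs)
    exact one_ne_zero this.2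
  · intro h s t hst
    by_cases ht : t = 0
    · subst ht
      rw [zero_smul, add_zero, QuadraticMap.map_smul, smul_eq_mul] at hst
      rcases mul_eq_zero.mp hst with h1 | h1
      · exact ⟨by rcases mul_eq_zero.mp h1 with h2 | h2 <;> exact h2, rfl⟩
      · exact absurd h1 hu
    · exfalso
      apply h (Finset.mem_univ (s / t))
      have h1 : w + (s / t) • u = t⁻¹ • (s • u + t • w) := by
        rw [smul_add, smul_smul, smul_smul, inv_mul_cancel₀ ht, one_smul, add_comm, div_eq_inv_mul]
      rw [h1, QuadraticMap.map_smul, hst, smul_zero]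

theorem not_ap_of_singular (Q : QuadraticForm F W) (u w : W) (hu : Q u = 0) :
    ¬ (∀ s t : F, Q (s • u + t • w) = 0 → s = 0 ∧ t = 0) := by
  intro h
  have := h 1 0 (by rw [one_smul, zero_smul, add_zero]; exact hu)
  exact one_ne_zero this.1

/-- per nonsingular `u`: the number of `w` with no singular vector on `w + F u` -/
theorem count_free_lines (Q : QuadraticForm F W) (u : W) (hu : Q u ≠ 0) :
    2 * (Finset.univ.filter fun w : W => rt Q u w = 0).card +
        Fintype.card F * (Finset.univ.filter fun z : W => Q z = 0).card +
        Fintype.card F * (Finset.univ.filter fun z : W => Q z = 0 ∧ QuadraticMap.polar Q z u = 0).card =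
      2 * Fintype.card W := by
  have hA : ∑ w, rt Q u w = Fintype.card F * (Finset.univ.filter fun z : W => Q z = 0).card := by
    have := sum_rt_mul Q u (fun _ => 1) (fun _ _ => rfl)
    simp only [mul_one] at this
    rw [this, Finset.card_filter]
  have hB : ∑ w, rt Q u w * rt Q u w =
      Fintype.card F * ∑ z, (if Q z = 0 then rt Q u z else 0) :=
    sum_rt_mul Q u (rt Q u) (fun w s => rt_translate Q u w s)
  have hC : ∀ w, 2 * (if rt Q u w = 0 then 1 else 0) + 3 * rt Q u w = rt Q u w * rt Q u w + 2 := by
    intro w
    have h2 := rt_le_two Q u w hu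
    interval_cases h : rt Q u w <;> simp
  have hD : ∑ z, (if Q z = 0 then rt Q u z else 0) +
      (Finset.univ.filter fun z : W => Q z = 0 ∧ QuadraticMap.polar Q z u = 0).card =
      2 * (Finset.univ.filter fun z : W => Q z = 0).card := by
    rw [Finset.card_filter, Finset.card_filter, ← Finset.sum_add_distrib, Finset.mul_sum]
    apply Finset.sum_congr rfl
    intro z _
    by_cases hz : Q z = 0
    · rw [if_pos hz, rt_of_singular Q u z hu hz]
      by_cases hb : QuadraticMap.polar Q z u = 0
      · simp [hz, hb]
      · simp [hz, hb]
    · simp [hz]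
  have hsum : 2 * (Finset.univ.filter fun w : W => rt Q u w = 0).card + 3 * ∑ w, rt Q u w =
      ∑ w, rt Q u w * rt Q u w + 2 * Fintype.card W := by
    rw [Finset.card_filter, Finset.mul_sum, Finset.mul_sum, ← Finset.sum_add_distrib]
    rw [Finset.sum_congr rfl (fun w _ => hC w), Finset.sum_add_distrib, Finset.sum_const,
      Finset.card_univ, smul_eq_mul, mul_comm (Fintype.card W)]
  rw [hA, hB] at hsum
  nlinarith [hsum, hD]

/-- per singular `z` (not in the radical): nonsingular vectors orthogonal to `z` -/
theorem count_perp_nonsingular (Q : QuadraticForm F W) (z v₀ : W) (hz : Q z = 0)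
    (hv₀ : QuadraticMap.polar Q v₀ z ≠ 0) :
    Fintype.card F * (Finset.univ.filter fun v : W => Q v ≠ 0 ∧ QuadraticMap.polar Q v z = 0).card +
        Fintype.card F * (Finset.univ.filter fun v : W => Q v = 0).card +
        (Finset.univ.filter fun v : W => QuadraticMap.polar Q v z = 0).card = 2 * Fintype.card W ∧
      Fintype.card F * (Finset.univ.filter fun v : W => QuadraticMap.polar Q v z = 0).card =
        Fintype.card W := by
  have hK : Fintype.card F * (Finset.univ.filter fun v : W => QuadraticMap.polar Q v z = 0).card =
      Fintype.card W := by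
    have := card_functional_zero ((QuadraticMap.polarBilin Q).flip z) v₀ (by
      rw [LinearMap.flip_apply, QuadraticMap.polarBilin_apply_apply]; exact hv₀)
    simpa [LinearMap.flip_apply, QuadraticMap.polarBilin_apply_apply] using this
  refine ⟨?_, hK⟩
  have hE : ∑ v, rt Q z v = Fintype.card F * (Finset.univ.filter fun v : W => Q v = 0).card := by
    have := sum_rt_mul Q z (fun _ => 1) (fun _ _ => rfl)
    simp only [mul_one] at this
    rw [this, Finset.card_filter]
  have hF : ∑ v, rt Q z v + (Finset.univ.filter fun v : W => QuadraticMap.polar Q v z = 0).card =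
      Fintype.card F * (Finset.univ.filter fun v : W => QuadraticMap.polar Q v z = 0 ∧ Q v = 0).card +
        Fintype.card W := by
    have key : ∀ v : W, rt Q z v + (if QuadraticMap.polar Q v z = 0 then 1 else 0) =
        Fintype.card F * (if QuadraticMap.polar Q v z = 0 ∧ Q v = 0 then 1 else 0) + 1 := by
      intro v
      rw [rt_singular_dir Q z v hz]
      by_cases hb : QuadraticMap.polar Q v z = 0
      · by_cases hv : Q v = 0
        · simp [hb, hv]
        · simp [hb, hv]
      · simp [hb]
    calc ∑ v, rt Q z v + (Finset.univ.filter fun v : W => QuadraticMap.polar Q v z = 0).card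
        = ∑ v, (rt Q z v + (if QuadraticMap.polar Q v z = 0 then 1 else 0)) := by
          rw [Finset.card_filter, Finset.sum_add_distrib]
      _ = ∑ v : W, (Fintype.card F * (if QuadraticMap.polar Q v z = 0 ∧ Q v = 0 then 1 else 0) + 1) :=
          Finset.sum_congr rfl (fun v _ => key v)
      _ = _ := by
          rw [Finset.sum_add_distrib, ← Finset.mul_sum, ← Finset.card_filter, Finset.sum_const,
            Finset.card_univ, smul_eq_mul, mul_one]
  have hG : (Finset.univ.filter fun v : W => Q v ≠ 0 ∧ QuadraticMap.polar Q v z = 0).card +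
      (Finset.univ.filter fun v : W => QuadraticMap.polar Q v z = 0 ∧ Q v = 0).card =
      (Finset.univ.filter fun v : W => QuadraticMap.polar Q v z = 0).card := by
    rw [Finset.card_filter, Finset.card_filter, Finset.card_filter, ← Finset.sum_add_distrib]
    apply Finset.sum_congr rfl
    intro v _
    by_cases hb : QuadraticMap.polar Q v z = 0
    · by_cases hv : Q v = 0
      · simp [hb, hv]
      · simp [hb, hv]
    · simp [hb]
  rw [hE] at hF
  nlinarith [hF, hG, hK]

/-- the total count of anisotropic pairs, additive form -/
theorem ap_total (Q : QuadraticForm F W)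
    (hnd : ∀ z : W, z ≠ 0 → ∃ v, QuadraticMap.polar Q v z ≠ 0)
    (K : ℕ) (hK : Fintype.card F * K = Fintype.card W)
    (Zs : ℕ) (hZs : (Finset.univ.filter fun z : W => Q z = 0).card = Zs + 1) :
    2 * (Finset.univ.filter fun p : W × W =>
        ∀ s t : F, Q (s • p.1 + t • p.2) = 0 → s = 0 ∧ t = 0).card +
      Fintype.card F * (Finset.univ.filter fun z : W => Q z = 0).card *
        (Finset.univ.filter fun u : W => Q u ≠ 0).card +
      Fintype.card F * (Finset.univ.filter fun u : W => Q u ≠ 0).card +
      Zs * (2 * Fintype.card W) =
    2 * Fintype.card W * (Finset.univ.filter fun u : W => Q u ≠ 0).card +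
      Zs * (Fintype.card F * (Finset.univ.filter fun z : W => Q z = 0).card + K) := by
  have hZs' : ((Finset.univ.filter fun z : W => Q z = 0).erase 0).card = Zs := by
    rw [Finset.card_erase_of_mem (by rw [Finset.mem_filter]; exact ⟨Finset.mem_univ _, map_zero Q⟩), hZs]
    rfl
  rw [← hZs']
  clear hZs' hZs
  set NS : Finset W := Finset.univ.filter fun u : W => Q u ≠ 0 with hNS
  set Sg : Finset W := Finset.univ.filter fun z : W => Q z = 0 with hSg
  set q := Fintype.card F with hq
  set n := Fintype.card W with hn
  have hq0 : 0 < q := Fintype.card_pos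
  -- the pairs, fibred over `u`
  have hT : (Finset.univ.filter fun p : W × W =>
      ∀ s t : F, Q (s • p.1 + t • p.2) = 0 → s = 0 ∧ t = 0).card =
      ∑ u ∈ NS, (Finset.univ.filter fun w : W => rt Q u w = 0).card := by
    rw [Finset.card_filter, Fintype.sum_prod_type, hNS, Finset.sum_filter]
    apply Finset.sum_congr rfl
    intro u _
    by_cases hu : Q u ≠ 0
    · rw [if_pos hu, Finset.card_filter]
      apply Finset.sum_congr rfl
      intro w _
      simp only [ap_iff_rt Q u w hu]
    · rw [if_neg hu]
      apply Finset.sum_eq_zero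
      intro w _
      rw [if_neg]
      exact not_ap_of_singular Q u w (not_not.mp hu)
  -- N1
  have hN1 : 2 * ∑ u ∈ NS, (Finset.univ.filter fun w : W => rt Q u w = 0).card + q * Sg.card * NS.card +
      q * ∑ u ∈ NS, (Sg.filter fun z => QuadraticMap.polar Q z u = 0).card = 2 * n * NS.card := by
    have h1 : ∀ u ∈ NS, 2 * (Finset.univ.filter fun w : W => rt Q u w = 0).card + q * Sg.card +
        q * (Sg.filter fun z => QuadraticMap.polar Q z u = 0).card = 2 * n := by
      intro u hu
      rw [hNS, Finset.mem_filter] at hu
      have := count_free_lines Q u hu.2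
      rw [hSg, Finset.filter_filter]
      exact this
    have h2 := Finset.sum_congr rfl h1
    rw [Finset.sum_add_distrib, Finset.sum_add_distrib] at h2
    simp only [← Finset.mul_sum, Finset.sum_const, smul_eq_mul] at h2
    nlinarith [h2]
  -- N2: exchange the order of summation
  have hN2 : ∑ u ∈ NS, (Sg.filter fun z => QuadraticMap.polar Q z u = 0).card =
      ∑ z ∈ Sg, (NS.filter fun u => QuadraticMap.polar Q u z = 0).card := by
    have h1 : ∀ u ∈ NS, (Sg.filter fun z => QuadraticMap.polar Q z u = 0).card =
        ∑ z ∈ Sg, (if QuadraticMap.polar Q z u = 0 then 1 else 0) := fun u _ => Finset.card_filter _ _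
    have h2 : ∀ z ∈ Sg, (NS.filter fun u => QuadraticMap.polar Q u z = 0).card =
        ∑ u ∈ NS, (if QuadraticMap.polar Q z u = 0 then 1 else 0) := by
      intro z _
      rw [Finset.card_filter]
      apply Finset.sum_congr rfl
      intro u _
      rw [QuadraticMap.polar_comm]
    rw [Finset.sum_congr rfl h1, Finset.sum_congr rfl h2, Finset.sum_comm]
  -- N3
  have h0S : (0 : W) ∈ Sg := by
    rw [hSg, Finset.mem_filter]
    exact ⟨Finset.mem_univ _, map_zero Q⟩
  have hN3 : q * ∑ z ∈ Sg, (NS.filter fun u => QuadraticMap.polar Q u z = 0).card +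
      (Sg.erase 0).card * (q * Sg.card + K) = q * NS.card + (Sg.erase 0).card * (2 * n) := by
    rw [← Finset.add_sum_erase Sg _ h0S]
    have h1 : (NS.filter fun u => QuadraticMap.polar Q u (0 : W) = 0).card = NS.card := by
      congr 1
      apply Finset.filter_true_of_mem
      intro u _
      exact QuadraticMap.polar_zero_right _ u
    have h2 : ∀ z ∈ Sg.erase 0, q * (NS.filter fun u => QuadraticMap.polar Q u z = 0).card +
        (q * Sg.card + K) = 2 * n := by
      intro z hz
      rw [Finset.mem_erase, hSg, Finset.mem_filter] at hz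
      obtain ⟨v₀, hv₀⟩ := hnd z hz.1
      obtain ⟨h3, h4⟩ := count_perp_nonsingular Q z v₀ hz.2.2 hv₀
      have h5 : (Finset.univ.filter fun v : W => QuadraticMap.polar Q v z = 0).card = K := by
        have : q * (Finset.univ.filter fun v : W => QuadraticMap.polar Q v z = 0).card = q * K := by
          rw [h4, hK]
        exact Nat.eq_of_mul_eq_mul_left hq0 this
      rw [h5] at h3
      rw [hNS, Finset.filter_filter]
      linarith [h3]
    have h6 := Finset.sum_congr rfl h2
    rw [Finset.sum_add_distrib] at h6
    simp only [← Finset.mul_sum, Finset.sum_const, smul_eq_mul] at h6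
    rw [h1, mul_add]
    nlinarith [h6]
  rw [hT]
  rw [hN2] at hN1
  nlinarith [hN1, hN3]

end Cfsg.Agent.Lib.Helper34.OEl
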