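import Mathlib
import Cfsg.Prelude.Def_GeometricClasses
import Cfsg.Agent.Lib.Helper43.OmegaNonsingGeo
import Cfsg.Agent.Lib.Helper43.OmegaSimple2
import Cfsg.Agent.Lib.Helper50.Isotropic

/-!
# K-OEvenX-N2p : `Ω(Q)` does not stabilise a pair of complementary subspaces
(both totally singular, or both non-degenerate and orthogonal), `n ≥ 7`.
-/

set_option autoImplicit false
set_option linter.unusedSectionVars false
set_option linter.unusedVariables false
set_option linter.style.haveILetI false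

namespace Cfsg.Agent.Lib.Helper34.OEvenX

open Cfsg Cfsg.Geo Cfsg.Agent.Lib.Helper43
open scoped Matrix

variable {F : Type*} [Field F] [Fintype F] {n : ℕ}

/-- the generic step: a non-zero vector of `D 0` and a vector of the same norm with both components
non-zero. -/
theorem not_le_of_mixed (hn : 7 ≤ n) (Q : (Fin n → F) → F)
    (hQ : IsNondegenerateQuadraticForm Q) (D : Fin 2 → Submodule F (Fin n → F))
    (hdis : Disjoint (D 0) (D 1))
    (a c₀ c₁ : Fin n → F) (ha : a ∈ D 0) (ha0 : a ≠ 0) (hc₀ : c₀ ∈ D 0) (hc₁ : c₁ ∈ D 1)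
    (hc₀0 : c₀ ≠ 0) (hc₁0 : c₁ ≠ 0) (hQac : Q a = Q (c₀ + c₁)) :
    ¬ omegaGL Q ≤ decompositionStabilizer D := by
  intro hle
  have hbot : ∀ x, x ∈ D 0 → x ∈ D 1 → x = 0 := by
    intro x h0 h1
    have := (Submodule.disjoint_def.mp hdis) x h0 h1
    exact this
  have hc0 : c₀ + c₁ ≠ 0 := by
    intro h
    have h1 : c₁ = -c₀ := by
      rw [eq_neg_iff_add_eq_zero, add_comm]; exact h
    exact hc₁0 (hbot c₁ (by rw [h1]; exact (D 0).neg_mem hc₀) hc₁)
  obtain ⟨g, hg, hgac⟩ := exists_Omega_map (geoQF Q hQ) (geoQF_nondegenerate Q hQ)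
    (by rw [Fintype.card_fin]; exact hn) a (c₀ + c₁) ha0 hc0 hQac
  have hmem : (g : GL (Fin n) F) ∈ omegaGL Q := by
    rw [mem_omegaGL_iff43]
    exact ⟨g.2, hg⟩
  obtain ⟨σ, hσ⟩ := hle hmem
  have hga : c₀ + c₁ ∈ D (σ 0) := by
    rw [← hσ 0, ← hgac]
    refine Submodule.mem_map.mpr ⟨a, ha, ?_⟩
    rfl
  obtain ⟨j, hj⟩ : ∃ j, σ 0 = j := ⟨_, rfl⟩
  rw [hj] at hga
  rcases Fin.exists_fin_two.mp ⟨j, rfl⟩ with h0 | h1
  · rw [h0] at hga
    have : c₁ ∈ D 0 := by
      have := (D 0).sub_mem hga hc₀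
      rwa [add_sub_cancel_left] at this
    exact hc₁0 (hbot c₁ this hc₁)
  · rw [h1] at hga
    have : c₀ ∈ D 1 := by
      have := (D 1).sub_mem hga hc₁
      rwa [add_sub_cancel_right] at this
    exact hc₀0 (hbot c₀ hc₀ this)

/-- **K-OEvenX-N2p**. -/
theorem omegaGL_not_le_decompositionStabilizer_pair (hn : 7 ≤ n) (Q : (Fin n → F) → F)
    (hQ : IsNondegenerateQuadraticForm Q) {k : ℕ} (D : Fin 2 → Submodule F (Fin n → F))
    (hD : IsMDecomposition k D)
    (h : (∀ i, IsTotallySingularQuad Q (D i)) ∨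
      IsNondegenerateMDecomposition (QuadraticMap.polar Q) k D) :
    ¬ omegaGL Q ≤ decompositionStabilizer D := by
  have hdis : Disjoint (D 0) (D 1) := hD.indep.pairwiseDisjoint (by decide : (0 : Fin 2) ≠ 1)
  -- dimension count: `n = 2 k`
  have hsup : D 0 ⊔ D 1 = ⊤ := by
    rw [← hD.iSup_eq_top]
    apply le_antisymm
    · exact sup_le (le_iSup D 0) (le_iSup D 1)
    · refine iSup_le fun i => ?_
      rcases Fin.exists_fin_two.mp ⟨i, rfl⟩ with h0 | h1
      · rw [h0]; exact le_sup_left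
      · rw [h1]; exact le_sup_right
  have hk : 4 ≤ k := by
    have h1 := Submodule.finrank_sup_add_finrank_inf_eq (D 0) (D 1)
    rw [hsup, disjoint_iff.mp hdis, finrank_bot, finrank_top, Module.finrank_fin_fun,
      hD.finrank_eq 0, hD.finrank_eq 1] at h1
    omega
  set Qf := geoQF Q hQ with hQf
  have hpolar : ∀ x y, Q (x + y) = Q x + Q y + QuadraticMap.polar Q x y := by
    intro x y
    unfold QuadraticMap.polar
    ring
  rcases h with hts | hnd
  · -- both totally singular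
    obtain ⟨u₀, hu₀, hu₀0⟩ : ∃ u₀ ∈ D 0, u₀ ≠ 0 := by
      have : D 0 ≠ ⊥ := by
        intro hb
        have := hD.finrank_eq 0
        rw [hb, finrank_bot] at this
        omega
      exact (Submodule.ne_bot_iff _).mp this
    -- the functional `B(u₀, ·)` on `D 1`
    let φ : ↥(D 1) →ₗ[F] F := (QuadraticMap.polarBilin Qf u₀).domRestrict (D 1)
    have hlt : Module.finrank F F < Module.finrank F ↥(D 1) := by
      rw [Module.finrank_self, hD.finrank_eq 1]
      omega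
    have hker := LinearMap.ker_ne_bot_of_finrank_lt (f := φ) hlt
    obtain ⟨w, hw, hw0⟩ := (Submodule.ne_bot_iff _).mp hker
    rw [LinearMap.mem_ker] at hw
    have hB : QuadraticMap.polar Q u₀ (w : Fin n → F) = 0 := hw
    refine not_le_of_mixed hn Q hQ D hdis u₀ u₀ (w : Fin n → F) hu₀ hu₀0 hu₀ w.2 hu₀0
      (fun h => hw0 (Subtype.ext h)) ?_
    rw [hpolar, hB, hts 0 u₀ hu₀, hts 1 _ w.2]
    ring
  · -- both non-degenerate, orthogonal
    have hex : ∀ i, ∃ x ∈ D i, x ≠ 0 ∧ Q x = 0 := by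
      intro i
      obtain ⟨v, hv0, hv⟩ := Cfsg.Agent.Lib.Helper50.exists_isotropic (Qf.comp (D i).subtype)
        (by rw [hD.finrank_eq i]; omega)
      exact ⟨v.1, v.2, fun h => hv0 (Subtype.ext h), hv⟩
    obtain ⟨u₀, hu₀, hu₀0, hQ₀⟩ := hex 0
    obtain ⟨u₁, hu₁, hu₁0, hQ₁⟩ := hex 1
    have hB : QuadraticMap.polar Q u₀ u₁ = 0 :=
      hnd.orthogonal 0 1 (by decide) u₀ hu₀ u₁ hu₁
    refine not_le_of_mixed hn Q hQ D hdis u₀ u₀ u₁ hu₀ hu₀0 hu₀ hu₁ hu₀0 hu₁0 ?_
    rw [hpolar, hB, hQ₀, hQ₁]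
    ring

end Cfsg.Agent.Lib.Helper34.OEvenX
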