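import Mathlib
import Cfsg.Prelude.Def_GeometricClasses
import Cfsg.Prelude.Def_ClassicalGeometry
import Cfsg.Agent.Lib.Helper72.OQFDefs
import Cfsg.Agent.Lib.Helper79.SpUTools
import Cfsg.Agent.Lib.Helper49.OrthOddI
import Cfsg.Agent.Lib.Helper49.PrimeOrderSpCount
import Cfsg.Agent.Lib.Helper50.SpinorIndex
import Cfsg.Agent.Lib.Helper50.GeoBridge
import Cfsg.Agent.Lib.Helper50.PlusForm
import Cfsg.Agent.S2568

/-!
# K-OQF-C (keystone 597718, S5977 pack, architect helper72): `derange_odd`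

`e = ord_r(q)` odd, `e ≤ d`: an element of order `r` of `Ω⁺_{2d}(q)` with `dim ker P₀(x) = e` odd is
not conjugate into the normaliser of a quadratic field subalgebra.  Orthogonal twin of `Helper91.SpU.derange_odd`.
-/

set_option autoImplicit false

namespace Cfsg.Agent.Lib.Helper34.OQF

open Cfsg Cfsg.Geo Polynomial
open scoped Matrix MatrixGroups

variable {F : Type*} [Field F]

/-- a scalar matrix normalises every subalgebra -/
theorem scalar_mem_normalizer' {ι : Type} [Fintype ι] [DecidableEq ι] (K : Subalgebra F (Matrix ι ι F))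
    (x : GL ι F) (z : F) (hz : (x : Matrix ι ι F) = z • (1 : Matrix ι ι F)) :
    x ∈ subalgebraNormalizer K := by
  intro k
  have h1 : (x : Matrix ι ι F) * k * ((x⁻¹ : GL ι F) : Matrix ι ι F) = k := by
    have h2 : (x : Matrix ι ι F) * k = k * (x : Matrix ι ι F) := by
      rw [hz, Matrix.smul_mul, Matrix.mul_smul, Matrix.one_mul, Matrix.mul_one]
    rw [h2, mul_assoc, ← Units.val_mul, mul_inv_cancel, Units.val_one, mul_one]
  rw [h1]

/-- an isometry of odd order lies in `Ω` (the quotient `GO / Ω` has order four) -/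
theorem mem_omegaGL_of_odd_order {ι : Type} [Fintype ι] [DecidableEq ι] [Fintype F] (h2 : (2 : F) ≠ 0)
    (Q : QuadraticForm F (ι → F)) (hQ : (QuadraticMap.polarBilin Q).Nondegenerate)
    (hdim : 2 ≤ Fintype.card ι) (g : GL ι F) (hg : g ∈ Cfsg.isometryGroup F (⇑Q)) (k : ℕ) (hk : Odd k)
    (hgk : g ^ k = 1) : g ∈ omegaGL (⇑Q) := by
  have hidx := Cfsg.Agent.Lib.Helper50.index_commutator h2 Q hQ hdim
  let g' : ↥(Cfsg.isometryGroup F (⇑Q)) := ⟨g, hg⟩
  have hg'k : g' ^ k = 1 := by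
    apply Subtype.ext
    rw [Subgroup.coe_pow]
    exact hgk
  have hmem : g' ∈ commutator ↥(Cfsg.isometryGroup F (⇑Q)) := by
    have hfin : Finite (↥(Cfsg.isometryGroup F (⇑Q)) ⧸ commutator ↥(Cfsg.isometryGroup F (⇑Q))) := by
      apply Nat.finite_of_card_ne_zero
      rw [← Subgroup.index_eq_card, hidx]
      norm_num
    rw [← QuotientGroup.eq_one_iff]
    have h1 : ((g' : ↥(Cfsg.isometryGroup F (⇑Q))) :
        ↥(Cfsg.isometryGroup F (⇑Q)) ⧸ commutator ↥(Cfsg.isometryGroup F (⇑Q))) ^ k = 1 := by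
      rw [← QuotientGroup.mk_pow, hg'k]
      rfl
    have h4 : ((g' : ↥(Cfsg.isometryGroup F (⇑Q))) :
        ↥(Cfsg.isometryGroup F (⇑Q)) ⧸ commutator ↥(Cfsg.isometryGroup F (⇑Q))) ^ 4 = 1 := by
      rw [← hidx, Subgroup.index_eq_card]
      exact pow_card_eq_one'
    have hcop : Nat.Coprime k 4 := by
      have h2' : Nat.Coprime k 2 := Nat.coprime_two_right.mpr hk
      exact Nat.Coprime.pow_right 2 h2'
    have hd1 := orderOf_dvd_of_pow_eq_one h1
    have hd4 := orderOf_dvd_of_pow_eq_one h4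
    have hd := Nat.dvd_gcd hd1 hd4
    rw [hcop.gcd_eq_one, Nat.dvd_one] at hd
    exact orderOf_eq_one_iff.mp hd
  exact Cfsg.Agent.Lib.Helper50.coe_mem_omegaGL (⇑Q) g' hmem

theorem derange_odd [Fintype F] {p : ℕ} [Fact p.Prime] [CharP F p] {q : ℕ} (hq : Fintype.card F = q) (hodd : Odd q)
    (d : ℕ) (hd : 2 ≤ d) (K : Subalgebra F (Matrix (Fin d ⊕ Fin d) (Fin d ⊕ Fin d) F)) (hK : IsFieldSubalgebra 2 K)
    (r : ℕ) [Fact r.Prime] (hr2 : r ≠ 2) (hrp : r ≠ p)
    (he : Odd (orderOf (q : ZMod r))) (hed : orderOf (q : ZMod r) ≤ d) :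
    ∃ x ∈ omegaGL (quadFormPlus d F), ((x ^ r : GL (Fin d ⊕ Fin d) F) : Matrix (Fin d ⊕ Fin d) (Fin d ⊕ Fin d) F) = 1 ∧
      (∀ z : F, (x : Matrix (Fin d ⊕ Fin d) (Fin d ⊕ Fin d) F) ≠ z • (1 : Matrix (Fin d ⊕ Fin d) (Fin d ⊕ Fin d) F)) ∧
      ∀ g ∈ omegaGL (quadFormPlus d F), g⁻¹ * x * g ∉ subalgebraNormalizer K := by
  classical
  have hr : r.Prime := Fact.out
  have hp : p.Prime := Fact.out
  obtain ⟨f, _, hqf⟩ := FiniteField.card F p
  rw [hq] at hqf
  have hKc : Fintype.card F = p ^ (f : ℕ) := by rw [hq, hqf]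
  obtain ⟨i, hi⟩ : ∃ i, i = orderOf ((q : ℕ) : ZMod r) := ⟨_, rfl⟩
  have hi' : i = orderOf ((p ^ (f : ℕ) : ℕ) : ZMod r) := by rw [hi, hqf]
  have D := Cfsg.Agent.S2568.factorData hKc r i hrp hi'
  have h2F : (2 : F) ≠ 0 := by
    intro h0
    have h1 : ((2 : ℕ) : F) = 0 := by exact_mod_cast h0
    rw [CharP.cast_eq_zero_iff F p] at h1
    have hp2 : p = 2 := (Nat.prime_dvd_prime_iff_eq hp Nat.prime_two).mp h1
    rw [hqf, hp2] at hodd
    have hf0 : (f : ℕ) ≠ 0 := f.ne_zero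
    exact (Nat.not_even_iff_odd.mpr hodd) ((Nat.even_pow.mpr ⟨even_two, hf0⟩))
  have hmon : ∀ P ∈ (UniqueFactorizationMonoid.normalizedFactors
      (Polynomial.cyclotomic r F)).toFinset, P.Monic := by
    intro P hP
    have hP1 := Multiset.mem_toFinset.mp hP
    rw [← UniqueFactorizationMonoid.normalize_normalized_factor P hP1]
    exact Polynomial.monic_normalize
      (UniqueFactorizationMonoid.irreducible_of_normalized_factor P hP1).ne_zero
  rw [← hi] at he hed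
  have hi1 : 1 ≤ i := D.hi
  -- a factor
  have hne : (UniqueFactorizationMonoid.normalizedFactors
      (Polynomial.cyclotomic r F)).toFinset.Nonempty := by
    rw [Finset.nonempty_iff_ne_empty]
    intro hempty
    have h1 := D.prod
    rw [hempty, Finset.prod_empty, mul_one] at h1
    have h2 := congrArg Polynomial.natDegree h1
    have e1 : (Polynomial.X - 1 : Polynomial F).natDegree = 1 := by
      rw [← Polynomial.C_1]; exact Polynomial.natDegree_X_sub_C 1
    have e2 : (Polynomial.X ^ r - 1 : Polynomial F).natDegree = r := by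
      rw [← Polynomial.C_1]; exact Polynomial.natDegree_X_pow_sub_C
    rw [e1, e2] at h2
    have := hr.two_le
    omega
  obtain ⟨P₀, hP₀⟩ := hne
  set Q₀ : ↥(UniqueFactorizationMonoid.normalizedFactors (Polynomial.cyclotomic r F)).toFinset :=
    ⟨P₀, hP₀⟩ with hQ₀
  set Q₁ : ↥(UniqueFactorizationMonoid.normalizedFactors (Polynomial.cyclotomic r F)).toFinset :=
    D.star hmon Q₀ with hQ₁
  have hQne : Q₁ ≠ Q₀ := D.star_ne hmon hr hr2 he Q₀
  let a : ↥(UniqueFactorizationMonoid.normalizedFactors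
      (Polynomial.cyclotomic r F)).toFinset → ℕ := fun P => if P = Q₀ ∨ P = Q₁ then 1 else 0
  have hst : ∀ P, a (D.star hmon P) = a P := by
    intro P
    have e1 : D.star hmon P = Q₀ ↔ P = Q₁ :=
      ⟨fun h => by rw [hQ₁, ← h, D.star_star], fun h => by rw [h, hQ₁, D.star_star]⟩
    have e2 : D.star hmon P = Q₁ ↔ P = Q₀ :=
      ⟨fun h => by
        have h' := congrArg (D.star hmon) h
        rwa [D.star_star, hQ₁, D.star_star] at h', fun h => by rw [h]⟩
    simp only [a, e1, e2, or_comm]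
  have hsum : ∑ P, a P = 2 := by
    have h1 : ∑ P, a P = ∑ P ∈ ({Q₀, Q₁} : Finset _), 1 := by
      rw [Finset.sum_ite, Finset.sum_const_zero, add_zero]
      apply Finset.sum_congr _ (fun _ _ => rfl)
      ext P
      simp
    rw [h1, Finset.sum_const, Finset.card_pair (Ne.symm hQne)]
    rfl
  have ha1 : i * ∑ P, a P ≤ 2 * d := by rw [hsum]; omega
  obtain ⟨g₀, hg₀, hκ⟩ := D.exists_orth_realize_plus_odd hmon hr hr2 he d a hst ha1
  have hκ₀ : Cfsg.Agent.Lib.Helper49.kdim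
      (Matrix.toLin' (Cfsg.Agent.Lib.Helper49.omat (Cfsg.Agent.Lib.Helper50.QPlus d F) g₀)) P₀ = i := by
    have := hκ Q₀
    simp only [a, true_or, if_true, mul_one] at this
    exact this
  set x : GL (Fin d ⊕ Fin d) F := (g₀ : GL (Fin d ⊕ Fin d) F) with hx
  have hxr : x ^ r = 1 := by
    rw [hx, ← Subgroup.coe_pow, hg₀]
    rfl
  have hxmem : x ∈ omegaGL (quadFormPlus d F) := by
    have h1 := mem_omegaGL_of_odd_order h2F (Cfsg.Agent.Lib.Helper50.QPlus d F)
      Cfsg.Agent.Lib.Helper50.QPlus_nondegenerate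
      (by rw [Fintype.card_sum, Fintype.card_fin]; omega) x g₀.2 r (hr.odd_of_ne_two hr2) hxr
    rw [Cfsg.Agent.Lib.Helper50.QPlus_coe] at h1
    exact h1
  have hxval : (x : Matrix (Fin d ⊕ Fin d) (Fin d ⊕ Fin d) F) =
      Cfsg.Agent.Lib.Helper49.omat (Cfsg.Agent.Lib.Helper50.QPlus d F) g₀ := rfl
  -- the derangement property
  have hder : ∀ g : GL (Fin d ⊕ Fin d) F, g⁻¹ * x * g ∉ subalgebraNormalizer K := by
    intro g hy
    set y : GL (Fin d ⊕ Fin d) F := g⁻¹ * x * g with hydef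
    have hyr : y ^ r = 1 := by
      have h1 : g⁻¹ * x * g = g⁻¹ * x * g⁻¹⁻¹ := by rw [inv_inv]
      rw [hydef, h1, conj_pow, hxr]
      group
    have hcomm := Cfsg.Agent.Lib.Helper79.SpU.commute_of_mem_normalizer_of_odd K hK y hy r
      (hr.odd_of_ne_two hr2) hyr
    set ψ : (Fin d ⊕ Fin d → F) →ₗ[F] (Fin d ⊕ Fin d → F) :=
      Matrix.toLin' (y : Matrix (Fin d ⊕ Fin d) (Fin d ⊕ Fin d) F) with hψ
    have hinvU : ∀ a ∈ K, ∀ w ∈ LinearMap.ker (aeval ψ P₀), a *ᵥ w ∈ LinearMap.ker (aeval ψ P₀) := by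
      intro a ha w hw
      rw [LinearMap.mem_ker] at hw ⊢
      have h1 := Cfsg.Agent.Lib.Helper49.aeval_intertwine ψ ψ (Matrix.toLin' a) (by
        intro v
        rw [hψ, Matrix.toLin'_apply, Matrix.toLin'_apply, Matrix.toLin'_apply, Matrix.toLin'_apply,
          Matrix.mulVec_mulVec, Matrix.mulVec_mulVec, hcomm a ha]) P₀ w
      rw [hw, map_zero, Matrix.toLin'_apply] at h1
      exact h1.symm
    have heven := Cfsg.Agent.Lib.Helper79.SpU.even_finrank_of_invariant K hK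
      (LinearMap.ker (aeval ψ P₀)) hinvU
    -- conjugation invariance of the kernel dimension
    have hgg' : (g : Matrix (Fin d ⊕ Fin d) (Fin d ⊕ Fin d) F) *
        ((g⁻¹ : GL (Fin d ⊕ Fin d) F) : Matrix (Fin d ⊕ Fin d) (Fin d ⊕ Fin d) F) = 1 := by
      rw [← Units.val_mul, mul_inv_cancel, Units.val_one]
    have hg'g : ((g⁻¹ : GL (Fin d ⊕ Fin d) F) : Matrix (Fin d ⊕ Fin d) (Fin d ⊕ Fin d) F) *
        (g : Matrix (Fin d ⊕ Fin d) (Fin d ⊕ Fin d) F) = 1 := by
      rw [← Units.val_mul, inv_mul_cancel, Units.val_one]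
    let e : (Fin d ⊕ Fin d → F) ≃ₗ[F] (Fin d ⊕ Fin d → F) :=
      LinearEquiv.ofLinearMap (Matrix.toLin' (g : Matrix (Fin d ⊕ Fin d) (Fin d ⊕ Fin d) F))
        (Matrix.toLin' ((g⁻¹ : GL (Fin d ⊕ Fin d) F) : Matrix (Fin d ⊕ Fin d) (Fin d ⊕ Fin d) F))
        (by rw [← Matrix.toLin'_mul, hgg', Matrix.toLin'_one])
        (by rw [← Matrix.toLin'_mul, hg'g, Matrix.toLin'_one])
    have hconj := Cfsg.Agent.Lib.Helper49.kdim_conj ψ
      (Matrix.toLin' (x : Matrix (Fin d ⊕ Fin d) (Fin d ⊕ Fin d) F)) e (by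
        intro v
        change Matrix.toLin' (g : Matrix (Fin d ⊕ Fin d) (Fin d ⊕ Fin d) F) (ψ v) =
          Matrix.toLin' (x : Matrix (Fin d ⊕ Fin d) (Fin d ⊕ Fin d) F)
            (Matrix.toLin' (g : Matrix (Fin d ⊕ Fin d) (Fin d ⊕ Fin d) F) v)
        rw [hψ, Matrix.toLin'_apply, Matrix.toLin'_apply, Matrix.toLin'_apply, Matrix.toLin'_apply,
          Matrix.mulVec_mulVec, Matrix.mulVec_mulVec, hydef, Units.val_mul, Units.val_mul,
          ← mul_assoc, ← mul_assoc, hgg', one_mul]) P₀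
    have hU : Module.finrank F (LinearMap.ker (aeval ψ P₀)) = i := by
      have h1 : Module.finrank F (LinearMap.ker (aeval ψ P₀)) =
          Cfsg.Agent.Lib.Helper49.kdim ψ P₀ := rfl
      rw [h1, hconj, hxval, hκ₀]
    rw [hU] at heven
    exact (Nat.not_even_iff_odd.mpr he) heven
  refine ⟨x, hxmem, ?_, ?_, fun g _ => hder g⟩
  · rw [hxr]; rfl
  · intro z hz
    apply hder 1
    have : (1 : GL (Fin d ⊕ Fin d) F)⁻¹ * x * 1 = x := by group
    rw [this]
    exact scalar_mem_normalizer' K x z hz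

end Cfsg.Agent.Lib.Helper34.OQF
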