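import Mathlib
import Cfsg.Prelude.Def_Characters
import Cfsg.Prelude.Def_Blocks
import Cfsg.Agent.Lib.Helper34.PFaithDefs
import Cfsg.Agent.Lib.Helper83.CharBasic
import Cfsg.Agent.Lib.Helper83.Quotient
import Cfsg.Agent.Lib.Helper84.Clifford

/-!
# Auxiliary lemmas for S4489 (helper34): twists, quotients, and the embedding `M ↪ (M/K)^(P/M)`
-/

set_option autoImplicit false

namespace Cfsg.Agent.Lib.Helper34.PFaith

open Cfsg Cfsg.Agent.Lib.Helper83 Cfsg.Agent.Lib.Helper84

universe u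

theorem self_mem_porbit {G : Type*} [Group G] (p : ℕ) (hp : p.Prime) (φ : G → ℂ) : φ ∈ porbit p φ :=
  ⟨1, by intro h; exact hp.one_lt.ne' (Nat.dvd_one.1 h), (ptw_one φ).symm⟩

theorem porbit_finite {G : Type*} [Group G] [Finite G] (p : ℕ) (φ : G → ℂ) : (porbit p φ).Finite := by
  apply Set.Finite.subset (Set.finite_range (fun k : Fin (Nat.card G + 1) => ptw (k : ℕ) φ))
  rintro φ' ⟨k, _, rfl⟩
  refine ⟨⟨k % Nat.card G, Nat.lt_succ_of_le (Nat.mod_lt _ Nat.card_pos).le⟩, ?_⟩
  funext g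
  simp only [ptw_apply]
  rw [pow_mod_natCard]

theorem pN_pos {G : Type*} [Group G] [Finite G] (p : ℕ) (hp : p.Prime) (φ : G → ℂ) : 0 < pN p φ := by
  unfold pN
  rw [Set.ncard_pos (porbit_finite p φ)]
  exact ⟨φ, self_mem_porbit p hp φ⟩

/-- twists commute with composition with a homomorphism -/
theorem pN_comp_surj {A B : Type*} [Group A] [Group B] (π : A →* B) (hπ : Function.Surjective π)
    (p : ℕ) (φ : B → ℂ) : pN p (fun a => φ (π a)) = pN p φ := by
  unfold pN
  have h : porbit p (fun a => φ (π a)) = (fun θ : B → ℂ => fun a => θ (π a)) '' porbit p φ := by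
    ext θ
    constructor
    · rintro ⟨k, hk, rfl⟩
      refine ⟨ptw k φ, ⟨k, hk, rfl⟩, ?_⟩
      funext a
      simp [ptw_apply, map_pow]
    · rintro ⟨θ', ⟨k, hk, rfl⟩, rfl⟩
      refine ⟨k, hk, ?_⟩
      funext a
      simp [ptw_apply, map_pow]
  rw [h]
  apply Set.ncard_image_of_injective
  intro θ₁ θ₂ h12
  funext b
  obtain ⟨a, rfl⟩ := hπ b
  exact congrFun h12 a

theorem padicValNat_pred_mul_pow (p t : ℕ) (hp : p.Prime) : padicValNat p ((p - 1) * p ^ t) = t := by
  haveI : Fact p.Prime := ⟨hp⟩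
  have h1 : p - 1 ≠ 0 := by have := hp.two_le; omega
  rw [padicValNat.mul h1 (pow_ne_zero _ hp.ne_zero), padicValNat.prime_pow]
  have h2 : padicValNat p (p - 1) = 0 := by
    apply padicValNat.eq_zero_of_not_dvd
    apply Nat.not_dvd_of_pos_of_lt (by omega)
    have := hp.two_le; omega
  omega

theorem padicValNat_le_one_of_le (p r : ℕ) (hp : p.Prime) (hr : 0 < r) (hrp : r ≤ p) :
    padicValNat p r ≤ 1 := by
  haveI : Fact p.Prime := ⟨hp⟩
  by_contra h
  push Not at h
  have h1 : p ^ 2 ∣ r := (pow_dvd_pow p h).trans pow_padicValNat_dvd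
  have h2 := Nat.le_of_dvd hr h1
  have h3 : p < p ^ 2 := by
    have := hp.two_le
    nlinarith
  omega

/-- value of an induced function (normal subgroup) at an element all of whose conjugates lie in the kernel -/
theorem indFun_eq_of_conj_ker {P : Type u} [Group P] [Fintype P] (M : Subgroup P) [hMn : M.Normal]
    (ψ : M → ℂ) (g : M) (hg : ∀ x : P, conjFun M x ψ g = ψ 1) :
    indFun M ψ (g : P) = indFun M ψ 1 := by
  have h1 := indFun_coe_normal M ψ g
  have h2 := indFun_coe_normal M ψ (1 : M)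
  rw [Subgroup.coe_one] at h2
  rw [h1, h2]
  congr 1
  apply Finset.sum_congr rfl
  intro x _
  rw [hg x, conjFun_apply]
  congr 1
  apply Subtype.ext
  simp

/-- the embedding `M ↪ (M/K)^(P/M)` for `K = ker ψ`, when `ψ^P` is faithful -/
theorem card_le_pow {P : Type u} [Group P] [Fintype P] (M : Subgroup P) [hMn : M.Normal]
    {ψ : M → ℂ} (hψ : IsCharacter M ψ)
    (hfaith : ∀ g : P, indFun M ψ g = indFun M ψ 1 → g = 1) :
    Nat.card M ≤ Nat.card (M ⧸ charKer hψ) ^ M.index := by
  classical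
  set K := charKer hψ with hK
  have hcl := char_isClassFunction hψ
  let Φ : M → (P ⧸ M → M ⧸ K) := fun h q =>
    QuotientGroup.mk ((MulAut.conjNormal (Quotient.out q)⁻¹ : MulAut M) h)
  have hinj : Function.Injective Φ := by
    intro h h' hh
    have key : ∀ q : P ⧸ M, (MulAut.conjNormal (Quotient.out q)⁻¹ : MulAut M) (h⁻¹ * h') ∈ K := by
      intro q
      have := congrFun hh q
      simp only [Φ] at this
      rw [QuotientGroup.eq] at this
      rw [map_mul, map_inv]
      exact this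
    have hg1 : ((h⁻¹ * h' : M) : P) = 1 := by
      apply hfaith
      apply indFun_eq_of_conj_ker
      intro x
      rw [conjFun_apply]
      -- x = m⁻¹ * (out q)⁻¹ with q = mk x⁻¹
      set q : P ⧸ M := QuotientGroup.mk x⁻¹ with hq
      have hm : (Quotient.out q)⁻¹ * x⁻¹ ∈ M := by
        have : (QuotientGroup.mk (Quotient.out q) : P ⧸ M) = QuotientGroup.mk x⁻¹ := by
          rw [← hq]; exact Quotient.out_eq' q
        exact QuotientGroup.eq.1 this
      set m : M := ⟨(Quotient.out q)⁻¹ * x⁻¹, hm⟩ with hmdef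
      have hkq := key q
      rw [hK, mem_charKer] at hkq
      rw [← hkq]
      have hconj : (⟨x * ((h⁻¹ * h' : M) : P) * x⁻¹, hMn.conj_mem _ (h⁻¹ * h' : M).2 x⟩ : M)
          = m⁻¹ * ((MulAut.conjNormal (Quotient.out q)⁻¹ : MulAut M) (h⁻¹ * h')) * m⁻¹⁻¹ := by
        apply Subtype.ext
        simp only [Subgroup.coe_mul, Subgroup.coe_inv, MulAut.conjNormal_apply, hmdef]
        group
      rw [hconj]
      exact hcl _ _
    have : h⁻¹ * h' = 1 := Subtype.ext (by rw [hg1]; rfl)
    exact (inv_mul_eq_one.1 this)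
  have h1 := Nat.card_le_card_of_injective Φ hinj
  rw [Nat.card_fun] at h1
  rw [Subgroup.index_eq_card]
  exact h1

end Cfsg.Agent.Lib.Helper34.PFaith
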