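import Mathlib
import Cfsg.Prelude.Def_Characters
import Cfsg.Prelude.Def_Blocks
import Cfsg.Agent.Lib.Helper34.PFaithDefs
import Cfsg.Agent.Lib.Helper34.PFaithAux
import Cfsg.Agent.Lib.Helper05.CharDegree
import Cfsg.Agent.Lib.Helper83.Constituent
import Cfsg.Agent.Lib.Helper63.PFaithB
import Cfsg.Agent.Lib.Helper97.PFaithC
import Cfsg.Agent.Lib.Helper86.PFaithD2

/-!
# S4489 (helper34): the induction.  For a faithful irreducible character `χ` of degree `f` of a group of order
`p^a`, `(p-1) a ≤ (f-1) + (p-1)(v_p(pN p χ)+1) f`.  Paper proof in `notes/S4489_keystones.lean.txt`.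
-/

set_option autoImplicit false

namespace Cfsg.Agent.Lib.Helper34.PFaith

open Cfsg Cfsg.Agent.Lib.Helper83 Cfsg.Agent.Lib.Helper84

universe u

theorem arith_r1 (p a a' f' t : ℕ) (hp : 2 ≤ p) (hf' : 1 ≤ f') (h1 : a - 1 ≤ a' * p)
    (h2 : (p - 1) * a' ≤ (f' - 1) + (p - 1) * (t + 1) * f') :
    (p - 1) * a ≤ (p * f' - 1) + (p - 1) * (t + 1) * (p * f') := by
  obtain ⟨q, rfl⟩ : ∃ q, p = q + 1 := ⟨p - 1, by omega⟩
  obtain ⟨g, rfl⟩ : ∃ g, f' = g + 1 := ⟨f' - 1, by omega⟩
  simp only [Nat.add_sub_cancel] at *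
  have h3 : (q + 1) * (g + 1) - 1 = q * g + q + g := by
    have : (q + 1) * (g + 1) = q * g + q + g + 1 := by ring
    omega
  rw [h3]
  have h1' : a ≤ 1 + a' * (q + 1) := by omega
  nlinarith [Nat.mul_le_mul_left q h1', Nat.mul_le_mul_left (q + 1) h2]

theorem arith_r2 (p a f' t t' : ℕ) (hp : 2 ≤ p) (hf' : 1 ≤ f') (ha : 1 ≤ a) (ht : t' ≤ t + 1)
    (h2 : (p - 1) * (a - 1) ≤ (f' - 1) + (p - 1) * (t' + 1) * f') :
    (p - 1) * a ≤ (p * f' - 1) + (p - 1) * (t + 1) * (p * f') := by
  obtain ⟨q, rfl⟩ : ∃ q, p = q + 1 := ⟨p - 1, by omega⟩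
  obtain ⟨g, rfl⟩ : ∃ g, f' = g + 1 := ⟨f' - 1, by omega⟩
  obtain ⟨b, rfl⟩ : ∃ b, a = b + 1 := ⟨a - 1, by omega⟩
  simp only [Nat.add_sub_cancel] at *
  have h3 : (q + 1) * (g + 1) - 1 = q * g + q + g := by
    have : (q + 1) * (g + 1) = q * g + q + g + 1 := by ring
    omega
  rw [h3]
  have hq : 1 ≤ q := by omega
  have h4 : q * (t' + 1) * (g + 1) ≤ q * (t + 2) * (g + 1) := by
    apply Nat.mul_le_mul_right
    apply Nat.mul_le_mul_left
    omega
  have h5 : q * (t + 2) * (g + 1) ≤ q * g + q * (t + 1) * ((q + 1) * (g + 1)) := by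
    nlinarith [Nat.mul_le_mul_left ((t + 1) * (g + 1) * q) hq, Nat.zero_le (q * g),
      Nat.zero_le (q * t * g), Nat.zero_le (q * q * t * g)]
  nlinarith

theorem charDegree_eq_of_one {G : Type*} [Group G] {χ : G → ℂ} {d : ℕ} (h : χ 1 = d) :
    charDegree χ = d := by
  unfold charDegree
  rw [h]
  simp

theorem main_bound (p : ℕ) (hp : p.Prime) : ∀ (a : ℕ) (P : Type u) [Group P] [Fintype P],
    Nat.card P = p ^ a → 0 < a → ∀ (χ : P → ℂ), IsIrrCharacter P χ → (∀ g, χ g = χ 1 → g = 1) →
    ∀ (f : ℕ), χ 1 = (f : ℂ) →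
    (p - 1) * a ≤ (f - 1) + (p - 1) * (padicValNat p (pN p χ) + 1) * f := by
  intro a
  induction a using Nat.strong_induction_on with
  | _ a ih =>
  intro P _ _ hP ha χ hχ hfaith f hf
  classical
  haveI : Fact p.Prime := ⟨hp⟩
  have hp2 := hp.two_le
  obtain ⟨d, hd0, hd1, _⟩ := Cfsg.Agent.Lib.Helper05.exists_degree_dvd hχ
  have hfd : f = d := by
    have : (f : ℂ) = (d : ℂ) := by rw [← hf, hd1]
    exact_mod_cast this
  subst hfd
  -- the case a = 1 is trivial
  by_cases ha1 : a = 1
  · subst ha1
    have : (p - 1) * 1 ≤ (p - 1) * (padicValNat p (pN p χ) + 1) * f := by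
      calc (p - 1) * 1 ≤ (p - 1) * ((padicValNat p (pN p χ) + 1) * f) := by
            apply Nat.mul_le_mul_left
            exact Nat.mul_pos (Nat.succ_pos _) hd0
        _ = (p - 1) * (padicValNat p (pN p χ) + 1) * f := by ring
    omega
  by_cases hlin : χ 1 = 1
  · -- linear case
    have hf1 : f = 1 := by
      have : (f : ℂ) = 1 := by rw [← hf, hlin]
      exact_mod_cast this
    subst hf1
    have hN := Cfsg.Agent.Lib.Helper63.PFaith.pN_of_linear_faithful p a hp ha hP (isCharacter_of_irr hχ) hlin
      (by intro g hg; exact hfaith g (by rw [hg, hlin]))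
    rw [hN, padicValNat_pred_mul_pow p (a - 1) hp]
    have : a - 1 + 1 = a := by omega
    rw [this]
    simp
  · -- nonlinear case
    obtain ⟨M, hMn, ψ, hMidx, hψ, hind⟩ :=
      Cfsg.Agent.Lib.Helper97.PFaith.exists_index_p_induced p (IsPGroup.of_card hP) hχ hlin
    haveI := hMn
    subst hind
    have hψc := isCharacter_of_irr hψ
    obtain ⟨f', hf'0, hf'1, _⟩ := Cfsg.Agent.Lib.Helper05.exists_degree_dvd hψ
    have hff' : f = p * f' := by
      have h1 := indFun_one_eq M ψ
      rw [hf, hMidx, hf'1] at h1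
      exact_mod_cast h1
    have hcardM : Nat.card M = p ^ (a - 1) := by
      have h1 := M.card_mul_index
      rw [hMidx, hP] at h1
      have h2 : p ^ a = p ^ (a - 1) * p := by
        rw [← pow_succ]; congr 1; omega
      rw [h2] at h1
      exact Nat.eq_of_mul_eq_mul_right hp.pos h1
    obtain ⟨r, hr1, hrp, hNr, hr2⟩ :=
      Cfsg.Agent.Lib.Helper86.PFaith.pN_induced p a hp hP M hMidx hψ hχ
    have hNχ := pN_pos p hp (indFun M ψ)
    have hval : padicValNat p (pN p ψ) = padicValNat p r + padicValNat p (pN p (indFun M ψ)) := by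
      rw [hNr, padicValNat.mul (by omega) (by omega)]
    have hvr := padicValNat_le_one_of_le p r hp (by omega) hrp
    set t := padicValNat p (pN p (indFun M ψ)) with ht
    rw [hff']
    by_cases hr : 2 ≤ r
    · -- K = 1: ψ is faithful
      obtain ⟨k, y, hk, hyM, hky⟩ := hr2 hr
      set K := charKer hψc with hK
      -- the normalizer of K (as a subgroup of P) is everything
      set K' : Subgroup P := K.map M.subtype with hK'
      have hmemK' : ∀ (x : P), x ∈ K' ↔ ∃ hx : x ∈ M, (⟨x, hx⟩ : M) ∈ K := by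
        intro x
        constructor
        · rintro ⟨h, hh, rfl⟩
          exact ⟨h.2, hh⟩
        · rintro ⟨hx, hh⟩
          exact ⟨⟨x, hx⟩, hh, rfl⟩
      have hMle : M ≤ Subgroup.normalizer (K' : Set P) := by
        intro m hm
        rw [Subgroup.mem_normalizer_iff]
        intro x
        rw [hmemK', hmemK']
        constructor
        · rintro ⟨hx, hh⟩
          refine ⟨M.mul_mem (M.mul_mem hm hx) (M.inv_mem hm), ?_⟩
          have := (charKer_normal hψc).conj_mem _ hh ⟨m, hm⟩
          exact this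
        · rintro ⟨hx, hh⟩
          have hxM : x ∈ M := by
            have := M.mul_mem (M.mul_mem (M.inv_mem hm) hx) hm
            simpa [mul_assoc] using this
          refine ⟨hxM, ?_⟩
          have := (charKer_normal hψc).conj_mem _ hh ⟨m, hm⟩⁻¹
          convert this using 1
          apply Subtype.ext
          simp [mul_assoc]
      have hyN : y ∈ Subgroup.normalizer (K' : Set P) := by
        rw [Subgroup.mem_normalizer_iff]
        intro x
        rw [hmemK', hmemK']
        constructor
        · rintro ⟨hx, hh⟩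
          refine ⟨hMn.conj_mem x hx y, ?_⟩
          rw [hK, mem_charKer] at hh ⊢
          have h1 := hky ⟨x, hx⟩
          rw [conjFun_apply] at h1
          rw [← h1]
          have h2 : (⟨x, hx⟩ : M) ^ k ∈ K := K.pow_mem (by rw [hK, mem_charKer]; exact hh) k
          rw [hK, mem_charKer] at h2
          exact h2
        · rintro ⟨hx, hh⟩
          have hxM : x ∈ M := by
            have := hMn.conj_mem _ hx y⁻¹
            simpa [mul_assoc] using this
          refine ⟨hxM, ?_⟩
          rw [hK, mem_charKer] at hh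
          have h1 := hky ⟨x, hxM⟩
          rw [conjFun_apply] at h1
          have h2 : (⟨x, hxM⟩ : M) ^ k ∈ K := by
            rw [hK, mem_charKer, h1]; exact hh
          -- x is a power of x^k
          have hcop : k.Coprime (orderOf (⟨x, hxM⟩ : M)) := by
            have hord : orderOf (⟨x, hxM⟩ : M) ∣ p ^ (a - 1) := by
              rw [← hcardM]; exact orderOf_dvd_natCard _
            obtain ⟨j, _, hj⟩ := (Nat.dvd_prime_pow hp).1 hord
            rw [hj]
            apply Nat.Coprime.pow_right
            exact ((Nat.Prime.coprime_iff_not_dvd hp).2 hk).symm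
          obtain ⟨m, hm⟩ := exists_pow_eq_self_of_coprime hcop
          rw [← hm]
          exact K.pow_mem h2 m
      have hNtop : Subgroup.normalizer (K' : Set P) = ⊤ := by
        have h1 := Subgroup.relIndex_mul_index hMle
        rw [hMidx] at h1
        have h2 : (Subgroup.normalizer (K' : Set P)).index ∣ p := ⟨_, by rw [← h1, mul_comm]⟩
        rcases (Nat.dvd_prime hp).1 h2 with h3 | h3
        · exact Subgroup.index_eq_one.1 h3
        · exfalso
          rw [h3] at h1
          have h4 : M.relIndex (Subgroup.normalizer (K' : Set P)) = 1 := by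
            have : M.relIndex (Subgroup.normalizer (K' : Set P)) * p = 1 * p := by rw [h1, one_mul]
            exact Nat.eq_of_mul_eq_mul_right hp.pos this
          exact hyM (Subgroup.relIndex_eq_one.1 h4 hyN)
      have hKbot : ∀ h : M, h ∈ K → h = 1 := by
        intro h hh
        have : (h : P) = 1 := by
          apply hfaith
          apply indFun_eq_of_conj_ker
          intro x
          rw [conjFun_apply]
          have hx : x ∈ Subgroup.normalizer (K' : Set P) := by rw [hNtop]; trivial
          rw [Subgroup.mem_normalizer_iff] at hx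
          have h1 := (hx (h : P)).1 ((hmemK' _).2 ⟨h.2, hh⟩)
          obtain ⟨hx1, hx2⟩ := (hmemK' _).1 h1
          rw [hK, mem_charKer] at hx2
          exact hx2
        exact Subtype.ext this
      have hfaithψ : ∀ h : M, ψ h = ψ 1 → h = 1 := by
        intro h hh
        exact hKbot h (by rw [hK, mem_charKer]; exact hh)
      have hIH := ih (a - 1) (by omega) M hcardM (by omega) ψ hψ hfaithψ f' hf'1
      exact arith_r2 p a f' t _ hp2 hf'0 ha (by rw [hval]; omega) hIH
    · -- r = 1
      have hr1' : r = 1 := by omega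
      subst hr1'
      have hval' : padicValNat p (pN p ψ) = t := by
        rw [hval]; simp
      set K := charKer hψc with hK
      obtain ⟨ψbar, hψbar, hψbar_eq⟩ := exists_isIrrCharacter_quotient K hψ
        (fun n hn => (mem_charKer hψc n).1 hn)
      have hfaithbar : ∀ x : M ⧸ K, ψbar x = ψbar 1 → x = 1 := by
        intro x hx
        obtain ⟨h, rfl⟩ := QuotientGroup.mk_surjective x
        rw [hψbar_eq, ← QuotientGroup.mk_one, hψbar_eq] at hx
        exact (QuotientGroup.eq_one_iff h).2 ((mem_charKer hψc h).2 hx)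
      have hNbar : pN p ψbar = pN p ψ := by
        have h1 := pN_comp_surj (QuotientGroup.mk' K) (QuotientGroup.mk'_surjective K) p ψbar
        rw [← h1]
        congr 1
        funext h
        exact hψbar_eq h
      have hdvd : Nat.card (M ⧸ K) ∣ p ^ (a - 1) := by
        rw [← hcardM, ← Subgroup.index_eq_card]
        exact K.index_dvd_card
      obtain ⟨a', ha'le, ha'⟩ := (Nat.dvd_prime_pow hp).1 hdvd
      have hemb := card_le_pow M hψc hfaith
      rw [hcardM, ← hK, ha', hMidx, ← pow_mul] at hemb
      have hle : a - 1 ≤ a' * p := (Nat.pow_le_pow_iff_right hp.one_lt).1 hemb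
      have ha'pos : 0 < a' := by
        by_contra h0
        have : a' = 0 := by omega
        subst this
        omega
      haveI : Fintype (M ⧸ K) := Fintype.ofFinite _
      have hbar1 : ψbar 1 = (f' : ℂ) := by
        rw [← QuotientGroup.mk_one, hψbar_eq, hf'1]
      have hIH := ih a' (by omega) (M ⧸ K) ha' ha'pos ψbar hψbar hfaithbar f' hbar1
      rw [hNbar, hval'] at hIH
      exact arith_r1 p a a' f' t hp2 hf'0 hle hIH

end Cfsg.Agent.Lib.Helper34.PFaith
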