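import Mathlib
import Cfsg.Prelude.Def_Characters
import Cfsg.Prelude.Def_Blocks
import Cfsg.Prelude.Def_Local
import Cfsg.Prelude.Def_Solvable
import Cfsg.Agent.Lib.Helper34.PSLDefs
import Cfsg.Agent.Lib.Helper05.CharDegree
import Cfsg.Agent.Lib.Helper83.Constituent
import Cfsg.Agent.Lib.Helper85.CliffordCorr
import Cfsg.Agent.Lib.Helper85.CliffordAbelian
import Cfsg.Agent.Lib.Helper80.IndDegree
import Cfsg.Agent.Lib.Helper32.PSL1
import Cfsg.Agent.Lib.Helper18.PSL2
import Cfsg.Agent.Lib.Helper93.PSL3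
import Cfsg.Agent.Lib.Helper84.PSL4
import Cfsg.Agent.Lib.Helper67.PSL5
import Cfsg.Agent.Lib.Helper97.PSL7a

/-!
# S4472 (helper34): the Main Lemma.  `X` finite, `H ⊲ X` a `p'`-group with `X/H` a `p`-group, `Φ` a character of `X` of
degree `n`: `v_p [X : C_X(H / (H ∩ ker Φ))] ≤ lam p n`.  Paper proof in `notes/S4472_keystones.lean.txt`.
-/

set_option autoImplicit false

namespace Cfsg.Agent.Lib.Helper34.PSL

open Cfsg Cfsg.Agent.Lib.Helper83

universe u

/-- **ML, irreducible case** -/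
theorem ml_irr (p : ℕ) [hp : Fact p.Prime] : ∀ (n : ℕ) (X : Type u) [Group X] [Finite X]
    (H : Subgroup X) [H.Normal], (Nat.card H).Coprime p → (∃ k : ℕ, H.index = p ^ k) →
    ∀ (Φ : X → ℂ) (hΦ : IsCharacter X Φ), IsIrrCharacter X Φ → Φ 1 = n →
    ((cenQuot H (charKer hΦ ⊓ H)).index).factorization p ≤ lam p n := by
  intro n
  induction n using Nat.strong_induction_on with
  | _ n ih =>
  intro X _ _ H _ hH hXH Φ hΦc hΦ hn
  classical
  haveI : Fintype X := Fintype.ofFinite X
  rcases Cfsg.Agent.Lib.Helper84.PSL.invariant_or_induced p H hXH hΦ with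
    ⟨θ, hθ, hinv, hker, d, n', hd, hn', hdn⟩ | ⟨M, hMn, ψ, hHM, hMidx, hψ, hind⟩
  · -- invariant case
    have hnn : n' = n := by
      have : (n' : ℂ) = (n : ℂ) := by rw [← hn', hn]
      exact_mod_cast this
    subst hnn
    have h1 := Cfsg.Agent.Lib.Helper93.PSL.primitive_bound p H hH hXH hθ hinv d hd (charKer hΦc ⊓ H)
      (fun h hh => ⟨(mem_charKer hΦc _).2 (hker h hh), h.2⟩)
    exact h1.trans (Cfsg.Agent.Lib.Helper32.PSL.lam_mono p hp.out hdn)
  · -- induced case
    haveI := hMn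
    subst hind
    have hψc := isCharacter_of_irr hψ
    obtain ⟨m, hm0, hm1, _⟩ := Cfsg.Agent.Lib.Helper05.exists_degree_dvd hψ
    have hnm : n = p * m := by
      have h1 := indFun_one_eq M ψ
      rw [hn, hMidx, hm1] at h1
      exact_mod_cast h1
    have hp2 := hp.out.two_le
    have hmn : m < n := by rw [hnm]; nlinarith
    -- the data for the induction hypothesis
    have hcard' : (Nat.card (H.subgroupOf M)).Coprime p := by
      have : Nat.card (H.subgroupOf M) = Nat.card H :=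
        Nat.card_congr (Subgroup.subgroupOfEquivOfLe hHM).toEquiv
      rw [this]; exact hH
    have hidx' : ∃ k : ℕ, (H.subgroupOf M).index = p ^ k := by
      obtain ⟨k, hk⟩ := hXH
      have h1 := Subgroup.relIndex_mul_index hHM
      rw [hMidx, hk] at h1
      have h2 : H.relIndex M ∣ p ^ k := ⟨p, h1.symm⟩
      obtain ⟨j, _, hj⟩ := (Nat.dvd_prime_pow hp.out).1 h2
      exact ⟨j, hj⟩
    have hIH := ih m hmn ↥M (H.subgroupOf M) hcard' hidx' ψ hψc hψ hm1
    set C := cenQuot (H.subgroupOf M) (charKer hψc ⊓ H.subgroupOf M) with hC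
    set C₁ : Subgroup X := C.map M.subtype with hC₁
    have hC₁M : C₁ ≤ M := by
      rintro _ ⟨c, _, rfl⟩
      exact c.2
    have hnorm : ∀ m ∈ M, ∀ c ∈ C₁, m * c * m⁻¹ ∈ C₁ := by
      rintro m hm _ ⟨c, hc, rfl⟩
      have hCn : C.Normal := by rw [hC]; infer_instance
      exact ⟨⟨m, hm⟩ * c * ⟨m, hm⟩⁻¹, hCn.conj_mem c hc ⟨m, hm⟩, rfl⟩
    have h2 := Cfsg.Agent.Lib.Helper18.PSL.index_normalCore_le p M hMidx C₁ hC₁M hnorm
    have hrel : C₁.relIndex M = C.index := by
      unfold Subgroup.relIndex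
      congr 1
      rw [hC₁]
      exact Subgroup.comap_map_eq_self_of_injective M.subtype_injective C
    rw [hrel] at h2
    have h5 := Cfsg.Agent.Lib.Helper67.PSL.normalCore_le_cenQuot H M hHM hψc hΦc
    have h6 : (cenQuot H (charKer hΦc ⊓ H)).index ∣ C₁.normalCore.index :=
      Subgroup.index_dvd_of_le h5
    have h7 : ((cenQuot H (charKer hΦc ⊓ H)).index).factorization p ≤
        (C₁.normalCore.index).factorization p :=
      (Nat.factorization_le_iff_dvd (index_cenQuot_ne_zero _ _)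
        Subgroup.index_ne_zero_of_finite).2 h6 p
    have h8 := Cfsg.Agent.Lib.Helper32.PSL.lam_mul_p p hp.out hm0
    rw [hnm]
    calc ((cenQuot H (charKer hΦc ⊓ H)).index).factorization p
        ≤ (C₁.normalCore.index).factorization p := h7
      _ ≤ 1 + p * (C.index).factorization p := h2
      _ ≤ 1 + p * lam p m := by
          apply Nat.add_le_add_left
          exact Nat.mul_le_mul_left p hIH
      _ ≤ lam p (p * m) := by omega

/-- **ML, general case** -/
theorem ml_gen (p : ℕ) [hp : Fact p.Prime] : ∀ (n : ℕ) (X : Type u) [Group X] [Finite X]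
    (H : Subgroup X) [H.Normal], (Nat.card H).Coprime p → (∃ k : ℕ, H.index = p ^ k) →
    ∀ (Φ : X → ℂ) (hΦ : IsCharacter X Φ), Φ 1 = n →
    ((cenQuot H (charKer hΦ ⊓ H)).index).factorization p ≤ lam p n := by
  intro n
  induction n using Nat.strong_induction_on with
  | _ n ih =>
  intro X _ _ H hHn hH hXH Φ hΦ hn
  classical
  haveI : Fintype X := Fintype.ofFinite X
  by_cases hn0 : n = 0
  · -- degree zero: everything is in the kernel
    subst hn0
    have hker : ∀ g : X, Φ g = Φ 1 := by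
      intro g
      have h1 := Cfsg.Agent.Lib.Helper80.char_norm_le_re hΦ g
      rw [hn] at h1
      simp at h1
      rw [h1, hn]; simp
    have htop : cenQuot H (charKer hΦ ⊓ H) = ⊤ := by
      rw [eq_top_iff]
      intro x _
      rw [mem_cenQuot]
      intro h hh
      refine ⟨(mem_charKer hΦ _).2 (hker _), ?_⟩
      have h1 := hHn.conj_mem _ hh x⁻¹
      have h2 : h⁻¹ * x⁻¹ * h * x = h⁻¹ * (x⁻¹ * h * x⁻¹⁻¹) := by group
      rw [h2]
      exact H.mul_mem (H.inv_mem hh) h1
    rw [htop, Subgroup.index_top]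
    simp
  · have hΦ1 : Φ 1 ≠ 0 := by
      rw [hn]; exact_mod_cast hn0
    obtain ⟨θ, hθ, hθne⟩ := Cfsg.Agent.Lib.Helper85.exists_irr_constituent hΦ hΦ1
    have hΦ' := Cfsg.Agent.Lib.Helper85.isCharacter_sub_irr hΦ hθ hθne
    have hθc := isCharacter_of_irr hθ
    obtain ⟨d, hd0, hd1, _⟩ := Cfsg.Agent.Lib.Helper05.exists_degree_dvd hθ
    obtain ⟨e, he⟩ := char_one_eq_nat hΦ'
    have hsum : n = d + e := by
      have h1 : (Φ - θ) 1 = Φ 1 - θ 1 := rfl
      rw [he, hn, hd1] at h1
      have h2 : (n : ℂ) = (d : ℂ) + (e : ℂ) := by rw [h1]; ring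
      exact_mod_cast h2
    have hdecomp : Φ = θ + (Φ - θ) := by
      funext g; simp
    have h₁₂ : IsCharacter X (θ + (Φ - θ)) := by rw [← hdecomp]; exact hΦ
    have hA := Cfsg.Agent.Lib.Helper97.PSL.factorization_index_cenQuot_add_le p H hθc hΦ' h₁₂
    have hB := ml_irr p d X H hH hXH θ hθc hθ hd1
    have hC := ih e (by omega) X H hH hXH (Φ - θ) hΦ' he
    have hD := Cfsg.Agent.Lib.Helper32.PSL.lam_add p hp.out d e
    have hE : cenQuot H (charKer h₁₂ ⊓ H) = cenQuot H (charKer hΦ ⊓ H) := by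
      congr 2
      ext g
      rw [mem_charKer, mem_charKer, ← hdecomp]
    rw [hE] at hA
    rw [hsum]
    omega

end Cfsg.Agent.Lib.Helper34.PSL
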