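import Mathlib

/-!
# K-RSp leaf A2 (keystone 228121, S2281 pack, architect helper48): the parameter `t` in characteristic `2`
-/

set_option autoImplicit false
set_option linter.unusedVariables false

namespace Cfsg.Agent.Lib.Helper34.RSp

theorem exists_param_even (F : Type*) [Field F] [Fintype F] (h2 : (2 : F) = 0) :
    ∃ t : F, t ≠ 0 ∧ (∀ x : F, x ≠ 0 → ∃ k : ℕ, x = (t * 1) ^ k) ∧
      (∀ x : F, x ≠ 0 → ∃ k : ℕ, x = (t ^ 2) ^ k) := by
  classical
  obtain ⟨g, hg⟩ := IsCyclic.exists_generator (α := Fˣ)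
  have hpow : ∀ u : Fˣ, ∃ k : ℕ, g ^ k = u := by
    intro u
    have := hg u
    rwa [← mem_powers_iff_mem_zpowers, Submonoid.mem_powers_iff] at this
  have hcard : 2 ∣ Fintype.card F := by
    have h1 : addOrderOf (1 : F) = 2 := by
      apply addOrderOf_eq_prime
      · rw [two_nsmul, one_add_one_eq_two, h2]
      · exact one_ne_zero
    rw [← h1]
    exact addOrderOf_dvd_card
  obtain ⟨m, hm⟩ := hcard
  have hg1 : g ^ (Fintype.card F - 1) = 1 := by
    rw [← Fintype.card_units]; exact pow_card_eq_one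
  have hgm : (g ^ 2) ^ m = g := by
    rw [← pow_mul, ← hm]
    have : Fintype.card F = (Fintype.card F - 1) + 1 := by
      have := Fintype.card_pos (α := F); omega
    rw [this, pow_succ, hg1, one_mul]
  refine ⟨(g : F), Units.ne_zero g, ?_, ?_⟩
  · intro x hx
    obtain ⟨k, hk⟩ := hpow (Units.mk0 x hx)
    refine ⟨k, ?_⟩
    rw [mul_one]
    have := congrArg Units.val hk
    rw [Units.val_pow_eq_pow_val, Units.val_mk0] at this
    exact this.symm
  · intro x hx
    obtain ⟨k, hk⟩ := hpow (Units.mk0 x hx)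
    refine ⟨m * k, ?_⟩
    have h3 : ((g ^ 2) ^ m) ^ k = Units.mk0 x hx := by rw [hgm, hk]
    have := congrArg Units.val h3
    rw [← pow_mul, Units.val_pow_eq_pow_val, Units.val_pow_eq_pow_val, Units.val_mk0] at this
    exact this.symm

end Cfsg.Agent.Lib.Helper34.RSp
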