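import Mathlib
import Cfsg.Agent.Lib.Helper73.RUDefs
import Cfsg.Agent.Lib.Helper73.RUHub

/-!
# K-RU4 leaf B (keystone 227902, S2279 pack, architects helper2 / helper99): the transvection `1 + l³ c₁ φ₋₁ᵀ`

`d₋₁ = a⁻¹ v`, `d₀ = v a⁻¹` and `[d₋₁, [d₋₁, d₀]] = 1 + l³ c₁ φ₋₁ᵀ`, computed in the calculus
`(1 + C X P)(1 + C Y P) = 1 + C (X + Y + X K Y) P`, `K = P C`.
-/

set_option autoImplicit false
set_option linter.unusedVariables false
set_option linter.unusedSimpArgs false
set_option linter.unnecessarySeqFocus false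
set_option linter.unusedSectionVars false

namespace Cfsg.Agent.Lib.Helper34.RU4x

open Matrix Cfsg.Agent.Lib.Helper73.RU Cfsg.Agent.Lib.Helper73.RUSpec

section defs
variable (m : ℕ) (F : Type*) [Field F]

/-- the index `last - 1` -/
def pen : Fin (m + 3) := ⟨m + 1, by omega⟩

/-- `v = g a g⁻¹ = a + l E_{last,1} - l E_{last-1,0}` -/
def v4 (l : F) : Matrix (Fin (m + 3)) (Fin (m + 3)) F :=
  aMat m F + Matrix.single (Fin.last (m + 2)) 1 l - Matrix.single (pen m) 0 l

/-- `c₁ = a e_last = e_last + e_{last-1}` -/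
def c1 : Fin (m + 3) → F := Pi.single (Fin.last (m + 2)) 1 + Pi.single (pen m) 1

/-- `φ₋₁ = e_0ᵀ a = e_0 + e_1` -/
def f1 : Fin (m + 3) → F := Pi.single 0 1 + Pi.single 1 1

/-- the alternating column `c₋₁` -/
def cm : Fin (m + 3) → F := fun i => (-1) ^ (m + 2 - i.val)

/-- the alternating row `φ₁` -/
def p1 : Fin (m + 3) → F := fun i => (-1) ^ i.val

/-- the columns `c₋₁, c₀, c₁` -/
def CM : Matrix (Fin (m + 3)) (Fin 3) F :=
  Matrix.of fun i a => ![cm m F i, (Pi.single (Fin.last (m + 2)) 1 : Fin (m + 3) → F) i, c1 m F i] a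

/-- the rows `φ₋₁, φ₀, φ₁` -/
def PM : Matrix (Fin 3) (Fin (m + 3)) F :=
  Matrix.of fun a j => ![f1 m F j, (Pi.single 0 1 : Fin (m + 3) → F) j, p1 m F j] a

end defs

section small
variable {F : Type*} [Field F]

/-- the pairing table -/
def KM (ε ν : F) : Matrix (Fin 3) (Fin 3) F := !![0, 0, 0; ε, 0, 0; ν, ε, 0]

/-- the product in the calculus -/
def comp3 (ε ν : F) (X Y : Matrix (Fin 3) (Fin 3) F) : Matrix (Fin 3) (Fin 3) F :=
  X + Y + X * KM ε ν * Y

def X1 (l : F) : Matrix (Fin 3) (Fin 3) F := !![l, 0, 0; 0, -l, 0; 0, 0, 0]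
def X0 (l : F) : Matrix (Fin 3) (Fin 3) F := !![0, 0, 0; 0, l, 0; 0, 0, -l]
def Ym (l ε ν : F) : Matrix (Fin 3) (Fin 3) F :=
  !![0, 0, 0; -(l ^ 2 * ε), 0, 0; l ^ 2 * ν + l ^ 3, -(l ^ 2 * ε), 0]
def Tm (l : F) : Matrix (Fin 3) (Fin 3) F := !![0, 0, 0; 0, 0, 0; l ^ 3, 0, 0]

theorem id1 (l ε ν : F) (hε : ε = 1 ∨ ε = -1) :
    comp3 ε ν (X1 l) (X0 l) = comp3 ε ν (comp3 ε ν (Ym l ε ν) (X0 l)) (X1 l) := by
  rcases hε with rfl | rfl <;>
  · ext a b
    fin_cases a <;> fin_cases b <;>
      simp [comp3, KM, X1, X0, Ym, Matrix.mul_apply, Fin.sum_univ_three] <;> ring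

theorem id2 (l ε ν : F) (hε : ε = 1 ∨ ε = -1) :
    comp3 ε ν (X1 l) (Ym l ε ν) = comp3 ε ν (comp3 ε ν (Tm l) (Ym l ε ν)) (X1 l) := by
  rcases hε with rfl | rfl <;>
  · ext a b
    fin_cases a <;> fin_cases b <;>
      simp [comp3, KM, X1, Tm, Ym, Matrix.mul_apply, Fin.sum_univ_three] <;> ring

end small

section calculus
variable {m : ℕ} {F : Type*} [Field F]

/-- the elements `1 + C X P` -/
def DD (m : ℕ) (F : Type*) [Field F] (X : Matrix (Fin 3) (Fin 3) F) :
    Matrix (Fin (m + 3)) (Fin (m + 3)) F := 1 + CM m F * X * PM m F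

theorem DD_mul (ε ν : F) (hK : PM m F * CM m F = KM ε ν) (X Y : Matrix (Fin 3) (Fin 3) F) :
    DD m F X * DD m F Y = DD m F (comp3 ε ν X Y) := by
  unfold DD comp3
  have h1 : CM m F * X * PM m F * (CM m F * Y * PM m F) =
      CM m F * (X * KM ε ν * Y) * PM m F := by
    rw [← hK]
    simp only [Matrix.mul_assoc]
  rw [mul_add, add_mul, add_mul, one_mul, mul_one, one_mul, h1, Matrix.mul_add, Matrix.mul_add,
    Matrix.add_mul, Matrix.add_mul]
  abel

theorem CXP_apply (X : Matrix (Fin 3) (Fin 3) F) (i j : Fin (m + 3)) :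
    (CM m F * X * PM m F) i j =
      ∑ a : Fin 3, ∑ b : Fin 3, CM m F i a * X a b * PM m F b j := by
  rw [Matrix.mul_apply]
  simp_rw [Matrix.mul_apply, Finset.sum_mul]
  rw [Finset.sum_comm]

end calculus

section vectors
variable (m : ℕ) (F : Type*) [Field F]

theorem aMat_mulVec_apply' (v : Fin (m + 3) → F) (i : Fin (m + 3)) :
    (aMat m F *ᵥ v) i = v i + (if h : i.val + 1 < m + 3 then v ⟨i.val + 1, h⟩ else 0) := by
  rw [Matrix.mulVec, dotProduct]
  simp only [aMat, Matrix.of_apply]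
  have hsplit : ∀ j : Fin (m + 3), (if i = j ∨ i.val + 1 = j.val then (1 : F) else 0) * v j =
      (if j = i then v j else 0) + (if i.val + 1 = j.val then v j else 0) := by
    intro j
    by_cases h1 : i = j
    · subst h1; simp
    · have h3 : j ≠ i := fun h => h1 h.symm
      by_cases h2 : i.val + 1 = j.val
      · simp [h1, h2, h3]
      · simp [h1, h2, h3]
  simp_rw [hsplit]
  rw [Finset.sum_add_distrib, Finset.sum_ite_eq' Finset.univ i, if_pos (Finset.mem_univ _)]
  congr 1
  by_cases h : i.val + 1 < m + 3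
  · rw [dif_pos h, Finset.sum_eq_single (⟨i.val + 1, h⟩ : Fin (m + 3))]
    · rw [if_pos rfl]
    · intro j _ hj
      rw [if_neg]
      intro h2
      exact hj (Fin.ext h2.symm)
    · intro h2; exact absurd (Finset.mem_univ _) h2
  · rw [dif_neg h]
    apply Finset.sum_eq_zero
    intro j _
    rw [if_neg]
    intro h2
    exact h (by rw [h2]; exact j.2)

theorem vecMul_aMat_apply' (v : Fin (m + 3) → F) (j : Fin (m + 3)) :
    (v ᵥ* aMat m F) j =
      v j + (if h : 0 < j.val then v ⟨j.val - 1, by have := j.2; omega⟩ else 0) := by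
  rw [Matrix.vecMul, dotProduct]
  simp only [aMat, Matrix.of_apply]
  have hsplit : ∀ i : Fin (m + 3), v i * (if i = j ∨ i.val + 1 = j.val then (1 : F) else 0) =
      (if i = j then v i else 0) + (if i.val + 1 = j.val then v i else 0) := by
    intro i
    by_cases h1 : i = j
    · subst h1; simp
    · by_cases h2 : i.val + 1 = j.val
      · simp [h1, h2]
      · simp [h1, h2]
  simp_rw [hsplit]
  rw [Finset.sum_add_distrib, Finset.sum_ite_eq' Finset.univ j, if_pos (Finset.mem_univ _)]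
  congr 1
  by_cases h : 0 < j.val
  · rw [dif_pos h, Finset.sum_eq_single (⟨j.val - 1, by have := j.2; omega⟩ : Fin (m + 3))]
    · rw [if_pos (by show j.val - 1 + 1 = j.val; omega)]
    · intro i _ hi
      rw [if_neg]
      intro h2
      exact hi (Fin.ext (by show i.val = j.val - 1; omega))
    · intro h2; exact absurd (Finset.mem_univ _) h2
  · rw [dif_neg h]
    apply Finset.sum_eq_zero
    intro i _
    rw [if_neg]
    intro h2
    omega

theorem aMat_mulVec_cm : aMat m F *ᵥ cm m F = Pi.single (Fin.last (m + 2)) 1 := by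
  ext i
  rw [aMat_mulVec_apply']
  by_cases h : i.val + 1 < m + 3
  · rw [dif_pos h]
    have hne : i ≠ Fin.last (m + 2) := by
      intro h2
      rw [h2] at h
      simp at h
    rw [Pi.single_eq_of_ne hne]
    unfold cm
    have e : m + 2 - i.val = (m + 2 - (i.val + 1)) + 1 := by omega
    show (-1 : F) ^ (m + 2 - i.val) + (-1 : F) ^ (m + 2 - (i.val + 1)) = 0
    rw [e, pow_succ]
    ring
  · rw [dif_neg h, add_zero]
    have he : i = Fin.last (m + 2) := by
      apply Fin.ext
      show i.val = m + 2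
      have := i.2
      omega
    rw [he, Pi.single_eq_same]
    unfold cm
    simp

theorem aMat_mulVec_last :
    aMat m F *ᵥ (Pi.single (Fin.last (m + 2)) 1 : Fin (m + 3) → F) = c1 m F := by
  ext i
  rw [aMat_mulVec_apply']
  unfold c1 pen
  simp only [Pi.add_apply, Pi.single_apply, Fin.ext_iff, Fin.val_last]
  by_cases h : i.val + 1 < m + 3
  · rw [dif_pos h]
    by_cases h2 : i.val = m + 1
    · simp [h2]
    · have h3 : ¬ i.val + 1 = m + 2 := by omega
      simp [h2, h3]
  · rw [dif_neg h]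
    have : i.val = m + 2 := by have := i.2; omega
    simp [this]

theorem p1_vecMul_aMat : p1 m F ᵥ* aMat m F = Pi.single 0 1 := by
  ext j
  rw [vecMul_aMat_apply']
  by_cases h : 0 < j.val
  · rw [dif_pos h]
    have hne : j ≠ 0 := by
      intro h2
      rw [h2] at h
      simp at h
    rw [Pi.single_eq_of_ne hne]
    unfold p1
    show (-1 : F) ^ j.val + (-1 : F) ^ (j.val - 1) = 0
    have e : j.val = (j.val - 1) + 1 := by omega
    rw [e, pow_succ]
    simp
  · rw [dif_neg h, add_zero]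
    have he : j = 0 := by
      apply Fin.ext
      show j.val = 0
      omega
    rw [he, Pi.single_eq_same]
    unfold p1
    simp

theorem f1_dot (w : Fin (m + 3) → F) : f1 m F ⬝ᵥ w = w 0 + w 1 := by
  unfold f1
  rw [add_dotProduct, single_dotProduct, single_dotProduct, one_mul, one_mul]

theorem last_ne_zero' : (Fin.last (m + 2) : Fin (m + 3)) ≠ 0 := by
  intro h; have := congrArg Fin.val h; simp at this

theorem last_ne_one' : (Fin.last (m + 2) : Fin (m + 3)) ≠ 1 := by
  intro h; have := congrArg Fin.val h; simp at this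

theorem pen_ne_zero' : pen m ≠ 0 := by
  intro h; have := congrArg Fin.val h; simp [pen] at this

theorem pen_ne_one' (hm : 1 ≤ m) : pen m ≠ 1 := by
  intro h; have := congrArg Fin.val h; simp [pen] at this; omega

theorem c1_zero : c1 m F 0 = 0 := by
  unfold c1
  rw [Pi.add_apply, Pi.single_eq_of_ne (last_ne_zero' m).symm, Pi.single_eq_of_ne (pen_ne_zero' m).symm,
    add_zero]

theorem c1_one (hm : 1 ≤ m) : c1 m F 1 = 0 := by
  unfold c1
  rw [Pi.add_apply, Pi.single_eq_of_ne (last_ne_one' m).symm,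
    Pi.single_eq_of_ne (pen_ne_one' m hm).symm, add_zero]

theorem pairing (hm : 1 ≤ m) :
    PM m F * CM m F = KM ((-1 : F) ^ m) ((-1 : F) ^ m * ((m : F) + 3)) := by
  have hc0 : cm m F 0 = (-1 : F) ^ m := by
    unfold cm
    show (-1 : F) ^ (m + 2 - 0) = _
    rw [Nat.sub_zero, pow_add]; simp
  have hc1 : cm m F 1 = -(-1 : F) ^ m := by
    unfold cm
    show (-1 : F) ^ (m + 2 - (1 : Fin (m + 3)).val) = _
    have : (1 : Fin (m + 3)).val = 1 := by simp
    rw [this, show m + 2 - 1 = m + 1 by omega, pow_succ]; ring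
  have hpl : p1 m F (Fin.last (m + 2)) = (-1 : F) ^ m := by
    unfold p1
    rw [Fin.val_last, pow_add]; simp
  have hpp : p1 m F (pen m) = -(-1 : F) ^ m := by
    unfold p1 pen
    show (-1 : F) ^ (m + 1) = _
    rw [pow_succ]; ring
  ext a b
  rw [Matrix.mul_apply]
  fin_cases a <;> fin_cases b
  · -- f1 . cm
    show ∑ i, f1 m F i * cm m F i = 0
    have := f1_dot m F (cm m F)
    rw [dotProduct] at this
    rw [this, hc0, hc1]; ring
  · show ∑ i, f1 m F i * (Pi.single (Fin.last (m + 2)) 1 : Fin (m + 3) → F) i = 0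
    have := f1_dot m F (Pi.single (Fin.last (m + 2)) 1 : Fin (m + 3) → F)
    rw [dotProduct] at this
    rw [this, Pi.single_eq_of_ne (last_ne_zero' m).symm, Pi.single_eq_of_ne (last_ne_one' m).symm,
      add_zero]
  · show ∑ i, f1 m F i * c1 m F i = 0
    have := f1_dot m F (c1 m F)
    rw [dotProduct] at this
    rw [this, c1_zero, c1_one m F hm, add_zero]
  · show ∑ i, (Pi.single 0 1 : Fin (m + 3) → F) i * cm m F i = (-1 : F) ^ m
    have := single_dotProduct (cm m F) (1 : F) (0 : Fin (m + 3))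
    rw [dotProduct] at this
    rw [this, one_mul, hc0]
  · show ∑ i, (Pi.single 0 1 : Fin (m + 3) → F) i *
      (Pi.single (Fin.last (m + 2)) 1 : Fin (m + 3) → F) i = 0
    have := single_dotProduct (Pi.single (Fin.last (m + 2)) 1 : Fin (m + 3) → F) (1 : F)
      (0 : Fin (m + 3))
    rw [dotProduct] at this
    rw [this, one_mul, Pi.single_eq_of_ne (last_ne_zero' m).symm]
  · show ∑ i, (Pi.single 0 1 : Fin (m + 3) → F) i * c1 m F i = 0
    have := single_dotProduct (c1 m F) (1 : F) (0 : Fin (m + 3))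
    rw [dotProduct] at this
    rw [this, one_mul, c1_zero]
  · show ∑ i, p1 m F i * cm m F i = (-1 : F) ^ m * ((m : F) + 3)
    have h1 : ∀ i : Fin (m + 3), p1 m F i * cm m F i = (-1 : F) ^ m := by
      intro i
      unfold p1 cm
      rw [← pow_add]
      have : i.val + (m + 2 - i.val) = m + 2 := by have := i.2; omega
      rw [this, pow_add]; simp
    rw [Finset.sum_congr rfl fun i _ => h1 i, Finset.sum_const, Finset.card_univ, Fintype.card_fin,
      nsmul_eq_mul]
    push_cast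
    ring
  · show ∑ i, p1 m F i * (Pi.single (Fin.last (m + 2)) 1 : Fin (m + 3) → F) i = (-1 : F) ^ m
    have := dotProduct_single (p1 m F) (1 : F) (Fin.last (m + 2))
    rw [dotProduct] at this
    rw [this, mul_one, hpl]
  · show ∑ i, p1 m F i * c1 m F i = 0
    have h1 : p1 m F ⬝ᵥ c1 m F = p1 m F (Fin.last (m + 2)) + p1 m F (pen m) := by
      unfold c1
      rw [dotProduct_add, dotProduct_single, dotProduct_single, mul_one, mul_one]
    rw [dotProduct] at h1
    rw [h1, hpl, hpp]; ring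

/-- row `0` of `aMat` (as in the spec of helper2) -/
theorem e0_vecMul_aMat :
    (Pi.single 0 1 : Fin (m + 3) → F) ᵥ* aMat m F = f1 m F := by
  ext j
  rw [single_vecMul, one_smul]
  unfold f1 aMat
  simp only [Matrix.row, of_apply, Pi.add_apply, Pi.single_apply]
  by_cases h0 : j = 0
  · subst h0
    simp
  · by_cases h1 : j = 1
    · subst h1
      simp
    · have h4 : ¬ ((0 : Fin (m + 3)) = j) := fun h => h0 h.symm
      have h5 : ¬ ((0 : Fin (m + 3)).val + 1 = j.val) := by
        intro h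
        apply h1
        ext
        simpa using h.symm
      rw [if_neg (by tauto), if_neg h0, if_neg h1, add_zero]

end vectors

section main
variable {m : ℕ} {F : Type*} [Field F]

theorem DD_X1 (l : F) :
    DD m F (X1 l) = 1 + l • (vecMulVec (cm m F) (f1 m F) -
      vecMulVec (Pi.single (Fin.last (m + 2)) 1) (Pi.single 0 1)) := by
  unfold DD
  congr 1
  ext i j
  rw [CXP_apply]
  simp [Fin.sum_univ_three, X1, CM, PM, vecMulVec_apply, Matrix.smul_apply, Matrix.sub_apply]
  ring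

theorem DD_X0 (l : F) :
    DD m F (X0 l) = 1 + l • (vecMulVec (Pi.single (Fin.last (m + 2)) 1) (Pi.single 0 1) -
      vecMulVec (c1 m F) (p1 m F)) := by
  unfold DD
  congr 1
  ext i j
  rw [CXP_apply]
  simp [Fin.sum_univ_three, X0, CM, PM, vecMulVec_apply, Matrix.smul_apply, Matrix.sub_apply]
  ring

theorem DD_Tm (l : F) : DD m F (Tm l) = tvm (l ^ 3 • c1 m F) (f1 m F) := by
  unfold DD tvm
  congr 1
  ext i j
  rw [CXP_apply]
  simp [Fin.sum_univ_three, Tm, CM, PM, vecMulVec_apply, -mul_eq_mul_right_iff,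
    -mul_eq_mul_left_iff]
  ring

theorem key_matrix (l : F) :
    l • (vecMulVec (Pi.single (Fin.last (m + 2)) 1) (f1 m F) -
      vecMulVec (c1 m F) (Pi.single 0 1)) =
      Matrix.single (Fin.last (m + 2)) 1 l - Matrix.single (pen m) 0 l := by
  unfold f1 c1
  rw [vecMulVec_add, add_vecMulVec, ← single_eq_single_vecMulVec_single,
    ← single_eq_single_vecMulVec_single, ← single_eq_single_vecMulVec_single,
    add_sub_add_left_eq_sub, smul_sub, Matrix.smul_single, Matrix.smul_single, smul_eq_mul, mul_one]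

theorem aMat_mul_DD_X1 (l : F) : aMat m F * DD m F (X1 l) = v4 m F l := by
  rw [DD_X1, mul_add, mul_one, Matrix.mul_smul, Matrix.mul_sub, mul_vecMulVec, mul_vecMulVec,
    aMat_mulVec_cm, aMat_mulVec_last, key_matrix]
  unfold v4
  rw [add_sub_assoc]

theorem DD_X0_mul_aMat (l : F) : DD m F (X0 l) * aMat m F = v4 m F l := by
  rw [DD_X0, add_mul, one_mul, Matrix.smul_mul, Matrix.sub_mul, vecMulVec_mul, vecMulVec_mul,
    e0_vecMul_aMat, p1_vecMul_aMat, key_matrix]
  unfold v4
  rw [add_sub_assoc]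

/-- LEAF B (227902) -/
theorem tv_mem (hm : 1 ≤ m)
    {G : Subgroup (SpecialLinearGroup (Fin (m + 3)) F)} (l : F)
    (ha : InG G (aMat m F)) (hv : InG G (v4 m F l)) :
    InG G (tvm (l ^ 3 • c1 m F) (f1 m F)) := by
  obtain ⟨ε, hεdef⟩ : ∃ ε : F, ε = (-1 : F) ^ m := ⟨_, rfl⟩
  obtain ⟨ν, hνdef⟩ : ∃ ν : F, ν = (-1 : F) ^ m * ((m : F) + 3) := ⟨_, rfl⟩
  have hK : PM m F * CM m F = KM ε ν := by rw [hεdef, hνdef]; exact pairing m F hm
  have hε : ε = 1 ∨ ε = -1 := by rw [hεdef]; exact neg_one_pow_eq_or F m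
  have hD1 : InG G (DD m F (X1 l)) :=
    inG_of_mul_left ha (by rw [aMat_mul_DD_X1]; exact hv)
  have hD0 : InG G (DD m F (X0 l)) :=
    inG_of_mul_right ha (by rw [DD_X0_mul_aMat]; exact hv)
  have hY : InG G (DD m F (Ym l ε ν)) := by
    have h1 : DD m F (X1 l) * DD m F (X0 l) =
        DD m F (Ym l ε ν) * DD m F (X0 l) * DD m F (X1 l) := by
      rw [DD_mul ε ν hK, DD_mul ε ν hK, DD_mul ε ν hK, id1 l ε ν hε]
    have h2 : InG G (DD m F (Ym l ε ν) * DD m F (X0 l) * DD m F (X1 l)) := by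
      rw [← h1]; exact inG_mul hD1 hD0
    exact inG_of_mul_right hD0 (inG_of_mul_right hD1 h2)
  have hT : InG G (DD m F (Tm l)) := by
    have h1 : DD m F (X1 l) * DD m F (Ym l ε ν) =
        DD m F (Tm l) * DD m F (Ym l ε ν) * DD m F (X1 l) := by
      rw [DD_mul ε ν hK, DD_mul ε ν hK, DD_mul ε ν hK, id2 l ε ν hε]
    have h2 : InG G (DD m F (Tm l) * DD m F (Ym l ε ν) * DD m F (X1 l)) := by
      rw [← h1]; exact inG_mul hD1 hY
    exact inG_of_mul_right hY (inG_of_mul_right hD1 h2)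
  rw [← DD_Tm]
  exact hT

/-- the same statement with the definitions `v4`, `c1`, `f1`, `pen` unfolded -/
theorem tv_mem_unfolded (hm : 1 ≤ m)
    {G : Subgroup (SpecialLinearGroup (Fin (m + 3)) F)} (l : F)
    (ha : InG G (aMat m F))
    (hv : InG G (aMat m F + Matrix.single (Fin.last (m + 2)) 1 l -
      Matrix.single (⟨m + 1, by omega⟩ : Fin (m + 3)) 0 l)) :
    InG G (tvm (l ^ 3 • ((Pi.single (Fin.last (m + 2)) 1 : Fin (m + 3) → F) +
      Pi.single (⟨m + 1, by omega⟩ : Fin (m + 3)) 1)) (Pi.single 0 1 + Pi.single 1 1)) :=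
  tv_mem hm l ha hv

end main

end Cfsg.Agent.Lib.Helper34.RU4x
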