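import Mathlib
import Cfsg.Agent.Lib.Helper40.NilCovDefs

/-!
# K-S3894-R5a / R5b : a `p`-subgroup of `GL_n(F)`, `char F = p`, fixes a nonzero column / row vector
-/

set_option autoImplicit false
set_option linter.style.haveILetI false
set_option linter.unusedSectionVars false

namespace Cfsg.Agent.Lib.Helper34.S3894

open Matrix Cfsg.Agent.Lib.Helper40.NilCov

variable {F : Type*} [Field F]

theorem prime_dvd_card_vec {p : ℕ} [Fact p.Prime] [CharP F p] [Fintype F] (n : ℕ) (hn : 0 < n) :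
    p ∣ Nat.card (Fin n → F) := by
  have h1 : p ∣ Fintype.card F :=
    (CharP.cast_eq_zero_iff F p (Fintype.card F)).mp (Nat.cast_card_eq_zero F)
  rw [Nat.card_eq_fintype_card, Fintype.card_fun, Fintype.card_fin]
  exact dvd_pow h1 (by omega)

/-- K-S3894-R5a. -/
theorem exists_fixed_col {p : ℕ} [Fact p.Prime] [CharP F p] [Fintype F] (n : ℕ) (hn : 0 < n)
    (P : Subgroup (GL (Fin n) F)) (hP : IsPGroup p P) :
    ∃ v : Fin n → F, v ≠ 0 ∧ ∀ g ∈ P, (g : Matrix (Fin n) (Fin n) F) *ᵥ v = v := by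
  classical
  letI act : MulAction ↥P (Fin n → F) :=
    { smul := fun g v => ((g : GL (Fin n) F) : Matrix (Fin n) (Fin n) F) *ᵥ v
      one_smul := by
        intro v
        show (((1 : ↥P) : GL (Fin n) F) : Matrix (Fin n) (Fin n) F) *ᵥ v = v
        simp
      mul_smul := by
        intro g h v
        show (((g * h : ↥P) : GL (Fin n) F) : Matrix (Fin n) (Fin n) F) *ᵥ v =
          ((g : GL (Fin n) F) : Matrix (Fin n) (Fin n) F) *ᵥ
            (((h : GL (Fin n) F) : Matrix (Fin n) (Fin n) F) *ᵥ v)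
        rw [Matrix.mulVec_mulVec]
        rfl }
  have h0 : (0 : Fin n → F) ∈ MulAction.fixedPoints ↥P (Fin n → F) := by
    intro g
    show ((g : GL (Fin n) F) : Matrix (Fin n) (Fin n) F) *ᵥ (0 : Fin n → F) = 0
    simp
  obtain ⟨b, hb, hb0⟩ := hP.exists_fixed_point_of_prime_dvd_card_of_fixed_point (Fin n → F)
    (prime_dvd_card_vec (F := F) (p := p) n hn) h0
  refine ⟨b, fun h => hb0 h.symm, fun g hg => ?_⟩
  exact hb ⟨g, hg⟩

/-- K-S3894-R5b. -/
theorem exists_fixed_row {p : ℕ} [Fact p.Prime] [CharP F p] [Fintype F] (n : ℕ) (hn : 0 < n)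
    (P : Subgroup (GL (Fin n) F)) (hP : IsPGroup p P) :
    ∃ φ : Fin n → F, φ ≠ 0 ∧ ∀ g ∈ P, φ ᵥ* (g : Matrix (Fin n) (Fin n) F) = φ := by
  classical
  letI act : MulAction ↥P (Fin n → F) :=
    { smul := fun g v => v ᵥ* (((g : GL (Fin n) F)⁻¹ : GL (Fin n) F) : Matrix (Fin n) (Fin n) F)
      one_smul := by
        intro v
        show v ᵥ* (((((1 : ↥P) : GL (Fin n) F))⁻¹ : GL (Fin n) F) : Matrix (Fin n) (Fin n) F) = v
        simp
      mul_smul := by
        intro g h v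
        show v ᵥ* (((((g * h : ↥P) : GL (Fin n) F))⁻¹ : GL (Fin n) F) :
            Matrix (Fin n) (Fin n) F) =
          (v ᵥ* (((h : GL (Fin n) F)⁻¹ : GL (Fin n) F) : Matrix (Fin n) (Fin n) F)) ᵥ*
            (((g : GL (Fin n) F)⁻¹ : GL (Fin n) F) : Matrix (Fin n) (Fin n) F)
        rw [Matrix.vecMul_vecMul, Subgroup.coe_mul, _root_.mul_inv_rev]
        rfl }
  have h0 : (0 : Fin n → F) ∈ MulAction.fixedPoints ↥P (Fin n → F) := by
    intro g
    show (0 : Fin n → F) ᵥ* (((g : GL (Fin n) F)⁻¹ : GL (Fin n) F) :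
      Matrix (Fin n) (Fin n) F) = 0
    simp
  obtain ⟨b, hb, hb0⟩ := hP.exists_fixed_point_of_prime_dvd_card_of_fixed_point (Fin n → F)
    (prime_dvd_card_vec (F := F) (p := p) n hn) h0
  refine ⟨b, fun h => hb0 h.symm, fun g hg => ?_⟩
  have := hb ⟨g⁻¹, P.inv_mem hg⟩
  have h2 : b ᵥ* ((((g⁻¹ : GL (Fin n) F))⁻¹ : GL (Fin n) F) : Matrix (Fin n) (Fin n) F) = b := this
  rwa [inv_inv] at h2

end Cfsg.Agent.Lib.Helper34.S3894
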