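import Mathlib
import Cfsg.Agent.Lib.Helper40.NilCovDefs

/-!
# K-S3894-R6 : `GL_n(F)` is transitive on nonzero vectors
-/

set_option autoImplicit false
set_option linter.style.haveILetI false
set_option linter.unusedSectionVars false

namespace Cfsg.Agent.Lib.Helper34.S3894

open Matrix Cfsg.Agent.Lib.Helper40.NilCov

variable {F : Type*} [Field F]

/-- K-S3894-R6. -/
theorem exists_gl_mulVec_e0 (n : ℕ) (hn : 0 < n) (v : Fin n → F) (hv : v ≠ 0) :
    ∃ h : GL (Fin n) F,
      (h : Matrix (Fin n) (Fin n) F) *ᵥ (Pi.single (⟨0, hn⟩ : Fin n) (1 : F)) = v := by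
  classical
  obtain ⟨k, hk⟩ : ∃ k, v k ≠ 0 := by
    by_contra h
    push Not at h
    exact hv (funext h)
  obtain ⟨i0, hi0⟩ : ∃ i0 : Fin n, i0 = ⟨0, hn⟩ := ⟨_, rfl⟩
  rw [← hi0]
  let M : Matrix (Fin n) (Fin n) F := (1 : Matrix (Fin n) (Fin n) F).updateCol k v
  have hM : M.det = v k := by
    have := Matrix.cramer_apply (1 : Matrix (Fin n) (Fin n) F) v k
    rw [Matrix.cramer_one] at this
    simpa using this.symm
  let S : Matrix (Fin n) (Fin n) F := (Equiv.swap i0 k).permMatrix F
  have hS : S.det ≠ 0 := by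
    show ((Equiv.swap i0 k).permMatrix F).det ≠ 0
    rw [Matrix.det_permutation]
    rcases Int.units_eq_one_or (Equiv.Perm.sign (Equiv.swap i0 k)) with h | h <;> rw [h] <;> simp
  have hA : (M * S).det ≠ 0 := by
    rw [Matrix.det_mul, hM]
    exact mul_ne_zero hk hS
  refine ⟨Matrix.GeneralLinearGroup.mkOfDetNeZero (M * S) hA, ?_⟩
  show (M * S) *ᵥ Pi.single i0 1 = v
  rw [← Matrix.mulVec_mulVec]
  have h1 : S *ᵥ Pi.single i0 (1 : F) = Pi.single k 1 := by
    rw [Matrix.mulVec_single_one]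
    ext i
    show ((Equiv.swap i0 k).permMatrix F) i i0 = (Pi.single k (1 : F) : Fin n → F) i
    rw [Equiv.Perm.permMatrix, PEquiv.toMatrix_apply, Pi.single_apply]
    simp only [Equiv.toPEquiv_apply, Option.mem_def, Option.some.injEq]
    by_cases hik : i = k
    · subst hik
      simp
    · rw [if_neg hik, if_neg]
      intro h
      apply hik
      have h2 : (Equiv.swap i0 k) ((Equiv.swap i0 k) i) = (Equiv.swap i0 k) i0 :=
        congrArg (Equiv.swap i0 k) h
      rw [Equiv.swap_apply_self, Equiv.swap_apply_left] at h2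
      exact h2
  rw [h1, Matrix.mulVec_single_one]
  ext i
  simp [M]

end Cfsg.Agent.Lib.Helper34.S3894
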