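import Mathlib
import Cfsg.Prelude.Def_Characters
import Cfsg.Agent.Lib.Helper83.Abelian
import Cfsg.Agent.Lib.Helper04.CharScalar
import Cfsg.Agent.Lib.Helper74.CR2Basic
import Cfsg.Agent.Lib.Helper79.CentralDefect
import Cfsg.Agent.Lib.Helper82.CharBasic

/-!
# Keystone K-S4751-H (for helper82's S4751): `C_G(N) = N × Z(G)`.
-/

set_option autoImplicit false

namespace Cfsg.Agent.Lib.Helper34.S4751H

open Cfsg

universe u

/-- A faithful representation: an element whose character value has full norm is central. -/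
theorem mem_center_of_norm_eq {G : Type u} [Group G] [Finite G] {n : ℕ}
    (ρ : Representation ℂ G (Fin n → ℂ))
    (hfaith : ∀ g : G, ρ.character g = ρ.character 1 → g = 1) {g : G}
    (hg : ‖ρ.character g‖ = (n : ℝ)) : g ∈ Subgroup.center G := by
  have hfr : Module.finrank ℂ (Fin n → ℂ) = n := by simp
  obtain ⟨ω, hω⟩ := (Cfsg.Agent.Lib.Helper04.norm_char_eq_iff ρ g).mp (by rw [hfr]; exact hg)
  rw [Subgroup.mem_center_iff]
  intro h
  have hginv : ρ g * ρ g⁻¹ = 1 := by rw [← map_mul, mul_inv_cancel, map_one]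
  have hhinv : ρ h * ρ h⁻¹ = 1 := by rw [← map_mul, mul_inv_cancel, map_one]
  have hcomm : ρ h * ρ g = ρ g * ρ h := by
    rw [hω]; ext v; simp
  have h1 : ρ (h * g * h⁻¹ * g⁻¹) = 1 := by
    calc ρ (h * g * h⁻¹ * g⁻¹) = ρ h * ρ g * ρ h⁻¹ * ρ g⁻¹ := by simp only [map_mul]
      _ = ρ g * (ρ h * ρ h⁻¹) * ρ g⁻¹ := by rw [hcomm]; simp only [mul_assoc]
      _ = 1 := by rw [hhinv, mul_one, hginv]
  have h2 : ρ.character (h * g * h⁻¹ * g⁻¹) = ρ.character 1 := by
    simp only [Representation.character, h1, map_one]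
  have h3 := hfaith _ h2
  have h4 : h * g * h⁻¹ = g := mul_inv_eq_one.mp h3
  exact mul_inv_eq_iff_eq_mul.mp h4

theorem dvd_orderOf_of_pow_eq_one {G : Type u} [Group G] {p : ℕ} (hp : p.Prime) {x : G} {k : ℕ}
    (hk : x ^ p ^ k = 1) (hx : x ≠ 1) : p ∣ orderOf x := by
  obtain ⟨j, _, hj2⟩ := (Nat.dvd_prime_pow hp).mp (orderOf_dvd_of_pow_eq_one hk)
  rcases j with _ | j
  · exfalso; apply hx; rw [pow_zero] at hj2; exact orderOf_eq_one_iff.mp hj2
  · rw [hj2, pow_succ]; exact dvd_mul_left _ _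

/-- `N ⊔ ⟨c⟩` is commutative when `N` is and `c` centralizes `N`. -/
theorem sup_zpowers_comm {G : Type u} [Group G] (N : Subgroup G)
    (hcomm : ∀ a ∈ N, ∀ b ∈ N, a * b = b * a) (c : G)
    (hc : c ∈ Subgroup.centralizer (N : Set G)) :
    ∀ a ∈ N ⊔ Subgroup.zpowers c, ∀ b ∈ N ⊔ Subgroup.zpowers c, a * b = b * a := by
  have hS : N ⊔ Subgroup.zpowers c = Subgroup.closure ((N : Set G) ∪ {c}) := by
    rw [Subgroup.closure_union, Subgroup.closure_eq, Subgroup.zpowers_eq_closure]
  have hScomm : ∀ x ∈ ((N : Set G) ∪ {c}), ∀ y ∈ ((N : Set G) ∪ {c}), x * y = y * x := by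
    intro x hx y hy
    rcases hx with hx | hx <;> rcases hy with hy | hy
    · exact hcomm x hx y hy
    · rw [Set.mem_singleton_iff] at hy; subst hy
      exact (Subgroup.mem_centralizer_iff.mp hc x hx)
    · rw [Set.mem_singleton_iff] at hx; subst hx
      exact (Subgroup.mem_centralizer_iff.mp hc y hy).symm
    · rw [Set.mem_singleton_iff] at hx hy; subst hx; subst hy; rfl
  rw [hS]
  intro a ha b hb
  have h1 : Subgroup.closure ((N : Set G) ∪ {c}) ≤
      Subgroup.centralizer ((N : Set G) ∪ {c}) := by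
    rw [Subgroup.closure_le]
    intro x hx
    rw [SetLike.mem_coe, Subgroup.mem_centralizer_iff]
    intro y hy
    exact hScomm y hy x hx
  have h2 : Subgroup.closure ((N : Set G) ∪ {c}) ≤
      Subgroup.centralizer (Subgroup.closure ((N : Set G) ∪ {c}) : Set G) := by
    rw [Subgroup.closure_le]
    intro x hx
    rw [SetLike.mem_coe, Subgroup.mem_centralizer_iff]
    intro y hy
    exact (Subgroup.mem_centralizer_iff.mp (h1 hy) x hx).symm
  exact (Subgroup.mem_centralizer_iff.mp (h2 hb) a ha)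

/-- **K-S4751-H**. -/
theorem centralizer_eq_sup_center {G : Type u} [Group G] [Fintype G] (p : ℕ) [Fact p.Prime]
    (N : Subgroup G) [N.Normal] (hNp : IsPGroup p N) (hcomm : ∀ a ∈ N, ∀ b ∈ N, a * b = b * a)
    {χ : G → ℂ} (hχ : IsIrrCharacter G χ) (hfaith : ∀ g : G, χ g = χ 1 → g = 1) (hnl : χ 1 ≠ 1)
    (hsing : ∀ g : G, p ∣ orderOf g → ‖χ g‖ = 1)
    (hdeg : χ 1 = (Nat.card N : ℂ) - 1) :
    Subgroup.centralizer (N : Set G) = N ⊔ Subgroup.center G ∧ N ⊓ Subgroup.center G = ⊥ := by
  classical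
  have hp : p.Prime := Fact.out
  have hirrχ := hχ
  obtain ⟨n, ρ, hirr, rfl⟩ := hχ
  have hχ1 : ρ.character 1 = (n : ℂ) := by simp [Representation.char_one]
  have hn0 : n ≠ 0 := by
    intro h
    apply Cfsg.Agent.Lib.Helper82.IsIrrCharacter.apply_one_ne_zero hirrχ
    rw [hχ1, h]; simp
  have hn1 : n ≠ 1 := by intro h; apply hnl; rw [hχ1, h]; simp
  have hn2 : 2 ≤ n := by omega
  have hn2' : (2 : ℝ) ≤ (n : ℝ) := by exact_mod_cast hn2
  have hcardN : Nat.card N = n + 1 := by
    have : ((Nat.card N : ℕ) : ℂ) = ((n + 1 : ℕ) : ℂ) := by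
      push_cast; rw [← hχ1, hdeg]; ring
    exact_mod_cast this
  have hchar : IsCharacter G ρ.character := ⟨n, ρ, rfl⟩
  have hfr : Module.finrank ℂ (Fin n → ℂ) = n := by simp
  have hle : ∀ g, ‖ρ.character g‖ ≤ (n : ℝ) := fun g => by
    have := Cfsg.Agent.Lib.Helper04.norm_char_le ρ g; rwa [hfr] at this
  have hleSq : ∀ g, Complex.normSq (ρ.character g) ≤ (n : ℝ) ^ 2 := fun g => by
    rw [Complex.normSq_eq_norm_sq]
    exact pow_le_pow_left₀ (norm_nonneg _) (hle g) 2
  have hcen : ∀ g, ‖ρ.character g‖ = (n : ℝ) → g ∈ Subgroup.center G := fun g hg =>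
    mem_center_of_norm_eq ρ hfaith hg
  have hzen : ∀ z ∈ Subgroup.center G, ‖ρ.character z‖ = (n : ℝ) := by
    intro z hz
    have h := Cfsg.Agent.Lib.Helper79.normSq_mul_central
      (⟨ρ.character, hirrχ⟩ : IrrCharacter G) hz 1
    simp only [mul_one] at h
    rw [hχ1, Complex.normSq_eq_norm_sq, Complex.normSq_eq_norm_sq] at h
    have h2 : ‖((n : ℕ) : ℂ)‖ = (n : ℝ) := by simp
    rw [h2] at h
    exact (sq_eq_sq₀ (norm_nonneg _) (Nat.cast_nonneg n)).mp h
  have hsingN : ∀ x ∈ N, x ≠ 1 → p ∣ orderOf x := by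
    intro x hx hx1
    obtain ⟨k, hk⟩ := hNp ⟨x, hx⟩
    have hk' : x ^ p ^ k = 1 := by
      have := congrArg Subtype.val hk
      simpa using this
    exact dvd_orderOf_of_pow_eq_one hp hk' hx1
  have hone : ∀ x : G, p ∣ orderOf x → Complex.normSq (ρ.character x) = 1 := by
    intro x hx
    rw [Complex.normSq_eq_norm_sq, hsing x hx]; norm_num
  -- Step 1
  have hNZ : N ⊓ Subgroup.center G = ⊥ := by
    rw [eq_bot_iff]
    intro z hz
    rw [Subgroup.mem_bot]
    by_contra hz1
    have h1 := hsing z (hsingN z hz.1 hz1)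
    have h2 := hzen z hz.2
    rw [h1] at h2
    have : n = 1 := by exact_mod_cast h2.symm
    exact hn1 this
  -- Step 2
  have hstep2 : ∀ c ∈ Subgroup.centralizer (N : Set G), (∃ k : ℕ, orderOf c = p ^ k) → c ∈ N := by
    intro c hc hk
    obtain ⟨k, hk⟩ := hk
    set A : Subgroup G := N ⊔ Subgroup.zpowers c with hA
    have hAcomm : ∀ a ∈ A, ∀ b ∈ A, a * b = b * a := sup_zpowers_comm N hcomm c hc
    have hzp : IsPGroup p (Subgroup.zpowers c) := by
      rw [IsPGroup.iff_card]
      exact ⟨k, by rw [Nat.card_zpowers, hk]⟩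
    have hAp : IsPGroup p A := IsPGroup.to_sup_of_normal_left hNp hzp
    have hge := Cfsg.Agent.Lib.Helper83.comm_subgroup_sum_normSq_ge hchar A hAcomm
    have hsum : ∑ a : A, Complex.normSq (ρ.character a) = (n : ℝ) ^ 2 + ((Nat.card A : ℝ) - 1) := by
      rw [← Finset.add_sum_erase Finset.univ _ (Finset.mem_univ (1 : A))]
      congr 1
      · rw [Subgroup.coe_one, hχ1, Complex.normSq_eq_norm_sq]; simp
      · rw [Finset.sum_congr rfl (g := fun _ => (1 : ℝ))]
        · rw [Finset.sum_const, Finset.card_erase_of_mem (Finset.mem_univ _), Finset.card_univ,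
            ← Nat.card_eq_fintype_card, nsmul_eq_mul, mul_one, Nat.cast_sub Nat.card_pos]
          simp
        · intro a ha
          have ha1 : a ≠ 1 := Finset.ne_of_mem_erase ha
          obtain ⟨j, hj⟩ := hAp a
          have hj' : (a : G) ^ p ^ j = 1 := by
            have := congrArg Subtype.val hj
            simpa using this
          have ha1' : (a : G) ≠ 1 := fun h => ha1 (Subtype.ext h)
          exact hone _ (dvd_orderOf_of_pow_eq_one hp hj' ha1')
    rw [hsum, hχ1] at hge
    simp only [Complex.natCast_re] at hge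
    have hApos : (1 : ℝ) ≤ (Nat.card A : ℝ) := by
      have : 1 ≤ Nat.card A := Nat.card_pos
      exact_mod_cast this
    have hcardA : (Nat.card A : ℝ) ≤ (n : ℝ) + 1 := by
      by_contra hcon
      push Not at hcon
      nlinarith
    have hcardA' : Nat.card A ≤ Nat.card N := by
      rw [hcardN]; exact_mod_cast hcardA
    have hAN : N = A := Subgroup.eq_of_le_of_card_ge le_sup_left hcardA'
    rw [hAN]
    exact (le_sup_right : Subgroup.zpowers c ≤ A) (Subgroup.mem_zpowers c)
  -- Step 3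
  have hstep3 : ∀ g ∈ Subgroup.centralizer (N : Set G), (orderOf g).Coprime p →
      g ∈ Subgroup.center G := by
    intro g hg hco
    set m := orderOf g with hm
    have hmpos : 0 < m := orderOf_pos g
    set A : Subgroup G := N ⊔ Subgroup.zpowers g with hA
    have hAcomm : ∀ a ∈ A, ∀ b ∈ A, a * b = b * a := sup_zpowers_comm N hcomm g hg
    have hge := Cfsg.Agent.Lib.Helper83.comm_subgroup_sum_normSq_ge hchar A hAcomm
    rw [hχ1] at hge
    simp only [Complex.natCast_re] at hge
    -- card A ≥ (n+1) * m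
    have hcardA : (n + 1) * m ≤ Nat.card A := by
      have h1 : Nat.card N ∣ Nat.card A := Subgroup.card_dvd_of_le le_sup_left
      have h2 : m ∣ Nat.card A := by
        have := Subgroup.card_dvd_of_le (le_sup_right : Subgroup.zpowers g ≤ A)
        rwa [Nat.card_zpowers] at this
      obtain ⟨e, he⟩ := IsPGroup.iff_card.mp hNp
      have hcop : (Nat.card N).Coprime m := by
        rw [he]; exact (Nat.Coprime.pow_left e hco.symm)
      have h3 : Nat.card N * m ∣ Nat.card A := Nat.Coprime.mul_dvd_of_dvd_of_dvd hcop h1 h2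
      rw [hcardN] at h3
      exact Nat.le_of_dvd Nat.card_pos h3
    have hcardA' : ((n : ℝ) + 1) * (m : ℝ) ≤ (Nat.card A : ℝ) := by exact_mod_cast hcardA
    -- finsets
    set F : G → ℝ := fun x => Complex.normSq (ρ.character x) with hF
    set As : Finset G := Finset.univ.filter (· ∈ A) with hAs
    set Zs : Finset G := Finset.univ.filter (· ∈ Subgroup.zpowers g) with hZs
    have hZA : Zs ⊆ As := by
      intro x hx
      rw [hZs, Finset.mem_filter] at hx
      rw [hAs, Finset.mem_filter]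
      exact ⟨Finset.mem_univ _, (le_sup_right : Subgroup.zpowers g ≤ A) hx.2⟩
    have hsumA : ∑ a : A, Complex.normSq (ρ.character a) = ∑ x ∈ As, F x := by
      rw [Finset.sum_subtype As (p := (· ∈ A)) (fun x => by simp [hAs]) F]
    have hcardAs : As.card = Nat.card A := by
      rw [Nat.card_eq_fintype_card, Fintype.card_subtype]
    have hcardZs : Zs.card = m := by
      rw [hm, ← Nat.card_zpowers, Nat.card_eq_fintype_card, Fintype.card_subtype]
    have hsplit : ∑ x ∈ As, F x = ∑ x ∈ As \ Zs, F x + ∑ x ∈ Zs, F x :=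
      (Finset.sum_sdiff hZA).symm
    have hsd : ∑ x ∈ As \ Zs, F x = ((As \ Zs).card : ℝ) := by
      rw [Finset.sum_congr rfl (g := fun _ => (1 : ℝ))]
      · simp
      · intro x hx
        rw [Finset.mem_sdiff] at hx
        have hxA : x ∈ A := by
          have := hx.1; rw [hAs, Finset.mem_filter] at this; exact this.2
        have hxZ : x ∉ Subgroup.zpowers g := by
          intro h; apply hx.2; rw [hZs, Finset.mem_filter]; exact ⟨Finset.mem_univ _, h⟩
        -- x = a * y
        have hmem : x ∈ ((N ⊔ Subgroup.zpowers g : Subgroup G) : Set G) := hxA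
        rw [Subgroup.normal_mul, Set.mem_mul] at hmem
        obtain ⟨a, ha, y, hy, rfl⟩ := hmem
        have ha1 : a ≠ 1 := by
          intro h; apply hxZ; rw [h, one_mul]; exact hy
        have hya : Commute a y := by
          have hyc : y ∈ Subgroup.centralizer (N : Set G) :=
            (Subgroup.zpowers_le.mpr hg) hy
          exact (Subgroup.mem_centralizer_iff.mp hyc a ha)
        have hoy : orderOf y ∣ m := by
          obtain ⟨i, rfl⟩ := Subgroup.mem_zpowers_iff.mp hy
          exact orderOf_dvd_of_pow_eq_one (by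
            rw [← zpow_natCast, ← zpow_mul, mul_comm, zpow_mul, zpow_natCast, hm,
              pow_orderOf_eq_one, one_zpow])
        obtain ⟨k, hk⟩ := hNp ⟨a, ha⟩
        have hk' : a ^ p ^ k = 1 := by
          have := congrArg Subtype.val hk
          simpa using this
        have hoa : orderOf a ∣ p ^ k := orderOf_dvd_of_pow_eq_one hk'
        have hcop : (orderOf a).Coprime (orderOf y) := by
          apply Nat.Coprime.coprime_dvd_left hoa
          apply Nat.Coprime.coprime_dvd_right hoy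
          exact Nat.Coprime.pow_left k hco.symm
        have hord := hya.orderOf_mul_eq_mul_orderOf_of_coprime hcop
        apply hone
        rw [hord]
        exact Dvd.dvd.mul_right (dvd_orderOf_of_pow_eq_one hp hk' ha1) _
    have hcardsd : ((As \ Zs).card : ℝ) = (Nat.card A : ℝ) - (m : ℝ) := by
      have := Finset.card_sdiff_add_card_eq_card hZA
      rw [hcardAs, hcardZs] at this
      have h2 : ((As \ Zs).card : ℝ) + (m : ℝ) = (Nat.card A : ℝ) := by exact_mod_cast this
      linarith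
    have hgZ : g ∈ Zs := by
      rw [hZs, Finset.mem_filter]; exact ⟨Finset.mem_univ _, Subgroup.mem_zpowers g⟩
    have hZsum : ∑ x ∈ Zs, F x ≤ F g + ((m : ℝ) - 1) * (n : ℝ) ^ 2 := by
      rw [← Finset.add_sum_erase Zs F hgZ]
      have h1 : ∑ x ∈ Zs.erase g, F x ≤ (Zs.erase g).card • ((n : ℝ) ^ 2) :=
        Finset.sum_le_card_nsmul _ _ _ (fun x _ => hleSq x)
      rw [Finset.card_erase_of_mem hgZ, hcardZs, nsmul_eq_mul, Nat.cast_sub hmpos] at h1
      simp only [Nat.cast_one] at h1
      linarith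
    rw [hsumA, hsplit, hsd, hcardsd] at hge
    have hFg : (n : ℝ) ^ 2 ≤ F g := by
      have hm1 : (1 : ℝ) ≤ (m : ℝ) := by exact_mod_cast hmpos
      nlinarith [mul_nonneg (sub_nonneg.mpr hcardA') (by linarith : (0 : ℝ) ≤ (n : ℝ) - 1)]
    have hFg' : F g = (n : ℝ) ^ 2 := le_antisymm (hleSq g) hFg
    apply hcen
    rw [hF] at hFg'
    simp only at hFg'
    rw [Complex.normSq_eq_norm_sq] at hFg'
    exact (sq_eq_sq₀ (norm_nonneg _) (Nat.cast_nonneg n)).mp hFg'
  refine ⟨?_, hNZ⟩
  apply le_antisymm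
  · intro c hc
    obtain ⟨y1, y2, hy, _, hy1, hy2, hk, hco⟩ :=
      Cfsg.Agent.Lib.Helper74.CR2.exists_pParts p c
    have hzc : Subgroup.zpowers c ≤ Subgroup.centralizer (N : Set G) := Subgroup.zpowers_le.mpr hc
    rw [← hy]
    exact Subgroup.mul_mem_sup (hstep2 y1 (hzc hy1) hk) (hstep3 y2 (hzc hy2) hco)
  · apply sup_le
    · intro a ha
      rw [Subgroup.mem_centralizer_iff]
      intro b hb
      exact hcomm b hb a ha
    · exact Subgroup.center_le_centralizer _

end Cfsg.Agent.Lib.Helper34.S4751H
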