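import Mathlib
import Cfsg.Prelude.Def_GeometricClasses
import Cfsg.Agent.Lib.Helper87.SU3Defs
import Cfsg.Agent.Lib.Helper49.SubfieldGrp

/-!
# K-SU3-B1 : elements of the standard subfield group (`|F| = 25`, `|F₀| = 5`) are `c • A`, `A` over the
prime field; `diag(ω, ω², 1)` is not of this shape.
-/

set_option autoImplicit false
set_option linter.style.haveILetI false
set_option linter.unusedSectionVars false
set_option linter.unusedVariables false

namespace Cfsg.Agent.Lib.Helper34.SU3K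

open Cfsg Cfsg.Geo Matrix Cfsg.Agent.Lib.Helper87.SU3

variable {F : Type*} [Field F] [Fintype F]

local notation "M3" => Matrix (Fin 3) (Fin 3) F
local notation "G3" => GL (Fin 3) F

theorem pow_five_of_mem (hF : Fintype.card F = 25) (F₀ : Subfield F)
    (hF₀ : Fintype.card F = Nat.card F₀ ^ 2) (x : F) (hx : x ∈ F₀) : x ^ 5 = x := by
  classical
  haveI : Fintype ↥F₀ := Fintype.ofFinite _
  have h5 : Fintype.card ↥F₀ = 5 := by
    rw [← Nat.card_eq_fintype_card]
    rw [hF] at hF₀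
    have : Nat.card ↥F₀ ^ 2 = 5 ^ 2 := by rw [← hF₀]; norm_num
    exact Nat.pow_left_injective (by norm_num : 2 ≠ 0) this
  have h1 := FiniteField.pow_card (⟨x, hx⟩ : ↥F₀)
  rw [h5] at h1
  have h2 := congrArg (fun y : ↥F₀ => (y : F)) h1
  simpa using h2

/-- K-SU3-B1. -/
theorem stdSubfield_facts (hF : Fintype.card F = 25) (F₀ : Subfield F)
    (hF₀ : Fintype.card F = Nat.card F₀ ^ 2) :
    (∀ g ∈ subfieldSubgroup F₀ (1 : G3), ∃ (c : F) (A : M3),
      (∀ i j, A i j ^ 5 = A i j) ∧ (g : M3) = c • A) ∧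
    (∀ (ω : F), ω ^ 2 + ω + 1 = 0 → ∀ g : G3, (g : M3) = dg5 ω →
      g ∉ subfieldSubgroup F₀ (1 : G3)) := by
  classical
  have hi : ∀ g ∈ subfieldSubgroup F₀ (1 : G3), ∃ (c : F) (A : M3),
      (∀ i j, A i j ^ 5 = A i j) ∧ (g : M3) = c • A := by
    intro g hg
    rw [Cfsg.Agent.Lib.Helper49.mem_subfieldSubgroup_one_iff] at hg
    obtain ⟨A, ⟨A₀, rfl⟩, c, hc⟩ := hg
    refine ⟨(c : F), _, ?_, hc⟩
    intro i j
    apply pow_five_of_mem hF F₀ hF₀
    show ((Matrix.GeneralLinearGroup.map (F₀.subtype : F₀ →+* F) A₀ : G3) : M3) i j ∈ F₀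
    rw [Matrix.GeneralLinearGroup.map_apply]
    exact (A₀.1 i j).2
  refine ⟨hi, ?_⟩
  intro ω hω g hg hmem
  obtain ⟨c, A, hA, hgA⟩ := hi g hmem
  rw [hg] at hgA
  have h00 : ω = c * A 0 0 := by
    have := congrFun (congrFun hgA 0) 0
    simpa [dg5] using this
  have h22 : (1 : F) = c * A 2 2 := by
    have := congrFun (congrFun hgA 2) 2
    simpa [dg5] using this
  have hc0 : c ≠ 0 := by
    intro h
    rw [h, zero_mul] at h22
    exact one_ne_zero h22
  have hA22 : A 2 2 ≠ 0 := by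
    intro h
    rw [h, mul_zero] at h22
    exact one_ne_zero h22
  -- ω = A00 / A22
  have hω' : ω = A 0 0 * (A 2 2)⁻¹ := by
    have hc' : c = (A 2 2)⁻¹ := by
      field_simp
      rw [← h22]
    rw [h00, hc']
    ring
  have hω5 : ω ^ 5 = ω := by
    rw [hω', mul_pow, inv_pow, hA 0 0, hA 2 2]
  -- ω^3 = 1
  have hω3 : ω ^ 3 = 1 := by
    have : ω ^ 3 - 1 = (ω - 1) * (ω ^ 2 + ω + 1) := by ring
    rw [hω, mul_zero] at this
    exact sub_eq_zero.mp this
  have hω2 : ω ^ 2 = ω := by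
    have : ω ^ 5 = ω ^ 3 * ω ^ 2 := by ring
    rw [this, hω3, one_mul] at hω5
    exact hω5
  -- char 5
  have h5 : (5 : F) = 0 := by
    have h1 : ((Fintype.card F : ℕ) : F) = 0 := Nat.cast_card_eq_zero F
    rw [hF] at h1
    have h2 : (5 : F) ^ 2 = 0 := by
      have : ((25 : ℕ) : F) = (5 : F) ^ 2 := by norm_num
      rw [← this]
      exact h1
    exact (pow_eq_zero_iff (two_ne_zero)).mp h2
  have hω0 : ω ≠ 0 := by
    intro h
    rw [h] at hω
    simp at hω
  have hω1 : ω = 1 := by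
    have : ω * ω = ω * 1 := by rw [mul_one, ← pow_two]; exact hω2
    exact mul_left_cancel₀ hω0 this
  rw [hω1] at hω
  have h3 : (3 : F) = 0 := by
    have : (1 : F) ^ 2 + 1 + 1 = 3 := by norm_num
    rw [← this]; exact hω
  have : (1 : F) = 0 := by
    have : (1 : F) = 2 * 3 - 5 := by norm_num
    rw [this, h3, h5]; ring
  exact one_ne_zero this

end Cfsg.Agent.Lib.Helper34.SU3K
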