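import Mathlib
import Cfsg.Prelude.Def_GeometricClasses
import Cfsg.Agent.Lib.Helper87.SU3Defs
import Cfsg.Agent.Lib.Helper63.SUMaxN6

/-!
# K-SU3-N6 : `SU_3(p)`, `p ≥ 11`, `p % 3 = 2`, does not normalise an absolutely irreducible group of
order 27
-/

set_option autoImplicit false
set_option linter.style.haveILetI false
set_option linter.unusedSectionVars false
set_option linter.unusedVariables false

namespace Cfsg.Agent.Lib.Helper34.SU3K

open Cfsg Cfsg.Geo Matrix Cfsg.Agent.Lib.Helper87.SU3 Cfsg.Agent.Lib.Helper08 Cfsg.Agent.Lib.Helper51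

variable {F : Type*} [Field F] [Fintype F]

local notation "M3" => Matrix (Fin 3) (Fin 3) F
local notation "G3" => GL (Fin 3) F

theorem qrefl_pow' {q : ℕ} (hF : Fintype.card F = q ^ 2) (d : Fin 3 → F)
    (hd : hform (Fin 3) F q d d = 0) (c : F) (j : ℕ) :
    qrefl q d c ^ j = qrefl q d ((j : F) * c) := by
  induction j with
  | zero => rw [pow_zero, Nat.cast_zero, zero_mul, qrefl_zero]
  | succ j ih =>
    rw [pow_succ, ih, qrefl_mul_same hF d hd]
    congr 1
    push_cast
    ring

theorem arith_aux (d : ℕ) (h26 : d ≤ 26) (h11 : 11 ≤ d) (h3 : d % 3 = 2) (hne : d ≠ 26) :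
    ¬ (d ∣ 26 ∨ d ∣ 24 ∨ d ∣ 18) := by
  interval_cases d <;> omega

/-- K-SU3-N6. -/
theorem su3_not_le_subgroupNormalizer (p : ℕ) (hp : p.Prime) (h11 : 11 ≤ p) (hp3 : p % 3 = 2)
    (hF : Fintype.card F = p ^ 2) (R : Subgroup G3) (habs : ActsAbsolutelyIrreducibly (matrixSet R))
    (hcard : Nat.card R = 27) : ¬ SU3 F p ≤ subgroupNormalizer R := by
  classical
  intro hle
  haveI : Fact p.Prime := ⟨hp⟩
  have hchar : (p : F) = 0 := by
    have h1 : ((Fintype.card F : ℕ) : F) = 0 := Nat.cast_card_eq_zero F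
    rw [hF] at h1
    push_cast at h1
    exact (pow_eq_zero_iff (two_ne_zero)).mp h1
  obtain ⟨s, hs0, hs⟩ := exists_skew_ne_zero hF
  -- an isotropic nonzero vector
  have he0 : (Pi.single (0 : Fin 3) (1 : F) : Fin 3 → F) ≠ 0 := by
    intro h
    have := congrFun h 0
    simp at this
  obtain ⟨z, hzz, hze, -⟩ := exists_isotropic_two hF (by norm_num : 2 ≤ 3) _ _ he0 he0
  have hz0 : z ≠ 0 := by
    intro h
    apply hze
    rw [h]
    simp [hform]
  obtain ⟨x, -, hxz, -⟩ := exists_isotropic_two hF (by norm_num : 2 ≤ 3) z z hz0 hz0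
  -- the transvection
  have hti : IsIsoMat p (qrefl p z s) := qrefl_iso_skew hF z hzz s hs
  obtain ⟨t, htv⟩ : ∃ t : G3, (t : M3) = qrefl p z s := ⟨(hti.isUnit hF).unit, rfl⟩
  have htSU : t ∈ GU 3 F p ⊓ specialLinear (Fin 3) F :=
    (mem_GUSL_iff t).mpr ⟨by rw [htv]; exact hti, by rw [htv, det_qrefl', hzz, mul_zero, add_zero]⟩
  have htN : t ∈ Subgroup.normalizer (R : Set G3) := hle htSU
  have htp : t ^ p = 1 := by
    apply Units.ext
    rw [Units.val_pow_eq_pow_val, htv, qrefl_pow' hF z hzz, hchar, zero_mul, qrefl_zero]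
    rfl
  -- the action by conjugation
  haveI : Finite ↥R := Nat.finite_of_card_ne_zero (by rw [hcard]; norm_num)
  haveI : Fintype ↥R := Fintype.ofFinite _
  let f : Function.End ↥R := fun x => ⟨t * x * t⁻¹, (Subgroup.mem_normalizer_iff.mp htN x).mp x.2⟩
  have hfk : ∀ (k : ℕ) (x : ↥R), (((f ^ k) x : ↥R) : G3) = t ^ k * x * (t ^ k)⁻¹ := by
    intro k
    induction k with
    | zero =>
      intro x
      rw [pow_zero, pow_zero, inv_one, mul_one, one_mul]
      rfl
    | succ k ih =>
      intro x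
      rw [pow_succ']
      show ((f ((f ^ k) x) : ↥R) : G3) = _
      show t * (((f ^ k) x : ↥R) : G3) * t⁻¹ = _
      rw [ih x, pow_succ']
      group
  have hfp : f ^ p ^ 1 = 1 := by
    rw [pow_one]
    funext x
    apply Subtype.ext
    rw [hfk p x, htp, inv_one, mul_one, one_mul]
    rfl
  have hmod := Equiv.Perm.card_fixedPoints_modEq (p := p) (n := 1) hfp
  -- the fixed points form a subgroup
  let C : Subgroup ↥R := (Subgroup.centralizer ({t} : Set G3)).subgroupOf R
  have hfix : Fintype.card (Function.fixedPoints f) = Nat.card ↥C := by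
    rw [← Nat.card_eq_fintype_card]
    apply Nat.card_congr
    refine Equiv.subtypeEquivRight ?_
    intro x
    show f x = x ↔ x ∈ C
    rw [Subgroup.mem_subgroupOf, Subgroup.mem_centralizer_iff]
    constructor
    · intro h y hy
      rw [Set.mem_singleton_iff] at hy
      rw [hy]
      have h1 : t * (x : G3) * t⁻¹ = x := congrArg Subtype.val h
      rw [mul_inv_eq_iff_eq_mul] at h1
      exact h1
    · intro h
      apply Subtype.ext
      show t * (x : G3) * t⁻¹ = x
      rw [mul_inv_eq_iff_eq_mul]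
      exact h t rfl
  have hdvd : Nat.card ↥C ∣ 27 := by
    rw [← hcard]
    exact Subgroup.card_subgroup_dvd_card C
  rw [hfix, ← Nat.card_eq_fintype_card, hcard] at hmod
  have hno : ∀ d : ℕ, d ∣ 26 ∨ d ∣ 24 ∨ d ∣ 18 → 11 ≤ d → d % 3 = 2 → d ≠ 26 → False := by
    intro d hd hd11 hd3 hd26
    have hle26 : d ≤ 26 := by
      rcases hd with h | h | h
      · exact Nat.le_of_dvd (by norm_num) h
      · exact (Nat.le_of_dvd (by norm_num) h).trans (by norm_num)
      · exact (Nat.le_of_dvd (by norm_num) h).trans (by norm_num)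
    exact arith_aux d hle26 hd11 hd3 hd26 hd
  have hp26 : p ≠ 26 := by
    intro h
    rw [h] at hp
    exact absurd hp (by norm_num)
  have hC27 : Nat.card ↥C = 27 := by
    have h27 : (27 : ℕ) = 3 ^ 3 := by norm_num
    rw [h27] at hdvd
    obtain ⟨k, hk, hck⟩ := (Nat.dvd_prime_pow Nat.prime_three).mp hdvd
    have hmod' := (Nat.modEq_iff_dvd' (by
      rw [hck]; calc 3 ^ k ≤ 3 ^ 3 := Nat.pow_le_pow_right (by norm_num) hk
        _ = 27 := by norm_num)).mp hmod.symm
    rw [hck] at hmod' ⊢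
    interval_cases k
    · -- p ∣ 26
      exfalso
      have h1 : p ∣ 26 := by simpa using hmod'
      exact hno p (Or.inl h1) h11 hp3 hp26
    · exfalso
      have h1 : p ∣ 24 := by simpa using hmod'
      exact hno p (Or.inr (Or.inl h1)) h11 hp3 hp26
    · exfalso
      have h1 : p ∣ 18 := by simpa using hmod'
      exact hno p (Or.inr (Or.inr h1)) h11 hp3 hp26
    · norm_num
  have hCtop : C = ⊤ := by
    apply Subgroup.eq_top_of_card_eq
    rw [hC27, hcard]
  -- `t` commutes with `R`, hence is scalar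
  have hcomm : ∀ g ∈ R, t * g = g * t := by
    intro g hg
    have h1 : (⟨g, hg⟩ : ↥R) ∈ C := by rw [hCtop]; exact Subgroup.mem_top _
    rw [Subgroup.mem_subgroupOf, Subgroup.mem_centralizer_iff] at h1
    exact (h1 t rfl)
  obtain ⟨c, hc⟩ := habs.2 (t : M3) (by
    rintro m ⟨g, hg, rfl⟩
    have h1 := congrArg (fun y : G3 => (y : M3)) (hcomm g hg)
    simpa only [Units.val_mul] using h1)
  -- contradiction
  have h1 : (t : M3) *ᵥ z = z := by
    rw [htv, qrefl_mulVec, hzz, mul_zero, zero_smul, add_zero]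
  have hc1 : c = 1 := by
    rw [hc, Matrix.smul_mulVec, Matrix.one_mulVec] at h1
    obtain ⟨i, hi⟩ : ∃ i, z i ≠ 0 := by
      by_contra h
      push Not at h
      exact hz0 (funext h)
    have h2 := congrFun h1 i
    simp only [Pi.smul_apply, smul_eq_mul] at h2
    exact mul_right_cancel₀ hi (by rw [h2, one_mul])
  have h2 : (t : M3) *ᵥ x = x := by
    rw [hc, hc1, one_smul, Matrix.one_mulVec]
  rw [htv, qrefl_mulVec] at h2
  have h3 : (s * hform (Fin 3) F p x z) • z = 0 := by
    have := congrArg (fun w => w - x) h2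
    simpa using this
  rcases smul_eq_zero.mp h3 with h4 | h4
  · exact (mul_ne_zero hs0 hxz) h4
  · exact hz0 h4

end Cfsg.Agent.Lib.Helper34.SU3K
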