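import Cfsg.Agent.Lib.Helper34.SibleyMerge
import Cfsg.Agent.Lib.Helper34.KerSum
import Cfsg.Agent.Lib.Helper34.FeitCrit
import Cfsg.Agent.Lib.Helper34.FrobCoh
import Cfsg.Agent.S1532
import Cfsg.Agent.S1535
import Cfsg.Agent.Lib.Helper59.PGroupCenter
import Cfsg.Agent.Lib.Helper82.CharSchur

/-!
# The exceptional case of Sibley's coherence theorem (helper34)
-/

set_option autoImplicit false

namespace Cfsg.Agent.Lib.Helper34

open scoped ComplexConjugate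
open Cfsg
open Cfsg.Agent.Lib.Helper05 (classInner_irr classInner_irr_self classInner_irr_ne exists_pos_degree)

section Restrict

variable {L : Type*} [Group L] [Fintype L]

/-- **Restriction lemma.** If the multiplicities of a generalized character `r` of `L` in the
irreducible characters not trivial on `Z` are proportional to the degrees (`⟨r, η⟩ = κ η(1)`), then
`r(1) - r(z) = κ |L|` for every `1 ≠ z ∈ Z`. -/
theorem restrict_diff (Z : Subgroup L) (r : L → ℂ) (hr : IsGeneralizedCharacter L r) (κ : ℂ)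
    (hκ : ∀ η : L → ℂ, IsIrrCharacter L η → (∃ z ∈ Z, η z ≠ η 1) → classInner r η = κ * η 1)
    (z : L) (hz : z ∈ Z) (hz1 : z ≠ 1) : r 1 - r z = κ * (Nat.card L : ℂ) := by
  classical
  haveI : Fintype (IrrCharacter L) := Fintype.ofFinite _
  obtain ⟨c, hc⟩ := exists_int_coeff hr
  have hcoef : ∀ ψ : IrrCharacter L, classInner r (ψ : L → ℂ) = c ψ := by
    intro ψ
    rw [hc, Helper83.classInner_sum_irr_left]
  have hterm : ∀ ψ : IrrCharacter L, (c ψ : ℂ) * ((ψ : L → ℂ) 1 - (ψ : L → ℂ) z) =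
      κ * ((ψ : L → ℂ) 1 * (ψ : L → ℂ) 1 - (ψ : L → ℂ) 1 * (ψ : L → ℂ) z) := by
    intro ψ
    by_cases h : (ψ : L → ℂ) z = (ψ : L → ℂ) 1
    · rw [h]; ring
    · have := hκ (ψ : L → ℂ) ψ.2 ⟨z, hz, h⟩
      rw [hcoef] at this
      rw [this]; ring
  have h1 : r 1 - r z = ∑ ψ : IrrCharacter L, (c ψ : ℂ) * ((ψ : L → ℂ) 1 - (ψ : L → ℂ) z) := by
    conv_lhs => rw [hc]
    simp only [Finset.sum_apply, Pi.smul_apply, smul_eq_mul]
    rw [← Finset.sum_sub_distrib]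
    apply Finset.sum_congr rfl
    intro ψ _
    ring
  rw [h1, Finset.sum_congr rfl (fun ψ _ => hterm ψ), ← Finset.mul_sum, Finset.sum_sub_distrib,
    Helper83.sum_irr_degree_mul z, if_neg hz1, sub_zero]
  congr 1
  have := Helper83.sum_irr_degree_sq (G := L)
  rw [← this]
  apply Finset.sum_congr rfl
  intro ψ _
  ring

end Restrict

section Add

variable {L : Type*} [Group L] [Fintype L] {G : Type*} [Group G] [Fintype G]

/-- **Adding the remaining characters by Feit's criterion.** If `T ⊆ S` is coherent, `ψ ∈ T`, and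
every `χ ∈ S ∖ T` satisfies `d ψ ∣ d χ` and `2 d ψ d χ < ∑_{ξ ∈ T} d ξ ²`, then `S` is coherent. -/
theorem coherent_of_subset_add (S : Set (L → ℂ)) (hSfin : S.Finite)
    (hirr : ∀ χ ∈ S, IsIrrCharacter L χ) (τ : (L → ℂ) → (G → ℂ))
    (hτ : IsLinearIsometryOn (zspanOn S ({1}ᶜ : Set L)) τ)
    (hτ1 : ∀ α ∈ zspanOn S ({1}ᶜ : Set L), τ α 1 = 0)
    (Tf : Finset (L → ℂ)) (hTS : (↑Tf : Set (L → ℂ)) ⊆ S)
    (hT : IsCoherent (↑Tf : Set (L → ℂ)) ({1}ᶜ : Set L) τ)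
    (d : (L → ℂ) → ℕ) (hd : ∀ ξ ∈ S, ξ 1 = (d ξ : ℂ))
    (ψ : L → ℂ) (hψ : ψ ∈ Tf)
    (hadd : ∀ χ ∈ S, χ ∉ Tf → d ψ ∣ d χ ∧ 2 * d ψ * d χ < ∑ ξ ∈ Tf, d ξ ^ 2) :
    IsCoherent S ({1}ᶜ : Set L) τ := by
  classical
  obtain ⟨Sf, hSfcoe⟩ : ∃ Sf : Finset (L → ℂ), (Sf : Set (L → ℂ)) = S :=
    ⟨hSfin.toFinset, Set.Finite.coe_toFinset _⟩
  let P : Finset (L → ℂ) → Prop := fun S₁ => Tf ⊆ S₁ ∧ IsCoherent (↑S₁ : Set (L → ℂ)) {1}ᶜ τ
  have hTcand : Tf ∈ Sf.powerset.filter P := by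
    rw [Finset.mem_filter, Finset.mem_powerset]
    refine ⟨?_, subset_refl _, hT⟩
    intro φ hφ
    rw [← Finset.mem_coe, hSfcoe]
    exact hTS (Finset.mem_coe.mpr hφ)
  obtain ⟨S₁, hS₁mem, hS₁max⟩ :=
    Finset.exists_max_image (Sf.powerset.filter P) Finset.card ⟨Tf, hTcand⟩
  rw [Finset.mem_filter, Finset.mem_powerset] at hS₁mem
  obtain ⟨hS₁sub, hTS₁, hS₁coh⟩ := hS₁mem
  have hS₁S : (↑S₁ : Set (L → ℂ)) ⊆ S := by
    intro φ hφ
    rw [← hSfcoe]
    exact Finset.mem_coe.mpr (hS₁sub (Finset.mem_coe.mp hφ))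
  have hle : ∑ φ ∈ Tf, d φ ^ 2 ≤ ∑ φ ∈ S₁, d φ ^ 2 := Finset.sum_le_sum_of_subset hTS₁
  have hclaim : S ⊆ (↑S₁ : Set (L → ℂ)) := by
    intro χ hχS
    by_contra hχ₁'
    have hχ₁ : χ ∉ S₁ := fun h => hχ₁' (Finset.mem_coe.mpr h)
    have hχT : χ ∉ Tf := fun h => hχ₁ (hTS₁ h)
    obtain ⟨hdvd, hineq0⟩ := hadd χ hχS hχT
    have hineq : 2 * d ψ * d χ < ∑ φ ∈ S₁, d φ ^ 2 := lt_of_lt_of_le hineq0 hle
    have hins_sub : (↑(insert χ S₁) : Set (L → ℂ)) ⊆ S := by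
      intro φ hφ
      rw [Finset.coe_insert, Set.mem_insert_iff] at hφ
      rcases hφ with rfl | hφ
      · exact hχS
      · exact hS₁S hφ
    have hmono : zspanOn (↑(insert χ S₁) : Set (L → ℂ)) ({1}ᶜ : Set L) ⊆
        zspanOn S ({1}ᶜ : Set L) :=
      fun x hx => ⟨zspan_mono hins_sub hx.1, hx.2⟩
    have hnew := feit_criterion S₁ χ (fun ξ hξ => hirr ξ (hS₁S (Finset.mem_coe.mpr hξ)))
      (hirr χ hχS) hχ₁ d (fun ξ hξ => hd ξ (hins_sub (Finset.mem_coe.mpr hξ))) τ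
      (LIO.mono hτ hmono) (fun α hα => hτ1 α (hmono hα)) hS₁coh ψ (hTS₁ hψ) hdvd hineq
    have hS₂cand : insert χ S₁ ∈ Sf.powerset.filter P := by
      rw [Finset.mem_filter, Finset.mem_powerset]
      refine ⟨?_, ?_, hnew⟩
      · intro φ hφ
        rw [← Finset.mem_coe, hSfcoe]
        exact hins_sub (Finset.mem_coe.mpr hφ)
      · intro φ hφ
        exact Finset.mem_insert_of_mem (hTS₁ hφ)
    have hcard : S₁.card < (insert χ S₁).card := by
      rw [Finset.card_insert_of_notMem hχ₁]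
      exact Nat.lt_succ_self _
    exact absurd (hS₁max _ hS₂cand) (not_le.mpr hcard)
  apply Cfsg.Agent.S1519.isCoherent_subset τ hclaim hS₁coh
  obtain ⟨α, hα, hα0⟩ := hT.1
  exact ⟨α, ⟨zspan_mono hTS hα.1, hα.2⟩, hα0⟩

end Add

section Assembly

variable {G : Type*} [Group G] [Fintype G] (N : Subgroup G) [Fintype N] (KN : Subgroup N)
  [hKN : KN.Normal]

/-- `N` has odd order when `KN` is a non-abelian Frobenius kernel -/
theorem odd_card_of_frob (p : ℕ) [hp : Fact p.Prime] (hp2 : p ≠ 2) (hKp : IsPGroup p KN)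
    (hna : ¬ ∀ a ∈ KN, ∀ b ∈ KN, a * b = b * a)
    (hC : ∀ k ∈ KN, k ≠ 1 → Subgroup.centralizer ({k} : Set N) ≤ KN) : Odd (Nat.card N) := by
  by_contra h
  rw [Nat.not_odd_iff_even] at h
  haveI : Fact (Nat.Prime 2) := ⟨Nat.prime_two⟩
  obtain ⟨t, ht⟩ := exists_prime_orderOf_dvd_card' (G := N) 2 h.two_dvd
  have htt : t * t = 1 := by
    have := pow_orderOf_eq_one t
    rw [ht, sq] at this
    exact this
  apply hna
  apply Cfsg.Agent.S1532.comm_of_fpf_involution KN t htt (fun x hx => hKN.conj_mem x hx t)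
  intro x hx hfix
  by_contra hx1
  have htK : t ∈ KN := by
    apply hC x hx hx1
    rw [Subgroup.mem_centralizer_iff]
    intro c hc
    rw [Set.mem_singleton_iff] at hc
    subst hc
    calc c * t = (t * c * t⁻¹)⁻¹⁻¹ * t := by rw [hfix]; group
      _ = t * c := by rw [inv_inv]; group
  obtain ⟨j, hj⟩ := hKp ⟨t, htK⟩
  have h1 : t ^ (p ^ j) = 1 := by
    have := congrArg Subtype.val hj
    simpa using this
  have h2 : 2 ∣ p ^ j := by rw [← ht]; exact orderOf_dvd_of_pow_eq_one h1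
  have h3 : 2 ∣ p := Nat.prime_two.dvd_of_dvd_pow h2
  exact hp2 ((Nat.prime_dvd_prime_iff_eq Nat.prime_two hp.out).mp h3).symm

/-- numeric lemma for the final step -/
theorem ex_numeric {e t m zc : ℕ} (hmodd : Odd m) (hm3 : 3 ≤ m) (ht : t ^ 2 ≤ m)
    (hez : e + 1 ≤ zc) (he : 0 < e) : 2 * e * (e * t) < e * (m * (zc - 1)) := by
  have h2t : 2 * t < m := by
    by_contra h
    push Not at h
    have h1 : m ^ 2 ≤ 4 * m := by nlinarith
    have h2 : m ≤ 4 := by nlinarith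
    have h3 : m = 3 := by
      obtain ⟨k, hk⟩ := hmodd
      omega
    rw [h3] at ht h
    have : 2 ≤ t := by omega
    nlinarith
  obtain ⟨z', rfl⟩ : ∃ z', zc = z' + 1 := ⟨zc - 1, by omega⟩
  have hz' : e ≤ z' := by omega
  rw [Nat.add_sub_cancel]
  have h3 : 2 * e * t < m * z' := by
    have h4 : 2 * e * t ≤ 2 * z' * t := by nlinarith
    have h5 : 2 * z' * t < m * z' := by nlinarith
    omega
  nlinarith

/-- **The exceptional case of Sibley's theorem.** -/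
theorem ex_assembly (p : ℕ) [hp : Fact p.Prime] (hp2 : p ≠ 2) (hKp : IsPGroup p KN)
    (hsyl : ∀ x : N, (∃ j : ℕ, x ^ (p ^ j) = 1) → x ∈ KN)
    (hna : ¬ ∀ a ∈ KN, ∀ b ∈ KN, a * b = b * a)
    (hlt : KN < ⊤)
    (hC : ∀ k ∈ KN, k ≠ 1 → Subgroup.centralizer ({k} : Set N) ≤ KN)
    (hiso : ∀ α β : N → ℂ, IsClassFunction N α → IsClassFunction N β →
      (∀ x : N, x ∉ KN → α x = 0) → (∀ x : N, x ∉ KN → β x = 0) → α 1 = 0 →
      classInner (indFun N α) (indFun N β) = classInner α β)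
    (h67 : ∀ (ZN : Subgroup N), ZN.Normal → ZN ≤ KN → (∀ z ∈ ZN, ∀ k ∈ KN, z * k = k * z) →
      ∀ ψ : G → ℂ, IsIrrCharacter G ψ → ∀ a : ℂ, (∀ z ∈ ZN, z ≠ 1 → ψ ((z : N) : G) = a) →
      (∃ z ∈ ZN, z ≠ 1) → ∃ A : ℂ, IsIntegral ℤ A ∧ ψ 1 - a = (Nat.card KN : ℂ) * A) :
    IsCoherent {χ : N → ℂ | IsIrrCharacter N χ ∧ ∃ k ∈ KN, χ k ≠ χ 1} ({1}ᶜ : Set N)
      (fun α => indFun N α) := by
  classical
  have hodd := odd_card_of_frob N KN p hp2 hKp hna hC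
  haveI hnil : Group.IsNilpotent KN := hKp.isNilpotent
  have hsolv : Group.IsSolvable KN := inferInstance
  have hKne : KN ≠ ⊥ := by
    intro h
    apply hna
    intro a ha b hb
    rw [h, Subgroup.mem_bot] at ha hb
    rw [ha, hb]
  haveI : Nontrivial KN := (Subgroup.nontrivial_iff_ne_bot KN).mpr hKne
  have hH₁K : ⁅KN, KN⁆ < KN := by
    have h1 : commutator KN < ⊤ := Group.IsSolvable.commutator_lt_top_of_nontrivial KN
    rw [← Subgroup.map_subtype_commutator]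
    have h2 := (Subgroup.map_lt_map_iff_of_injective KN.subtype_injective).mpr h1
    rwa [← MonoidHom.range_eq_map, Subgroup.range_subtype] at h2
  haveI hKKn : (⁅KN, KN⁆ : Subgroup N).Normal := Subgroup.commutator_normal KN KN
  -- the central subgroup
  set ZN : Subgroup N := ⁅KN, KN⁆ ⊓ Subgroup.centralizer (KN : Set N) with hZNdef
  haveI hZNn : ZN.Normal := inferInstance
  have hZK' : ZN ≤ ⁅KN, KN⁆ := inf_le_left
  have hZK : ZN ≤ KN := hZK'.trans hH₁K.le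
  have hZc : ∀ z ∈ ZN, ∀ k ∈ KN, z * k = k * z := by
    intro z hz k hk
    have := (Subgroup.mem_inf.mp hz).2
    rw [Subgroup.mem_centralizer_iff] at this
    exact (this k hk).symm
  have hZ1 : ZN ≠ ⊥ := by
    have hcomm_ne : commutator ↥KN ≠ ⊥ := by
      intro h
      apply hna
      intro a ha b hb
      rw [commutator_def, Subgroup.commutator_eq_bot_iff_le_centralizer] at h
      have h1 : (⟨a, ha⟩ : KN) ∈ Subgroup.centralizer ((⊤ : Subgroup ↥KN) : Set ↥KN) :=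
        h (Subgroup.mem_top _)
      rw [Subgroup.mem_centralizer_iff] at h1
      have h2 := h1 ⟨b, hb⟩ (Subgroup.mem_top _)
      exact (congrArg Subtype.val h2).symm
    obtain ⟨z, hzc, hzZ, hz1⟩ :=
      Cfsg.Agent.Lib.Helper59.exists_mem_center_of_normal_ne_bot hKp (commutator ↥KN) hcomm_ne
    intro hbot
    apply hz1
    have hzmem : (z : N) ∈ ZN := by
      refine Subgroup.mem_inf.mpr ⟨coe_mem_commutator KN hzc, ?_⟩
      rw [Subgroup.mem_centralizer_iff]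
      intro k hk
      have := Subgroup.mem_center_iff.mp hzZ ⟨k, hk⟩
      exact congrArg Subtype.val this
    rw [hbot, Subgroup.mem_bot] at hzmem
    exact Subtype.ext hzmem
  obtain ⟨z₀, hz₀, hz₀1⟩ : ∃ z ∈ ZN, z ≠ 1 := by
    by_contra h
    push Not at h
    exact hZ1 ((Subgroup.eq_bot_iff_forall ZN).mpr h)
  -- the sets
  rw [Cfsg.Agent.S1535.set_eq KN hC]
  set S : Set (N → ℂ) := inducedIrrAbove KN ⊥ with hSdef
  have hSirr : ∀ χ ∈ S, IsIrrCharacter N χ := Cfsg.Agent.S1535.irrS KN hC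
  have hSfin : S.Finite := inducedIrrAbove_finite KN ⊥
  have hSrel : ∀ χ ∈ S, FrobRel KN χ := by
    rintro χ ⟨θ, hθ, hne, -, rfl⟩
    exact ind_frobRel KN hC hθ hne
  set X₁ : Set (N → ℂ) := inducedIrrAbove KN ⁅KN, KN⁆ with hX₁def
  set XZ : Set (N → ℂ) := inducedIrrAbove KN ZN with hXZdef
  set Y : Set (N → ℂ) := S \ XZ with hYdef
  have hX₁XZ : X₁ ⊆ XZ := inducedIrrAbove_anti KN hZK'
  have hXZS : XZ ⊆ S := inducedIrrAbove_anti KN bot_le
  have hX₁S : X₁ ⊆ S := hX₁XZ.trans hXZS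
  have hYS : Y ⊆ S := Set.sdiff_subset
  have hXY : Disjoint X₁ Y := by
    rw [Set.disjoint_left]
    intro φ h1 h2
    exact h2.2 (hX₁XZ h1)
  have hYeq : Y = {χ | IsIrrCharacter N χ ∧ ∃ z ∈ ZN, χ z ≠ χ 1} :=
    Cfsg.Agent.S1522.part_one KN ZN hZK (fun χ hχ => hSirr χ hχ.1)
  have hconj : ∀ χ ∈ S, Cfsg.conjFun χ ∈ S ∧ Cfsg.conjFun χ ≠ χ := by
    intro χ hχ
    refine ⟨inducedIrrAbove_conj_mem KN ⊥ hχ, ?_⟩
    intro hreal
    have h1 := Cfsg.Agent.Lib.Helper84.real_irr_eq_one_of_odd hodd ⟨χ, hSirr χ hχ⟩ (by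
      intro q
      have := congrFun hreal q
      simp only [Cfsg.conjFun] at this
      exact Complex.conj_eq_iff_im.mp this)
    obtain ⟨k, -, hk⟩ := (hSrel χ hχ).2
    apply hk
    simp only at h1
    rw [h1]
  -- the isometry
  have hprop : ∀ α ∈ Cfsg.zspan S, Cfsg.IsClassFunction N α ∧ (∀ x : N, x ∉ KN → α x = 0) ∧
      Cfsg.IsGeneralizedCharacter N α := by
    intro α hα
    refine zspan_induction (p := fun α => Cfsg.IsClassFunction N α ∧
      (∀ x : N, x ∉ KN → α x = 0) ∧ Cfsg.IsGeneralizedCharacter N α) hα ?_ ?_ ?_ ?_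
    · intro χ hχ
      have hχc := Cfsg.Agent.Lib.Helper83.isCharacter_of_irr (hSirr χ hχ)
      exact ⟨Cfsg.Agent.Lib.Helper83.char_isClassFunction hχc,
        fun x hx => (hSrel χ hχ).vanish KN hC hx, IsCharacter.isGeneralizedCharacter hχc⟩
    · exact ⟨fun g x => rfl, fun x _ => rfl, isGeneralizedCharacter_zero⟩
    · rintro a b ⟨ha1, ha2, ha3⟩ ⟨hb1, hb2, hb3⟩
      refine ⟨fun g x => ?_, fun x hx => ?_, isGeneralizedCharacter_add ha3 hb3⟩
      · show a _ + b _ = a _ + b _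
        rw [ha1 g x, hb1 g x]
      · show a x + b x = 0
        rw [ha2 x hx, hb2 x hx, add_zero]
    · rintro a ⟨ha1, ha2, ha3⟩
      refine ⟨fun g x => ?_, fun x hx => ?_, isGeneralizedCharacter_neg ha3⟩
      · show -a _ = -a _
        rw [ha1 g x]
      · show -a x = 0
        rw [ha2 x hx, neg_zero]
  have hτ : Cfsg.IsLinearIsometryOn (Cfsg.zspanOn S ({1}ᶜ : Set N)) (fun α => Cfsg.indFun N α) := by
    refine ⟨fun α _ β _ => indFun_add N α β, fun α _ n => indFun_zsmul N n α, ?_, ?_⟩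
    · intro α hα β hβ
      obtain ⟨hα1, hα2, -⟩ := hprop α hα.1
      obtain ⟨hβ1, hβ2, -⟩ := hprop β hβ.1
      exact hiso α β hα1 hβ1 hα2 hβ2 (mem_zspanOn_compl_one_iff.mp hα).2
    · intro α hα
      exact isGeneralizedCharacter_indFun N (hprop α hα.1).2.2
  have hτ1 : ∀ α ∈ Cfsg.zspanOn S ({1}ᶜ : Set N), (fun α => Cfsg.indFun N α) α 1 = 0 := by
    intro α hα
    show Cfsg.indFun N α 1 = 0
    rw [Cfsg.Agent.Lib.Helper83.indFun_one_eq, (mem_zspanOn_compl_one_iff.mp hα).2, mul_zero]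
  -- `X₁` is coherent
  haveI : ((⁅KN, KN⁆ : Subgroup N).subgroupOf KN).Normal := inferInstance
  obtain ⟨lam, hlam, hlam1, hlamne, hlamA⟩ := exists_linear_above KN hsolv ⁅KN, KN⁆ hH₁K
  set χ₀ : N → ℂ := indFun KN lam with hχ₀def
  have hχ₀X : χ₀ ∈ X₁ := ⟨lam, hlam, hlamne, hlamA, rfl⟩
  set χ₁ : N → ℂ := Cfsg.conjFun χ₀ with hχ₁def
  have hχ₁X : χ₁ ∈ X₁ := inducedIrrAbove_conj_mem KN _ hχ₀X
  have hχ01 : χ₀ ≠ χ₁ := (hconj χ₀ (hX₁S hχ₀X)).2.symm
  have hX₁deg : ∀ χ ∈ X₁, χ 1 = (KN.index : ℂ) := by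
    rintro χ ⟨θ, hθ, hne, hker, rfl⟩
    rw [Cfsg.Agent.Lib.Helper83.indFun_one_eq, degree_one_of_ker KN ⁅KN, KN⁆ (le_refl _) hθ hker,
      mul_one]
  have hX₁coh : IsCoherent X₁ ({1}ᶜ : Set N) (fun α => indFun N α) :=
    coherent_of_equal_degree_irr X₁ _ (LIO.mono hτ (Cfsg.Agent.S1531.zspanOn_mono hX₁S))
      (fun α hα => hτ1 α (Cfsg.Agent.S1531.zspanOn_mono hX₁S hα)) (hSfin.subset hX₁S)
      (fun φ h => hSirr φ (hX₁S h)) (fun φ hφ ψ hψ => by rw [hX₁deg φ hφ, hX₁deg ψ hψ])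
      ⟨χ₀, hχ₀X, χ₁, hχ₁X, hχ01⟩
  -- `Y` is coherent
  have hYcoh : IsCoherent Y ({1}ᶜ : Set N) (fun α => indFun N α) := by
    rw [hYeq]
    exact Cfsg.Agent.S1532.assembly N KN p hp2 hKp hsyl hna hlt hC hiso ZN hZ1 hZK hZc
  obtain ⟨-, σ, hσ, hσα⟩ := hX₁coh
  obtain ⟨⟨α₀, hα₀, hα₀ne⟩, τ, hτY, hτα⟩ := hYcoh
  have hYne : Y.Nonempty := by
    by_contra h
    rw [Set.not_nonempty_iff_eq_empty] at h
    apply hα₀ne
    have h1 := hα₀.1
    rw [h] at h1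
    simpa [zspan, Submodule.span_empty] using h1
  obtain ⟨η₀, hη₀⟩ := hYne
  set η₁ : N → ℂ := Cfsg.conjFun η₀ with hη₁def
  have hη₁ : η₁ ∈ Y := by
    refine ⟨(hconj η₀ (hYS hη₀)).1, fun h => hη₀.2 ?_⟩
    have h1 := inducedIrrAbove_conj_mem KN ZN h
    rwa [hη₁def, Cfsg.Agent.S1519.cj_cj] at h1
  have hη01 : η₀ ≠ η₁ := (hconj η₀ (hYS hη₀)).2.symm
  obtain ⟨θ₀, hθ₀, -, -, hη₀eq⟩ := hYS hη₀
  obtain ⟨a, ha⟩ := Cfsg.Agent.Lib.Helper83.char_one_eq_nat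
    (Cfsg.Agent.Lib.Helper83.isCharacter_of_irr hθ₀)
  have hη₀deg : η₀ 1 = (a : ℂ) * (KN.index : ℂ) := by
    rw [hη₀eq, Cfsg.Agent.Lib.Helper83.indFun_one_eq, ha, mul_comm]
  have ha_pos : 0 < a := by
    rcases Nat.eq_zero_or_pos a with h0 | h0
    · exfalso
      obtain ⟨n, hn, hn1⟩ := exists_pos_degree hθ₀
      rw [ha, h0] at hn1
      have : (n : ℂ) = 0 := by rw [← hn1]; simp
      have : n = 0 := by exact_mod_cast this
      omega
    · exact h0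
  -- the divisibility from (6.7)
  have hX2 : ∃ a ∈ X₁, ∃ b ∈ X₁, a ≠ b := ⟨χ₀, hχ₀X, χ₁, hχ₁X, hχ01⟩
  have hY2 : ∃ a ∈ Y, ∃ b ∈ Y, a ≠ b := ⟨η₀, hη₀, η₁, hη₁, hη01⟩
  obtain ⟨hperp, -⟩ := Cfsg.Agent.S1531.result N S X₁ Y hSirr hX₁S hYS hXY hX2 hY2 _ hτ hτ1 σ τ
    hσ hσα hτY hτα
  have hdvd : ∃ w : ℤ, classInner ((fun α => indFun N α) (η₀ - (a : ℤ) • χ₀)) (σ χ₀) =
      (a : ℂ) * w := by
    show ∃ w : ℤ, classInner (indFun N (η₀ - (a : ℤ) • χ₀)) (σ χ₀) = (a : ℂ) * w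
    have mX : ∀ χ ∈ X₁, χ ∈ zspan X₁ := fun χ h => mem_zspan_of_mem h
    have mY : ∀ η ∈ Y, η ∈ zspan Y := fun η h => mem_zspan_of_mem h
    have hσgen : IsGeneralizedCharacter G (σ χ₀) := LIO.isGenChar hσ (mX χ₀ hχ₀X)
    have hσcf : IsClassFunction G (σ χ₀) := isGeneralizedCharacter_isClassFunction hσgen
    set r : N → ℂ := fun n => σ χ₀ (n : G) with hrdef
    have hrgen : IsGeneralizedCharacter N r := isGeneralizedCharacter_restrict N hσgen
    have hdY : ∀ η ∈ Y, ∃ n : ℕ, 0 < n ∧ η 1 = n :=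
      fun η h => exists_pos_degree (hSirr η (hYS h))
    choose! dY hdYpos hdY using hdY
    have hprop2 : ∀ η ∈ Y, ∀ η' ∈ Y,
        (dY η : ℂ) * classInner r η' = (dY η' : ℂ) * classInner r η := by
      intro η hη η' hη'
      have hθ : (dY η : ℤ) • η' - (dY η' : ℤ) • η ∈ zspanOn Y ({1}ᶜ : Set N) :=
        Cfsg.Agent.S1531.zeta_mem hη' hη (dY η' : ℤ) (dY η : ℤ)
          (by rw [hdY η' hη']; simp) (by rw [hdY η hη]; simp)
      have h0 : classInner r ((dY η : ℤ) • η' - (dY η' : ℤ) • η) =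
          classInner (σ χ₀) (indFun N ((dY η : ℤ) • η' - (dY η' : ℤ) • η)) :=
        (classInner_indFun_right N _ (σ χ₀) hσcf).symm
      have h1 : classInner r ((dY η : ℤ) • η' - (dY η' : ℤ) • η) = 0 := by
        rw [h0]
        have h2 := hτα _ hθ
        simp only at h2
        rw [← h2, LIO.map_sub_zspan hτY (zsmul_mem_zspan _ (mY η' hη'))
          (zsmul_mem_zspan _ (mY η hη)), LIO.map_zsmul hτY (mY η' hη'),
          LIO.map_zsmul hτY (mY η hη), classInner_sub_right, classInner_zsmul_right,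
          classInner_zsmul_right, hperp χ₀ hχ₀X η' hη', hperp χ₀ hχ₀X η hη]
        ring
      rw [classInner_sub_right, classInner_zsmul_right, classInner_zsmul_right] at h1
      push_cast at h1
      linear_combination h1
    have hη₀1ne : (dY η₀ : ℂ) ≠ 0 := by exact_mod_cast (hdYpos η₀ hη₀).ne'
    set κ : ℂ := classInner r η₀ / (dY η₀ : ℂ) with hκdef
    have hκ : ∀ η : N → ℂ, IsIrrCharacter N η → (∃ z ∈ ZN, η z ≠ η 1) →
        classInner r η = κ * η 1 := by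
      intro η hηirr hz
      have hηY : η ∈ Y := by rw [hYeq]; exact ⟨hηirr, hz⟩
      have h1 := hprop2 η₀ hη₀ η hηY
      rw [hκdef, hdY η hηY]
      field_simp
      linear_combination h1
    have hrdiff : ∀ z ∈ ZN, z ≠ 1 → r 1 - r z = κ * (Nat.card N : ℂ) :=
      fun z hz hz1 => restrict_diff ZN r hrgen κ hκ z hz hz1
    obtain ⟨ε, hε, hεirr, -⟩ := Cfsg.Agent.S1529.result N X₁ (fun χ h => hSirr χ (hX₁S h)) hX2 σ hσ
      (by
        intro α hα hα1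
        have hαOn : α ∈ zspanOn X₁ ({1}ᶜ : Set N) := mem_zspanOn_compl_one_iff.mpr ⟨hα, hα1⟩
        rw [hσα α hαOn]
        exact hτ1 α (Cfsg.Agent.S1531.zspanOn_mono hX₁S hαOn))
    have hψirr := hεirr χ₀ hχ₀X
    have hconst : ∀ z ∈ ZN, z ≠ 1 →
        (ε • σ χ₀) ((z : N) : G) = ε * (σ χ₀ 1 - κ * (Nat.card N : ℂ)) := by
      intro z hz hz1
      have h1 := hrdiff z hz hz1
      simp only [hrdef, Subgroup.coe_one] at h1
      show ε * σ χ₀ ((z : N) : G) = _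
      have h2 : σ χ₀ ((z : N) : G) = σ χ₀ 1 - κ * (Nat.card N : ℂ) := by
        linear_combination -h1
      rw [h2]
    obtain ⟨A, hA, hAeq⟩ := h67 ZN hZNn hZK hZc (ε • σ χ₀) hψirr _ hconst ⟨z₀, hz₀, hz₀1⟩
    have hAeq' : ε * κ * (Nat.card N : ℂ) = (Nat.card KN : ℂ) * A := by
      rw [← hAeq]
      simp only [Pi.smul_apply, smul_eq_mul]
      ring
    have hcard : (Nat.card N : ℂ) = (Nat.card KN : ℂ) * (KN.index : ℂ) := by
      rw [← Nat.cast_mul, Subgroup.card_mul_index]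
    have hKNne : (Nat.card KN : ℂ) ≠ 0 := by exact_mod_cast Nat.card_pos.ne'
    have hA2 : A = ε * κ * (KN.index : ℂ) := by
      rw [hcard] at hAeq'
      have h1 : (Nat.card KN : ℂ) * (ε * κ * KN.index) = (Nat.card KN : ℂ) * A := by
        linear_combination hAeq'
      exact (mul_left_cancel₀ hKNne h1).symm
    obtain ⟨n₀, hn₀⟩ := classInner_genChar_int hrgen
      (isGeneralizedCharacter_of_irr (hSirr η₀ (hYS hη₀)))
    have hindex_ne : (KN.index : ℂ) ≠ 0 := by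
      exact_mod_cast (Subgroup.index_ne_zero_of_finite (H := KN))
    have ha_ne : (a : ℂ) ≠ 0 := by exact_mod_cast ha_pos.ne'
    have hdY₀ : (dY η₀ : ℂ) = (a : ℂ) * (KN.index : ℂ) := by rw [← hdY η₀ hη₀, hη₀deg]
    have hκidx : κ * (KN.index : ℂ) = (n₀ : ℂ) / a := by
      rw [hκdef, hn₀, hdY₀]
      field_simp
    obtain ⟨m', hm'⟩ : ∃ m' : ℤ, (n₀ : ℂ) = a * m' := by
      have haq : (a : ℚ) ≠ 0 := by exact_mod_cast ha_pos.ne'
      rcases hε with rfl | rfl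
      · have hAq : A = (((n₀ : ℚ) / (a : ℚ) : ℚ) : ℂ) := by
          rw [hA2, one_mul, hκidx]
          push_cast
          rfl
        rw [hAq] at hA
        obtain ⟨k, hk⟩ := Cfsg.Agent.Lib.Helper82.exists_int_of_isIntegral_ratCast hA
        refine ⟨k, ?_⟩
        have h2 : (n₀ : ℚ) = a * k := by
          rw [← hk]
          field_simp
        exact_mod_cast h2
      · have hAq : A = ((-(n₀ : ℚ) / (a : ℚ) : ℚ) : ℂ) := by
          rw [hA2, mul_assoc, hκidx]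
          push_cast
          ring
        rw [hAq] at hA
        obtain ⟨k, hk⟩ := Cfsg.Agent.Lib.Helper82.exists_int_of_isIntegral_ratCast hA
        refine ⟨-k, ?_⟩
        have h2 : (n₀ : ℚ) = a * (-k : ℤ) := by
          push_cast
          rw [← hk]
          field_simp
        exact_mod_cast h2
    obtain ⟨k₁, hk₁⟩ := classInner_genChar_int
      (isGeneralizedCharacter_of_irr (hSirr χ₀ (hX₁S hχ₀X))) hrgen
    refine ⟨m' - k₁, ?_⟩
    rw [classInner_indFun_left N _ (σ χ₀) hσcf]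
    show classInner (η₀ - (a : ℤ) • χ₀) r = _
    rw [classInner_sub_left, classInner_zsmul_left, hk₁, ← classInner_conj_symm r η₀, hn₀, hm']
    simp only [map_mul, map_natCast, map_intCast]
    push_cast
    ring
  have hmerge := merge_of_dvd S X₁ Y hSirr hX₁S hYS hXY _ hτ hτ1 σ τ hσ hσα hτY hτα KN.index a
    ha_pos hX₁deg χ₀ χ₁ hχ₀X hχ₁X hχ01 η₀ η₁ hη₀ hη₁ hη01 hη₀deg hdvd
  -- adding the remaining characters
  obtain ⟨d, -, hd, -⟩ := Cfsg.Agent.S1519.exists_dn S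
    (fun φ hφ => Cfsg.Agent.Lib.Helper83.isCharacter_of_irr (hSirr φ hφ))
  have hTfin : (X₁ ∪ Y).Finite := hSfin.subset (Set.union_subset hX₁S hYS)
  obtain ⟨Tf, hTfcoe⟩ : ∃ Tf : Finset (N → ℂ), (Tf : Set (N → ℂ)) = X₁ ∪ Y :=
    ⟨hTfin.toFinset, Set.Finite.coe_toFinset _⟩
  obtain ⟨SfS, hSfS⟩ : ∃ T : Finset (N → ℂ), (T : Set (N → ℂ)) = S :=
    ⟨hSfin.toFinset, Set.Finite.coe_toFinset _⟩
  obtain ⟨SfZ, hSfZ⟩ : ∃ T : Finset (N → ℂ), (T : Set (N → ℂ)) = XZ :=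
    ⟨(hSfin.subset hXZS).toFinset, Set.Finite.coe_toFinset _⟩
  have hcohT : IsCoherent (↑Tf : Set (N → ℂ)) ({1}ᶜ : Set N) (fun α => indFun N α) := by
    rw [hTfcoe]; exact hmerge
  have hTfS : (↑Tf : Set (N → ℂ)) ⊆ S := by rw [hTfcoe]; exact Set.union_subset hX₁S hYS
  have hχ₀Tf : χ₀ ∈ Tf := by
    rw [← Finset.mem_coe, hTfcoe]; exact Or.inl hχ₀X
  -- numerics
  set e := KN.index with he_def
  have he : 0 < e := Nat.pos_of_ne_zero Subgroup.index_ne_zero_of_finite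
  have hdχ₀ : d χ₀ = e := by
    have h1 := hd χ₀ (hX₁S hχ₀X)
    rw [hX₁deg χ₀ hχ₀X] at h1
    exact_mod_cast h1.symm
  have hsumA : ∀ (A : Subgroup N) [A.Normal] (_ : A ≤ KN) (T : Finset (N → ℂ))
      (_ : (T : Set (N → ℂ)) = inducedIrrAbove KN A),
      (∑ φ ∈ T, d φ ^ 2) + e = e * A.relIndex KN := by
    intro A _ hAK T hT
    have h := sum_inducedIrrAbove KN A hAK T hT
    have h1 : ∑ φ ∈ T, φ 1 ^ 2 / classInner φ φ = ((∑ φ ∈ T, d φ ^ 2 : ℕ) : ℂ) := by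
      rw [Nat.cast_sum]
      apply Finset.sum_congr rfl
      intro φ hφ
      have hφS : φ ∈ S := by
        apply inducedIrrAbove_anti KN (bot_le : (⊥ : Subgroup N) ≤ A)
        rw [← hT]; exact Finset.mem_coe.mpr hφ
      rw [hd φ hφS, classInner_irr_self (hSirr φ hφS), div_one]
      push_cast
      rfl
    rw [h1] at h
    have h2 : (((∑ φ ∈ T, d φ ^ 2) + e : ℕ) : ℂ) = ((e * A.relIndex KN : ℕ) : ℂ) := by
      push_cast
      rw [Nat.cast_sum] at h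
      push_cast at h
      rw [h]
      ring
    exact_mod_cast h2
  have hsumS := hsumA ⊥ bot_le SfS hSfS
  have hsumZ := hsumA ZN hZK SfZ hSfZ
  rw [Subgroup.relIndex_bot_left] at hsumS
  set k := Nat.card KN with hk_def
  set m := ZN.relIndex KN with hm_def
  set zc := Nat.card ZN with hzc_def
  have hkmz : m * zc = k := by
    have h1 := Subgroup.index_mul_card (ZN.subgroupOf KN)
    rw [Cfsg.Agent.S1519.card_subgroupOf_of_le hZK] at h1
    exact h1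
  have hez : e + 1 ≤ zc := by
    have h1 := Cfsg.Agent.S1535.relIndex_ge KN hC ⊥ ZN bot_le hZK (by
      intro h
      exact hZ1 (le_bot_iff.mp h))
    rwa [Subgroup.relIndex_bot_left] at h1
  have hzcpos : 0 < zc := by omega
  have hm1 : m ≠ 1 := by
    intro h
    have h1 : KN ≤ ZN := Subgroup.relIndex_eq_one.mp h
    apply hna
    intro a ha b hb
    exact hZc a (h1 ha) b hb
  obtain ⟨n, hn⟩ := IsPGroup.iff_card.mp hKp
  have hmdvd : m ∣ p ^ n := by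
    rw [← hn, ← hk_def, ← hkmz]
    exact Dvd.intro _ rfl
  obtain ⟨j, -, hj⟩ := (Nat.dvd_prime_pow hp.out).mp hmdvd
  have hj0 : j ≠ 0 := by
    rintro rfl
    rw [pow_zero] at hj
    exact hm1 hj
  have hp3 : 3 ≤ p := by
    have := hp.out.two_le
    omega
  have hmodd : Odd m := by
    rw [hj]
    exact (hp.out.odd_of_ne_two hp2).pow
  have hm3 : 3 ≤ m := by
    rw [hj]
    exact le_trans hp3 (Nat.le_self_pow hj0 p)
  -- the sum over `Y`
  have hSfZS : SfZ ⊆ SfS := by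
    intro φ hφ
    rw [← Finset.mem_coe, hSfS]
    apply hXZS
    rw [← hSfZ]
    exact Finset.mem_coe.mpr hφ
  have hYsub : SfS \ SfZ ⊆ Tf := by
    intro φ hφ
    rw [Finset.mem_sdiff] at hφ
    rw [← Finset.mem_coe, hTfcoe]
    right
    refine ⟨?_, fun h => hφ.2 ?_⟩
    · rw [← hSfS]; exact Finset.mem_coe.mpr hφ.1
    · rw [← Finset.mem_coe, hSfZ]; exact h
  have hsumY : ∑ φ ∈ SfS \ SfZ, d φ ^ 2 = e * (m * (zc - 1)) := by
    have h1 := Finset.sum_sdiff (f := fun φ => d φ ^ 2) hSfZS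
    have h2 : e * (m * (zc - 1)) + e * m = e * k := by
      rw [← hkmz]
      obtain ⟨z', hz'⟩ : ∃ z', zc = z' + 1 := ⟨zc - 1, by omega⟩
      rw [hz', Nat.add_sub_cancel]
      ring
    omega
  apply coherent_of_subset_add S hSfin hSirr _ hτ hτ1 Tf hTfS hcohT d hd χ₀ hχ₀Tf
  intro χ hχS hχT
  have hχXZ : χ ∈ XZ := by
    by_contra h
    apply hχT
    rw [← Finset.mem_coe, hTfcoe]
    exact Or.inr ⟨hχS, h⟩
  obtain ⟨θ, hθ, hne, hker, hχeq⟩ := hχXZ
  obtain ⟨t, ht⟩ := Cfsg.Agent.Lib.Helper83.char_one_eq_nat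
    (Cfsg.Agent.Lib.Helper83.isCharacter_of_irr hθ)
  have hdχ : d χ = e * t := by
    have h1 := hd χ hχS
    have h2 : χ 1 = (e : ℂ) * t := by
      rw [hχeq, Cfsg.Agent.Lib.Helper83.indFun_one_eq, ht]
    rw [h2] at h1
    exact_mod_cast h1.symm
  have ht2 : t ^ 2 ≤ m := by
    have h1 := Cfsg.Agent.S1522.degree_sq_mul_card_le hθ (ZN.subgroupOf KN)
      (fun z hz h => Subtype.ext (hZc (z : N) (Subgroup.mem_subgroupOf.mp hz) (h : N) h.2)) t ht
    rw [Cfsg.Agent.S1519.card_subgroupOf_of_le hZK, ← hk_def, ← hkmz] at h1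
    exact Nat.le_of_mul_le_mul_right h1 hzcpos
  refine ⟨by rw [hdχ₀, hdχ]; exact Dvd.intro _ rfl, ?_⟩
  rw [hdχ₀, hdχ]
  calc 2 * e * (e * t) < e * (m * (zc - 1)) := ex_numeric hmodd hm3 ht2 hez he
    _ = ∑ φ ∈ SfS \ SfZ, d φ ^ 2 := hsumY.symm
    _ ≤ ∑ φ ∈ Tf, d φ ^ 2 := Finset.sum_le_sum_of_subset hYsub

end Assembly

end Cfsg.Agent.Lib.Helper34
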