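import Cfsg.Agent.S1531
import Cfsg.Agent.Lib.Helper34.Coherence2
import Cfsg.Agent.Lib.Helper34.OrthoExt

/-!
# Merging two coherent sets under a divisibility condition (helper34)

The situation of Sibley's theorem / Peterfalvi (6.8): `X` a coherent set of irreducible characters
of `N` all of the same degree `c`, `Y` a coherent set, `η₀ ∈ Y` of degree `a * c`; if the inner
product of `α (η₀ - a χ₀)` with `σ χ₀` is divisible by `a`, then `X ∪ Y` is coherent.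
-/

set_option autoImplicit false

namespace Cfsg.Agent.Lib.Helper34

open scoped ComplexConjugate
open Cfsg
open Cfsg.Agent.Lib.Helper05 (classInner_irr classInner_irr_self classInner_irr_ne exists_pos_degree)

section SibleyMerge

variable {G : Type*} [Group G] [Fintype G] {N : Subgroup G} [Fintype N]

/-- Bessel's inequality for the union of two orthonormal, mutually orthogonal families -/
theorem bessel_family (X Y : Set (N → ℂ)) (σ τ : (N → ℂ) → (G → ℂ))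
    (hσσ : ∀ χ ∈ X, ∀ χ' ∈ X, classInner (σ χ) (σ χ') = if χ = χ' then 1 else 0)
    (hττ : ∀ η ∈ Y, ∀ η' ∈ Y, classInner (τ η) (τ η') = if η = η' then 1 else 0)
    (hστ : ∀ χ ∈ X, ∀ η ∈ Y, classInner (σ χ) (τ η) = 0)
    (hXY : Disjoint X Y)
    (Ψ : G → ℂ) (TX TY : Finset (N → ℂ)) (hTX : (↑TX : Set (N → ℂ)) ⊆ X)
    (hTY : (↑TY : Set (N → ℂ)) ⊆ Y) :
    ∑ χ ∈ TX, ‖classInner Ψ (σ χ)‖ ^ 2 + ∑ η ∈ TY, ‖classInner Ψ (τ η)‖ ^ 2
      ≤ (classInner Ψ Ψ).re := by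
  classical
  have hdisj : Disjoint TX TY := by
    rw [Finset.disjoint_left]
    intro φ h1 h2
    exact Set.disjoint_left.mp hXY (hTX (Finset.mem_coe.mpr h1)) (hTY (Finset.mem_coe.mpr h2))
  set v : (N → ℂ) → (G → ℂ) := fun φ => if φ ∈ X then σ φ else τ φ with hv
  have hvX : ∀ φ ∈ TX, v φ = σ φ := by
    intro φ hφ
    simp only [hv, if_pos (hTX (Finset.mem_coe.mpr hφ))]
  have hnX : ∀ φ ∈ TY, φ ∉ X := fun φ hφ h =>
    Set.disjoint_left.mp hXY h (hTY (Finset.mem_coe.mpr hφ))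
  have hvY : ∀ φ ∈ TY, v φ = τ φ := by
    intro φ hφ
    simp only [hv, if_neg (hnX φ hφ)]
  have horth : ∀ i ∈ TX ∪ TY, ∀ j ∈ TX ∪ TY, classInner (v i) (v j) = if i = j then 1 else 0 := by
    intro i hi j hj
    rcases Finset.mem_union.mp hi with hi | hi <;> rcases Finset.mem_union.mp hj with hj | hj
    · rw [hvX i hi, hvX j hj]
      exact hσσ i (hTX (Finset.mem_coe.mpr hi)) j (hTX (Finset.mem_coe.mpr hj))
    · rw [hvX i hi, hvY j hj, hστ i (hTX (Finset.mem_coe.mpr hi)) j (hTY (Finset.mem_coe.mpr hj)),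
        if_neg]
      rintro rfl
      exact hnX i hj (hTX (Finset.mem_coe.mpr hi))
    · rw [hvY i hi, hvX j hj, ← classInner_conj_symm,
        hστ j (hTX (Finset.mem_coe.mpr hj)) i (hTY (Finset.mem_coe.mpr hi)), map_zero, if_neg]
      rintro rfl
      exact hnX i hi (hTX (Finset.mem_coe.mpr hj))
    · rw [hvY i hi, hvY j hj]
      exact hττ i (hTY (Finset.mem_coe.mpr hi)) j (hTY (Finset.mem_coe.mpr hj))
  have hpy := pythagoras_re (TX ∪ TY) v horth Ψ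
  have e1 : ∑ φ ∈ TX, ‖classInner Ψ (v φ)‖ ^ 2 = ∑ φ ∈ TX, ‖classInner Ψ (σ φ)‖ ^ 2 :=
    Finset.sum_congr rfl (fun φ hφ => by rw [hvX φ hφ])
  have e2 : ∑ φ ∈ TY, ‖classInner Ψ (v φ)‖ ^ 2 = ∑ φ ∈ TY, ‖classInner Ψ (τ φ)‖ ^ 2 :=
    Finset.sum_congr rfl (fun φ hφ => by rw [hvY φ hφ])
  rw [Finset.sum_union hdisj, e1, e2] at hpy
  have hnn := classInner_self_re_nonneg (orthoPart (TX ∪ TY) v Ψ)
  linarith

/-- **Swap.** If `X = {χ₀, χ₁}` consists of two irreducible characters of the same degree and `σ` is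
a linear isometry on `ℤ[X]` agreeing with `α` on the members vanishing at `1`, then so is the
isometry `σ'` with `σ' χ₀ = - σ χ₁`, `σ' χ₁ = - σ χ₀`. -/
theorem exists_swap (X : Set (N → ℂ)) (χ₀ χ₁ : N → ℂ) (hχ₀ : IsIrrCharacter N χ₀)
    (hχ₁ : IsIrrCharacter N χ₁) (h01 : χ₀ ≠ χ₁) (hX : X = {χ₀, χ₁}) (hdeg : χ₀ 1 = χ₁ 1)
    (α σ : (N → ℂ) → (G → ℂ)) (hσ : IsLinearIsometryOn (zspan X) σ)
    (hσα : ∀ θ ∈ zspanOn X ({1}ᶜ : Set N), σ θ = α θ) :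
    ∃ σ' : (N → ℂ) → (G → ℂ), IsLinearIsometryOn (zspan X) σ' ∧
      (∀ θ ∈ zspanOn X ({1}ᶜ : Set N), σ' θ = α θ) ∧ σ' χ₀ = - σ χ₁ ∧ σ' χ₁ = - σ χ₀ := by
  classical
  set Xf : Finset (N → ℂ) := {χ₀, χ₁} with hXf
  have hXfX : (↑Xf : Set (N → ℂ)) = X := by
    rw [hX, hXf]; simp
  have hm0 : χ₀ ∈ Xf := by rw [hXf]; simp
  have hm1 : χ₁ ∈ Xf := by rw [hXf]; simp
  have hirr : ∀ φ ∈ Xf, IsIrrCharacter N φ := by
    intro φ hφ
    rw [hXf, Finset.mem_insert, Finset.mem_singleton] at hφ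
    rcases hφ with rfl | rfl
    · exact hχ₀
    · exact hχ₁
  have horth : ∀ φ ∈ Xf, ∀ φ' ∈ Xf, φ ≠ φ' → classInner φ φ' = 0 :=
    fun φ hφ φ' hφ' hne => classInner_irr_ne (hirr φ hφ) (hirr φ' hφ') hne
  have hnz : ∀ φ ∈ Xf, classInner φ φ ≠ 0 := by
    intro φ hφ
    rw [classInner_irr_self (hirr φ hφ)]
    exact one_ne_zero
  have m0 : χ₀ ∈ zspan X := mem_zspan_of_mem (by rw [hX]; simp)
  have m1 : χ₁ ∈ zspan X := mem_zspan_of_mem (by rw [hX]; simp)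
  set f : (N → ℂ) → (G → ℂ) := fun φ => if φ = χ₀ then - σ χ₁ else - σ χ₀ with hf
  have hf0 : f χ₀ = - σ χ₁ := by simp only [hf, if_pos rfl]
  have hf1 : f χ₁ = - σ χ₀ := by simp only [hf, if_neg h01.symm]
  have hs00 : classInner (σ χ₀) (σ χ₀) = 1 := by
    rw [LIO.inner_eq hσ m0 m0, classInner_irr_self hχ₀]
  have hs11 : classInner (σ χ₁) (σ χ₁) = 1 := by
    rw [LIO.inner_eq hσ m1 m1, classInner_irr_self hχ₁]
  have hs01 : classInner (σ χ₀) (σ χ₁) = 0 := by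
    rw [LIO.inner_eq hσ m0 m1, classInner_irr_ne hχ₀ hχ₁ h01]
  have hs10 : classInner (σ χ₁) (σ χ₀) = 0 := by
    rw [LIO.inner_eq hσ m1 m0, classInner_irr_ne hχ₁ hχ₀ h01.symm]
  have hfin : ∀ φ ∈ Xf, ∀ φ' ∈ Xf, classInner (f φ) (f φ') = classInner φ φ' := by
    intro φ hφ φ' hφ'
    rw [hXf, Finset.mem_insert, Finset.mem_singleton] at hφ hφ'
    rcases hφ with rfl | rfl <;> rcases hφ' with rfl | rfl
    · rw [hf0, classInner_neg_left, classInner_neg_right, neg_neg, hs11, classInner_irr_self hχ₀]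
    · rw [hf0, hf1, classInner_neg_left, classInner_neg_right, neg_neg, hs10,
        classInner_irr_ne hχ₀ hχ₁ h01]
    · rw [hf0, hf1, classInner_neg_left, classInner_neg_right, neg_neg, hs01,
        classInner_irr_ne hχ₁ hχ₀ h01.symm]
    · rw [hf1, classInner_neg_left, classInner_neg_right, neg_neg, hs00, classInner_irr_self hχ₁]
  have hgen : ∀ φ ∈ Xf, IsGeneralizedCharacter G (f φ) := by
    intro φ hφ
    rw [hXf, Finset.mem_insert, Finset.mem_singleton] at hφ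
    rcases hφ with rfl | rfl
    · rw [hf0]; exact isGeneralizedCharacter_neg (LIO.isGenChar hσ m1)
    · rw [hf1]; exact isGeneralizedCharacter_neg (LIO.isGenChar hσ m0)
  have hiso := orthoExt_isLinearIsometryOn Xf horth hnz f hfin hgen
  rw [hXfX] at hiso
  refine ⟨orthoExt Xf f, hiso, ?_, ?_, ?_⟩
  · intro θ hθ
    have hθ' : θ ∈ zspan (↑Xf : Set (N → ℂ)) := by rw [hXfX]; exact hθ.1
    obtain ⟨n₀, hn₀⟩ := coeffAt_int Xf horth hnz hθ' χ₀ hm0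
    obtain ⟨n₁, hn₁⟩ := coeffAt_int Xf horth hnz hθ' χ₁ hm1
    have hexp := eq_sum_coeffAt Xf horth hnz hθ'
    rw [hXf, Finset.sum_pair h01, hn₀, hn₁] at hexp
    have hθ1 : θ 1 = 0 := (mem_zspanOn_compl_one_iff.mp hθ).2
    obtain ⟨d, hdpos, hd⟩ := exists_pos_degree hχ₀
    have hsum : (n₀ : ℂ) + n₁ = 0 := by
      have h1 := congrFun hexp 1
      rw [hθ1] at h1
      simp only [Pi.add_apply, Pi.smul_apply, smul_eq_mul, ← hdeg, hd] at h1
      have hd0 : (d : ℂ) ≠ 0 := by exact_mod_cast hdpos.ne'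
      have h2 : ((n₀ : ℂ) + n₁) * d = 0 := by linear_combination -h1
      rcases mul_eq_zero.mp h2 with h3 | h3
      · exact h3
      · exact absurd h3 hd0
    have hn1 : n₁ = -n₀ := by
      have : ((n₀ + n₁ : ℤ) : ℂ) = 0 := by push_cast; exact hsum
      have : n₀ + n₁ = 0 := by exact_mod_cast this
      linarith
    have hθeq : θ = n₀ • χ₀ + n₁ • χ₁ := by
      rw [hexp, Int.cast_smul_eq_zsmul, Int.cast_smul_eq_zsmul]
    have hσθ : σ θ = n₀ • σ χ₀ + n₁ • σ χ₁ := by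
      rw [hθeq, LIO.map_add hσ (zsmul_mem_zspan _ m0) (zsmul_mem_zspan _ m1),
        LIO.map_zsmul hσ m0, LIO.map_zsmul hσ m1]
    rw [← hσα θ hθ, hσθ]
    show orthoExt Xf f θ = _
    rw [orthoExt, hXf, Finset.sum_pair h01, hn₀, hn₁, hf0, hf1, hn1]
    simp only [Int.cast_smul_eq_zsmul]
    module
  · rw [orthoExt_apply_mem Xf horth hnz f χ₀ hm0, hf0]
  · rw [orthoExt_apply_mem Xf horth hnz f χ₁ hm1, hf1]

/-- two vectors with all four inner products equal coincide -/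
theorem eq_of_classInner_eq {Ψ Φ : G → ℂ} {r : ℂ} (h1 : classInner Ψ Ψ = r)
    (h2 : classInner Φ Φ = r) (h3 : classInner Ψ Φ = r) (h4 : classInner Φ Ψ = r) : Ψ = Φ := by
  have hzero : classInner (Ψ - Φ) (Ψ - Φ) = 0 := by
    rw [classInner_sub_left, classInner_sub_right, classInner_sub_right, h1, h2, h3, h4]
    ring
  have := (classInner_self_eq_zero (Ψ - Φ)).mp hzero
  exact sub_eq_zero.mp this

/-- **Final step of the merge.** If `Ψ = α (η₀ - a χ₀)` has inner products `-a` with `σ χ₀` and `1`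
with `τ η₀`, then `X ∪ Y` is coherent. -/
theorem merge_final (S X Y : Set (N → ℂ)) (hirr : ∀ ξ ∈ S, IsIrrCharacter N ξ) (hXS : X ⊆ S)
    (hYS : Y ⊆ S) (hXY : Disjoint X Y) (hX2 : ∃ a ∈ X, ∃ b ∈ X, a ≠ b)
    (hY2 : ∃ a ∈ Y, ∃ b ∈ Y, a ≠ b)
    (α : (N → ℂ) → (G → ℂ)) (hα : IsLinearIsometryOn (zspanOn S ({1}ᶜ : Set N)) α)
    (hα1 : ∀ θ ∈ zspanOn S ({1}ᶜ : Set N), α θ 1 = 0)
    (σ τ : (N → ℂ) → (G → ℂ)) (hσ : IsLinearIsometryOn (zspan X) σ)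
    (hσα : ∀ θ ∈ zspanOn X ({1}ᶜ : Set N), σ θ = α θ) (hτ : IsLinearIsometryOn (zspan Y) τ)
    (hτα : ∀ θ ∈ zspanOn Y ({1}ᶜ : Set N), τ θ = α θ)
    (c a : ℕ) (χ₀ η₀ : N → ℂ) (hχ₀ : χ₀ ∈ X) (hη₀ : η₀ ∈ Y)
    (hχ₀deg : χ₀ 1 = (c : ℂ)) (hη₀deg : η₀ 1 = (a : ℂ) * c)
    (hx : classInner (α (η₀ - (a : ℤ) • χ₀)) (σ χ₀) = -(a : ℂ))
    (hy : classInner (α (η₀ - (a : ℤ) • χ₀)) (τ η₀) = 1) :
    IsCoherent (X ∪ Y) ({1}ᶜ : Set N) α := by
  classical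
  obtain ⟨hperp, hmerge⟩ := Cfsg.Agent.S1531.result N S X Y hirr hXS hYS hXY hX2 hY2 α hα hα1 σ τ
    hσ hσα hτ hτα
  have hirrX : ∀ χ ∈ X, IsIrrCharacter N χ := fun χ h => hirr χ (hXS h)
  have hirrY : ∀ η ∈ Y, IsIrrCharacter N η := fun η h => hirr η (hYS h)
  have mX : χ₀ ∈ zspan X := mem_zspan_of_mem hχ₀
  have mY : η₀ ∈ zspan Y := mem_zspan_of_mem hη₀
  have mSX : χ₀ ∈ zspan S := mem_zspan_of_mem (hXS hχ₀)
  have mSY : η₀ ∈ zspan S := mem_zspan_of_mem (hYS hη₀)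
  have hne : η₀ ≠ χ₀ := by
    rintro rfl
    exact Set.disjoint_left.mp hXY hχ₀ hη₀
  set β : N → ℂ := η₀ - (a : ℤ) • χ₀ with hβdef
  have hβ : β ∈ zspanOn S ({1}ᶜ : Set N) := by
    rw [mem_zspanOn_compl_one_iff]
    refine ⟨sub_mem_zspan mSY (zsmul_mem_zspan _ mSX), ?_⟩
    simp only [hβdef, Pi.sub_apply, Pi.smul_apply, hη₀deg, hχ₀deg]
    simp
  have h00 : classInner η₀ η₀ = 1 := classInner_irr_self (hirrY η₀ hη₀)
  have h11 : classInner χ₀ χ₀ = 1 := classInner_irr_self (hirrX χ₀ hχ₀)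
  have h01 : classInner η₀ χ₀ = 0 := classInner_irr_ne (hirrY η₀ hη₀) (hirrX χ₀ hχ₀) hne
  have h10 : classInner χ₀ η₀ = 0 := classInner_irr_ne (hirrX χ₀ hχ₀) (hirrY η₀ hη₀) hne.symm
  have hββ : classInner β β = 1 + (a : ℂ) ^ 2 := by
    rw [hβdef, classInner_sub_left, classInner_sub_right, classInner_sub_right,
      classInner_zsmul_left, classInner_zsmul_left, classInner_zsmul_right, classInner_zsmul_right,
      h00, h11, h01, h10]
    push_cast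
    ring
  set Ψ : G → ℂ := α β with hΨ
  have hΨΨ : classInner Ψ Ψ = 1 + (a : ℂ) ^ 2 := by
    rw [hΨ, LIO.inner_eq hα hβ hβ, hββ]
  set Φ : G → ℂ := τ η₀ - (a : ℤ) • σ χ₀ with hΦ
  have hττ : classInner (τ η₀) (τ η₀) = 1 := by rw [LIO.inner_eq hτ mY mY, h00]
  have hσσ : classInner (σ χ₀) (σ χ₀) = 1 := by rw [LIO.inner_eq hσ mX mX, h11]
  have hστ : classInner (σ χ₀) (τ η₀) = 0 := hperp χ₀ hχ₀ η₀ hη₀
  have hτσ : classInner (τ η₀) (σ χ₀) = 0 := by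
    rw [← classInner_conj_symm, hστ, map_zero]
  have hΦΦ : classInner Φ Φ = 1 + (a : ℂ) ^ 2 := by
    rw [hΦ, classInner_sub_left, classInner_sub_right, classInner_sub_right,
      classInner_zsmul_left, classInner_zsmul_left, classInner_zsmul_right, classInner_zsmul_right,
      hττ, hσσ, hστ, hτσ]
    push_cast
    ring
  have hΨΦ : classInner Ψ Φ = 1 + (a : ℂ) ^ 2 := by
    rw [hΦ, classInner_sub_right, classInner_zsmul_right, hx, hy]
    push_cast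
    ring
  have hΦΨ : classInner Φ Ψ = 1 + (a : ℂ) ^ 2 := by
    rw [← classInner_conj_symm, hΨΦ]
    simp
  have hEq : Ψ = Φ := eq_of_classInner_eq hΨΨ hΦΦ hΨΦ hΦΨ
  apply hmerge
  refine ⟨χ₀, hχ₀, η₀, hη₀, ?_⟩
  have hfun : χ₀ 1 • η₀ - η₀ 1 • χ₀ = (c : ℤ) • β := by
    rw [hχ₀deg, hη₀deg, hβdef, ← Int.cast_smul_eq_zsmul ℂ (c : ℤ), ← Int.cast_smul_eq_zsmul ℂ (a : ℤ)]
    push_cast
    module
  rw [hfun, LIO.map_zsmul hα hβ, ← hΨ, hEq, hΦ, hχ₀deg, hη₀deg,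
    ← Int.cast_smul_eq_zsmul ℂ (c : ℤ), ← Int.cast_smul_eq_zsmul ℂ (a : ℤ)]
  push_cast
  module

/-- integer arithmetic behind the merge, first part -/
theorem merge_arith1 {a w y₀ t₁ : ℤ} (ha : 1 ≤ a) (ht : y₀ ≠ 1 → t₁ ≠ 0)
    (h : (a * w) ^ 2 + (a * w + a) ^ 2 + (y₀ ^ 2 + t₁ ^ 2) ≤ 1 + a ^ 2) :
    (w = -1 ∨ w = 0) ∧ ((y₀ = 1 ∧ t₁ = 0) ∨ (y₀ = 0 ∧ t₁ ^ 2 = 1)) := by
  have hq : 0 ≤ w * (w + 1) := by
    rcases le_or_gt 0 w with h0 | h0
    · positivity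
    · have : w + 1 ≤ 0 := by omega
      nlinarith
  have hyt : 1 ≤ y₀ ^ 2 + t₁ ^ 2 := by
    by_cases hy : y₀ = 1
    · rw [hy]; nlinarith [sq_nonneg t₁]
    · have := ht hy
      have h1 : 1 ≤ t₁ ^ 2 := by
        have : t₁ ≤ -1 ∨ 1 ≤ t₁ := by omega
        rcases this with h2 | h2 <;> nlinarith
      nlinarith [sq_nonneg y₀]
  have ha2 : 1 ≤ a ^ 2 := by nlinarith
  have hexp : (a * w) ^ 2 + (a * w + a) ^ 2 = a ^ 2 + 2 * a ^ 2 * (w * (w + 1)) := by ring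
  rw [hexp] at h
  have hq0 : w * (w + 1) = 0 := by
    by_contra hne
    have : 1 ≤ w * (w + 1) := by omega
    nlinarith
  have hyt1 : y₀ ^ 2 + t₁ ^ 2 = 1 := by
    rw [hq0] at h
    linarith
  refine ⟨?_, ?_⟩
  · rcases mul_eq_zero.mp hq0 with h1 | h1
    · exact Or.inr h1
    · exact Or.inl (by omega)
  · by_cases hy : y₀ = 1
    · left
      refine ⟨hy, ?_⟩
      rw [hy] at hyt1
      have : t₁ ^ 2 = 0 := by linarith
      exact pow_eq_zero_iff (by norm_num) |>.mp this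
    · right
      have := ht hy
      have h1 : 1 ≤ t₁ ^ 2 := by
        have : t₁ ≤ -1 ∨ 1 ≤ t₁ := by omega
        rcases this with h2 | h2 <;> nlinarith
      have h2 : y₀ ^ 2 = 0 := by nlinarith [sq_nonneg y₀]
      refine ⟨pow_eq_zero_iff (by norm_num) |>.mp h2, ?_⟩
      rw [h2] at hyt1
      linarith

/-- **Merge under a divisibility condition.** -/
theorem merge_of_dvd (S X Y : Set (N → ℂ)) (hirr : ∀ ξ ∈ S, IsIrrCharacter N ξ) (hXS : X ⊆ S)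
    (hYS : Y ⊆ S) (hXY : Disjoint X Y)
    (α : (N → ℂ) → (G → ℂ)) (hα : IsLinearIsometryOn (zspanOn S ({1}ᶜ : Set N)) α)
    (hα1 : ∀ θ ∈ zspanOn S ({1}ᶜ : Set N), α θ 1 = 0)
    (σ τ : (N → ℂ) → (G → ℂ)) (hσ : IsLinearIsometryOn (zspan X) σ)
    (hσα : ∀ θ ∈ zspanOn X ({1}ᶜ : Set N), σ θ = α θ) (hτ : IsLinearIsometryOn (zspan Y) τ)
    (hτα : ∀ θ ∈ zspanOn Y ({1}ᶜ : Set N), τ θ = α θ)
    (c a : ℕ) (ha : 0 < a)
    (hXdeg : ∀ χ ∈ X, χ 1 = (c : ℂ))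
    (χ₀ χ₁ : N → ℂ) (hχ₀ : χ₀ ∈ X) (hχ₁ : χ₁ ∈ X) (hχ01 : χ₀ ≠ χ₁)
    (η₀ η₁ : N → ℂ) (hη₀ : η₀ ∈ Y) (hη₁ : η₁ ∈ Y) (hη01 : η₀ ≠ η₁)
    (hη₀deg : η₀ 1 = (a : ℂ) * c)
    (hdvd : ∃ w : ℤ, classInner (α (η₀ - (a : ℤ) • χ₀)) (σ χ₀) = (a : ℂ) * w) :
    IsCoherent (X ∪ Y) ({1}ᶜ : Set N) α := by
  classical
  have hX2 : ∃ a ∈ X, ∃ b ∈ X, a ≠ b := ⟨χ₀, hχ₀, χ₁, hχ₁, hχ01⟩
  have hY2 : ∃ a ∈ Y, ∃ b ∈ Y, a ≠ b := ⟨η₀, hη₀, η₁, hη₁, hη01⟩
  obtain ⟨hperp, -⟩ := Cfsg.Agent.S1531.result N S X Y hirr hXS hYS hXY hX2 hY2 α hα hα1 σ τ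
    hσ hσα hτ hτα
  have hirrX : ∀ χ ∈ X, IsIrrCharacter N χ := fun χ h => hirr χ (hXS h)
  have hirrY : ∀ η ∈ Y, IsIrrCharacter N η := fun η h => hirr η (hYS h)
  have mX : ∀ χ ∈ X, χ ∈ zspan X := fun χ h => mem_zspan_of_mem h
  have mY : ∀ η ∈ Y, η ∈ zspan Y := fun η h => mem_zspan_of_mem h
  have mSX : ∀ χ ∈ X, χ ∈ zspan S := fun χ h => mem_zspan_of_mem (hXS h)
  have mSY : ∀ η ∈ Y, η ∈ zspan S := fun η h => mem_zspan_of_mem (hYS h)
  have hXnY : ∀ χ ∈ X, ∀ η ∈ Y, χ ≠ η := by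
    rintro χ hχ η hη rfl
    exact Set.disjoint_left.mp hXY hχ hη
  have hdY : ∀ η ∈ Y, ∃ n : ℕ, 0 < n ∧ η 1 = n := fun η h => exists_pos_degree (hirrY η h)
  choose! dY hdYpos hdY using hdY
  set β : N → ℂ := η₀ - (a : ℤ) • χ₀ with hβdef
  have hβ : β ∈ zspanOn S ({1}ᶜ : Set N) := by
    rw [mem_zspanOn_compl_one_iff]
    refine ⟨sub_mem_zspan (mSY η₀ hη₀) (zsmul_mem_zspan _ (mSX χ₀ hχ₀)), ?_⟩
    simp only [hβdef, Pi.sub_apply, Pi.smul_apply, hη₀deg, hXdeg χ₀ hχ₀]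
    simp
  have h00 : classInner η₀ η₀ = 1 := classInner_irr_self (hirrY η₀ hη₀)
  have h11 : classInner χ₀ χ₀ = 1 := classInner_irr_self (hirrX χ₀ hχ₀)
  have h01 : classInner η₀ χ₀ = 0 :=
    classInner_irr_ne (hirrY η₀ hη₀) (hirrX χ₀ hχ₀) (hXnY χ₀ hχ₀ η₀ hη₀).symm
  have h10 : classInner χ₀ η₀ = 0 :=
    classInner_irr_ne (hirrX χ₀ hχ₀) (hirrY η₀ hη₀) (hXnY χ₀ hχ₀ η₀ hη₀)
  have hββ : classInner β β = 1 + (a : ℂ) ^ 2 := by
    rw [hβdef, classInner_sub_left, classInner_sub_right, classInner_sub_right,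
      classInner_zsmul_left, classInner_zsmul_left, classInner_zsmul_right, classInner_zsmul_right,
      h00, h11, h01, h10]
    push_cast
    ring
  set Ψ : G → ℂ := α β with hΨ
  have hΨgen : IsGeneralizedCharacter G Ψ := LIO.isGenChar hα hβ
  have hΨΨ : classInner Ψ Ψ = 1 + (a : ℂ) ^ 2 := by
    rw [hΨ, LIO.inner_eq hα hβ hβ, hββ]
  -- integer coefficients
  have hzX : ∀ χ ∈ X, ∃ z : ℤ, classInner Ψ (σ χ) = z :=
    fun χ h => classInner_genChar_int hΨgen (LIO.isGenChar hσ (mX χ h))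
  choose! zX hzX using hzX
  have hzY : ∀ η ∈ Y, ∃ z : ℤ, classInner Ψ (τ η) = z :=
    fun η h => classInner_genChar_int hΨgen (LIO.isGenChar hτ (mY η h))
  choose! zY hzY using hzY
  -- relation on X
  have hrelX : ∀ χ ∈ X, χ ≠ χ₀ → zX χ = zX χ₀ + a := by
    intro χ hχ hne
    have hθ : χ - χ₀ ∈ zspanOn X ({1}ᶜ : Set N) := by
      rw [mem_zspanOn_compl_one_iff]
      refine ⟨sub_mem_zspan (mX χ hχ) (mX χ₀ hχ₀), ?_⟩
      simp only [Pi.sub_apply, hXdeg χ hχ, hXdeg χ₀ hχ₀, sub_self]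
    have hθS : χ - χ₀ ∈ zspanOn S ({1}ᶜ : Set N) :=
      Cfsg.Agent.S1531.zspanOn_mono hXS hθ
    have h1 : classInner Ψ (σ (χ - χ₀)) = a := by
      rw [hσα _ hθ, hΨ, LIO.inner_eq hα hβ hθS, hβdef, classInner_sub_left, classInner_sub_right,
        classInner_sub_right, classInner_zsmul_left, classInner_zsmul_left,
        classInner_irr_ne (hirrY η₀ hη₀) (hirrX χ hχ) (hXnY χ hχ η₀ hη₀).symm, h01,
        classInner_irr_ne (hirrX χ₀ hχ₀) (hirrX χ hχ) hne.symm, h11]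
      push_cast
      ring
    rw [LIO.map_sub_zspan hσ (mX χ hχ) (mX χ₀ hχ₀), classInner_sub_right, hzX χ hχ,
      hzX χ₀ hχ₀] at h1
    have h2 : ((zX χ - zX χ₀ : ℤ) : ℂ) = ((a : ℤ) : ℂ) := by
      push_cast
      exact h1
    have h3 : zX χ - zX χ₀ = (a : ℤ) := by exact_mod_cast h2
    linarith
  -- relation on Y
  have hrelY : ∀ η ∈ Y, η ≠ η₀ → (dY η₀ : ℤ) * zY η = (dY η : ℤ) * (zY η₀ - 1) := by
    intro η hη hne
    have hθ : (dY η₀ : ℤ) • η - (dY η : ℤ) • η₀ ∈ zspanOn Y ({1}ᶜ : Set N) :=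
      Cfsg.Agent.S1531.zeta_mem hη hη₀ (dY η : ℤ) (dY η₀ : ℤ)
        (by rw [hdY η hη]; simp) (by rw [hdY η₀ hη₀]; simp)
    have hθS := Cfsg.Agent.S1531.zspanOn_mono hYS hθ
    have h1 : classInner Ψ (τ ((dY η₀ : ℤ) • η - (dY η : ℤ) • η₀)) = -(dY η : ℂ) := by
      rw [hτα _ hθ, hΨ, LIO.inner_eq hα hβ hθS, hβdef, classInner_sub_left, classInner_sub_right,
        classInner_sub_right, classInner_zsmul_left, classInner_zsmul_left,
        classInner_zsmul_right, classInner_zsmul_right, classInner_zsmul_right,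
        classInner_zsmul_right,
        classInner_irr_ne (hirrY η₀ hη₀) (hirrY η hη) hne.symm, h00,
        classInner_irr_ne (hirrX χ₀ hχ₀) (hirrY η hη) (hXnY χ₀ hχ₀ η hη), h10]
      push_cast
      ring
    rw [LIO.map_sub_zspan hτ (zsmul_mem_zspan _ (mY η hη)) (zsmul_mem_zspan _ (mY η₀ hη₀)),
      LIO.map_zsmul hτ (mY η hη), LIO.map_zsmul hτ (mY η₀ hη₀), classInner_sub_right,
      classInner_zsmul_right, classInner_zsmul_right, hzY η hη, hzY η₀ hη₀] at h1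
    have h2 : (((dY η₀ : ℤ) * zY η - (dY η : ℤ) * zY η₀ : ℤ) : ℂ) = ((-(dY η : ℤ) : ℤ) : ℂ) := by
      push_cast
      push_cast at h1
      exact h1
    have h3 : (dY η₀ : ℤ) * zY η - (dY η : ℤ) * zY η₀ = -(dY η : ℤ) := by exact_mod_cast h2
    linarith
  -- orthonormality
  have hσσ : ∀ χ ∈ X, ∀ χ' ∈ X, classInner (σ χ) (σ χ') = if χ = χ' then 1 else 0 := by
    intro χ hχ χ' hχ'
    rw [LIO.inner_eq hσ (mX χ hχ) (mX χ' hχ')]
    exact classInner_irr (hirrX χ hχ) (hirrX χ' hχ')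
  have hττ : ∀ η ∈ Y, ∀ η' ∈ Y, classInner (τ η) (τ η') = if η = η' then 1 else 0 := by
    intro η hη η' hη'
    rw [LIO.inner_eq hτ (mY η hη) (mY η' hη')]
    exact classInner_irr (hirrY η hη) (hirrY η' hη')
  -- Bessel in integer form
  have hB : ∀ TX TY : Finset (N → ℂ), (↑TX : Set (N → ℂ)) ⊆ X → (↑TY : Set (N → ℂ)) ⊆ Y →
      ∑ χ ∈ TX, (zX χ) ^ 2 + ∑ η ∈ TY, (zY η) ^ 2 ≤ 1 + (a : ℤ) ^ 2 := by
    intro TX TY hTX hTY
    have h1 := bessel_family X Y σ τ hσσ hττ hperp hXY Ψ TX TY hTX hTY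
    have e1 : ∑ χ ∈ TX, ‖classInner Ψ (σ χ)‖ ^ 2 = ∑ χ ∈ TX, ((zX χ : ℝ)) ^ 2 := by
      apply Finset.sum_congr rfl
      intro χ hχ
      rw [hzX χ (hTX (Finset.mem_coe.mpr hχ)), Complex.norm_intCast, sq_abs]
    have e2 : ∑ η ∈ TY, ‖classInner Ψ (τ η)‖ ^ 2 = ∑ η ∈ TY, ((zY η : ℝ)) ^ 2 := by
      apply Finset.sum_congr rfl
      intro η hη
      rw [hzY η (hTY (Finset.mem_coe.mpr hη)), Complex.norm_intCast, sq_abs]
    rw [e1, e2, hΨΨ] at h1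
    have h2 : ((1 + (a : ℂ) ^ 2 : ℂ)).re = 1 + (a : ℝ) ^ 2 := by
      have : (1 + (a : ℂ) ^ 2 : ℂ) = ((1 + (a : ℝ) ^ 2 : ℝ) : ℂ) := by push_cast; rfl
      rw [this, Complex.ofReal_re]
    rw [h2] at h1
    have h3 : ((∑ χ ∈ TX, (zX χ) ^ 2 + ∑ η ∈ TY, (zY η) ^ 2 : ℤ) : ℝ) ≤
        ((1 + (a : ℤ) ^ 2 : ℤ) : ℝ) := by
      push_cast
      exact h1
    exact_mod_cast h3
  -- the divisibility
  obtain ⟨w, hw⟩ := hdvd
  have hx₀ : zX χ₀ = a * w := by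
    have h1 : ((zX χ₀ : ℤ) : ℂ) = ((a * w : ℤ) : ℂ) := by
      rw [← hzX χ₀ hχ₀, hΨ, hw]
      push_cast
      rfl
    exact_mod_cast h1
  have hx₁ : zX χ₁ = a * w + a := by rw [hrelX χ₁ hχ₁ hχ01.symm, hx₀]
  have ha1 : (1 : ℤ) ≤ a := by exact_mod_cast ha
  have hd0pos : (0 : ℤ) < dY η₀ := by exact_mod_cast hdYpos η₀ hη₀
  have htne : ∀ η ∈ Y, η ≠ η₀ → zY η₀ ≠ 1 → zY η ≠ 0 := by
    intro η hη hne hy h0
    have h1 := hrelY η hη hne
    rw [h0, mul_zero] at h1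
    have hdpos : (0 : ℤ) < dY η := by exact_mod_cast hdYpos η hη
    rcases mul_eq_zero.mp h1.symm with h2 | h2
    · omega
    · apply hy; omega
  -- first use of Bessel
  have hsubX2 : (↑({χ₀, χ₁} : Finset (N → ℂ)) : Set (N → ℂ)) ⊆ X := by
    intro φ hφ
    simp only [Finset.coe_insert, Finset.coe_singleton, Set.mem_insert_iff,
      Set.mem_singleton_iff] at hφ
    rcases hφ with rfl | rfl
    · exact hχ₀
    · exact hχ₁
  have hsubY2 : (↑({η₀, η₁} : Finset (N → ℂ)) : Set (N → ℂ)) ⊆ Y := by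
    intro φ hφ
    simp only [Finset.coe_insert, Finset.coe_singleton, Set.mem_insert_iff,
      Set.mem_singleton_iff] at hφ
    rcases hφ with rfl | rfl
    · exact hη₀
    · exact hη₁
  have hB1 := hB {χ₀, χ₁} {η₀, η₁} hsubX2 hsubY2
  rw [Finset.sum_pair hχ01, Finset.sum_pair hη01, hx₀, hx₁] at hB1
  obtain ⟨hwcase, hycase⟩ := merge_arith1 ha1 (htne η₁ hη₁ hη01.symm) hB1
  have hXpart : 1 + (a : ℤ) ^ 2 ≤ (a * w) ^ 2 + (a * w + a) ^ 2 + (zY η₀ ^ 2 + zY η₁ ^ 2) := by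
    have h1 : (zY η₀ ^ 2 + zY η₁ ^ 2) = 1 := by
      rcases hycase with ⟨h1, h2⟩ | ⟨h1, h2⟩
      · rw [h1, h2]; norm_num
      · rw [h1, h2]; norm_num
    rw [h1]
    rcases hwcase with h | h
    · rw [h]; nlinarith
    · rw [h]; nlinarith
  -- choose σ̃
  obtain ⟨σ', hσ', hσ'α, hx'⟩ : ∃ σ' : (N → ℂ) → (G → ℂ), IsLinearIsometryOn (zspan X) σ' ∧
      (∀ θ ∈ zspanOn X ({1}ᶜ : Set N), σ' θ = α θ) ∧ classInner Ψ (σ' χ₀) = -(a : ℂ) := by
    rcases hwcase with hw1 | hw0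
    · refine ⟨σ, hσ, hσα, ?_⟩
      rw [hzX χ₀ hχ₀, hx₀, hw1]
      push_cast
      ring
    · -- `X = {χ₀, χ₁}`
      have hXeq : X = {χ₀, χ₁} := by
        apply Set.eq_of_subset_of_subset
        · intro χ₂ hχ₂
          by_contra hnot
          simp only [Set.mem_insert_iff, Set.mem_singleton_iff, not_or] at hnot
          obtain ⟨h20, h21⟩ := hnot
          have hsub3 : (↑(insert χ₂ ({χ₀, χ₁} : Finset (N → ℂ))) : Set (N → ℂ)) ⊆ X := by
            intro φ hφ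
            simp only [Finset.coe_insert, Finset.coe_singleton, Set.mem_insert_iff,
              Set.mem_singleton_iff] at hφ
            rcases hφ with rfl | rfl | rfl
            · exact hχ₂
            · exact hχ₀
            · exact hχ₁
          have hB2 := hB (insert χ₂ {χ₀, χ₁}) {η₀, η₁} hsub3 hsubY2
          have hnm : χ₂ ∉ ({χ₀, χ₁} : Finset (N → ℂ)) := by
            simp only [Finset.mem_insert, Finset.mem_singleton, not_or]
            exact ⟨h20, h21⟩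
          rw [Finset.sum_insert hnm, Finset.sum_pair hχ01, Finset.sum_pair hη01, hx₀, hx₁,
            hrelX χ₂ hχ₂ h20, hx₀, hw0] at hB2
          rw [hw0] at hXpart
          nlinarith
        · intro φ hφ
          simp only [Set.mem_insert_iff, Set.mem_singleton_iff] at hφ
          rcases hφ with rfl | rfl
          · exact hχ₀
          · exact hχ₁
      obtain ⟨σ', h1, h2, h3, -⟩ := exists_swap X χ₀ χ₁ (hirrX χ₀ hχ₀) (hirrX χ₁ hχ₁) hχ01 hXeq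
        (by rw [hXdeg χ₀ hχ₀, hXdeg χ₁ hχ₁]) α σ hσ hσα
      refine ⟨σ', h1, h2, ?_⟩
      rw [h3, classInner_neg_right, hzX χ₁ hχ₁, hx₁, hw0]
      push_cast
      ring
  -- choose τ̃
  obtain ⟨τ', hτ', hτ'α, hy'⟩ : ∃ τ' : (N → ℂ) → (G → ℂ), IsLinearIsometryOn (zspan Y) τ' ∧
      (∀ θ ∈ zspanOn Y ({1}ᶜ : Set N), τ' θ = α θ) ∧ classInner Ψ (τ' η₀) = 1 := by
    rcases hycase with ⟨hy1, -⟩ | ⟨hy0, ht1⟩
    · refine ⟨τ, hτ, hτα, ?_⟩
      rw [hzY η₀ hη₀, hy1]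
      push_cast
      rfl
    · have hrel1 := hrelY η₁ hη₁ hη01.symm
      rw [hy0] at hrel1
      have hd1pos : (0 : ℤ) < dY η₁ := by exact_mod_cast hdYpos η₁ hη₁
      have ht1' : zY η₁ = -1 := by
        have h1 : zY η₁ = 1 ∨ zY η₁ = -1 := by
          have h0 : (zY η₁ - 1) * (zY η₁ + 1) = 0 := by nlinarith
          rcases mul_eq_zero.mp h0 with h | h
          · left; omega
          · right; omega
        rcases h1 with h1 | h1
        · rw [h1] at hrel1; nlinarith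
        · exact h1
      have hdeq : dY η₁ = dY η₀ := by
        rw [ht1'] at hrel1
        have : (dY η₁ : ℤ) = dY η₀ := by linarith
        exact_mod_cast this
      have hYeq : Y = {η₀, η₁} := by
        apply Set.eq_of_subset_of_subset
        · intro η₂ hη₂
          by_contra hnot
          simp only [Set.mem_insert_iff, Set.mem_singleton_iff, not_or] at hnot
          obtain ⟨h20, h21⟩ := hnot
          have hsub3 : (↑(insert η₂ ({η₀, η₁} : Finset (N → ℂ))) : Set (N → ℂ)) ⊆ Y := by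
            intro φ hφ
            simp only [Finset.coe_insert, Finset.coe_singleton, Set.mem_insert_iff,
              Set.mem_singleton_iff] at hφ
            rcases hφ with rfl | rfl | rfl
            · exact hη₂
            · exact hη₀
            · exact hη₁
          have hB2 := hB {χ₀, χ₁} (insert η₂ {η₀, η₁}) hsubX2 hsub3
          have hnm : η₂ ∉ ({η₀, η₁} : Finset (N → ℂ)) := by
            simp only [Finset.mem_insert, Finset.mem_singleton, not_or]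
            exact ⟨h20, h21⟩
          rw [Finset.sum_insert hnm, Finset.sum_pair hχ01, Finset.sum_pair hη01, hx₀, hx₁] at hB2
          have ht2 : zY η₂ ≠ 0 := htne η₂ hη₂ h20 (by rw [hy0]; norm_num)
          have ht2' : 1 ≤ zY η₂ ^ 2 := by
            have : zY η₂ ≤ -1 ∨ 1 ≤ zY η₂ := by omega
            rcases this with h2 | h2 <;> nlinarith
          nlinarith
        · intro φ hφ
          simp only [Set.mem_insert_iff, Set.mem_singleton_iff] at hφ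
          rcases hφ with rfl | rfl
          · exact hη₀
          · exact hη₁
      obtain ⟨τ', h1, h2, h3, -⟩ := exists_swap Y η₀ η₁ (hirrY η₀ hη₀) (hirrY η₁ hη₁) hη01 hYeq
        (by rw [hdY η₀ hη₀, hdY η₁ hη₁, hdeq]) α τ hτ hτα
      refine ⟨τ', h1, h2, ?_⟩
      rw [h3, classInner_neg_right, hzY η₁ hη₁, ht1']
      push_cast
      ring
  exact merge_final S X Y hirr hXS hYS hXY hX2 hY2 α hα hα1 σ' τ' hσ' hσ'α hτ' hτ'α c a χ₀ η₀ hχ₀
    hη₀ (hXdeg χ₀ hχ₀) hη₀deg hx' hy'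

end SibleyMerge

end Cfsg.Agent.Lib.Helper34
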