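import Cfsg.Agent.Lib.Helper34.SibleySub

/-!
# Coherence for an odd-order Frobenius subgroup with TI kernel (helper34)

The form needed for the families `(L i, H i)` of `S1526` (Suzuki / Feit–Hall–Thompson).
-/

set_option autoImplicit false
set_option linter.style.haveILetI false

namespace Cfsg.Agent.Lib.Helper34

open Cfsg

section Family

variable {G : Type*} [Group G] [Fintype G]

/-- Let `L` be a subgroup of odd order of `G` and `H` a nontrivial proper normal subgroup of `L`
with `C_L(h) ≤ H` for `h ∈ H∖1` (so `L` is a Frobenius group with kernel `H`), `H` a TI-subset of `G`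
with normalizer `L`.  Then the irreducible characters of `L` not containing `H` in their kernel form
a coherent set for induction to `G`, and `H` is nilpotent. -/
theorem coherent_family (L H : Subgroup G) [Fintype L] (hodd : Odd (Nat.card L)) (hHL : H < L)
    (hH1 : H ≠ ⊥) (hHn : ∀ x ∈ L, ∀ h ∈ H, x * h * x⁻¹ ∈ H)
    (hfrob : ∀ h ∈ H, h ≠ 1 → L ⊓ Subgroup.centralizer ({h} : Set G) ≤ H)
    (hTI : Cfsg.IsTISubset (H : Set G)) (hN : Subgroup.normalizer (H : Set G) = L) :
    Group.IsNilpotent H ∧
    IsCoherent {χ : L → ℂ | IsIrrCharacter L χ ∧ ∃ h ∈ H.subgroupOf L, χ h ≠ χ 1} {1}ᶜ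
      (fun α => indFun L α) := by
  classical
  haveI hn : (H.subgroupOf L).Normal := by
    refine ⟨fun k hk g => ?_⟩
    rw [Subgroup.mem_subgroupOf] at hk ⊢
    exact hHn g g.2 k hk
  have hK2 : H.subgroupOf L ≠ ⊤ := by
    rw [Ne, Subgroup.subgroupOf_eq_top]
    exact not_le_of_gt hHL
  have hC : ∀ k ∈ H.subgroupOf L, k ≠ 1 →
      Subgroup.centralizer ({k} : Set L) ≤ H.subgroupOf L := by
    intro k hk hk1 x hx
    rw [Subgroup.mem_subgroupOf] at hk ⊢
    apply hfrob (k : G) hk (fun h => hk1 (Subtype.ext h))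
    refine Subgroup.mem_inf.mpr ⟨x.2, ?_⟩
    rw [Subgroup.mem_centralizer_iff]
    intro c hc
    rw [Set.mem_singleton_iff] at hc
    subst hc
    have := (Subgroup.mem_centralizer_iff.mp hx) k (Set.mem_singleton k)
    exact congrArg Subtype.val this
  have hnil' : Group.IsNilpotent (H.subgroupOf L) :=
    Cfsg.Agent.S1535.kernel_nilpotent (H.subgroupOf L) hC hK2
  have hnil : Group.IsNilpotent H := by
    haveI := hnil'
    exact Group.nilpotent_of_mulEquiv (Subgroup.subgroupOfEquivOfLe hHL.le)
  refine ⟨hnil, ?_⟩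
  have hTI' : ∀ g : G, g ∉ L → ∀ k ∈ H, g * k * g⁻¹ ∈ H → k = 1 := by
    intro g hg k hk hgk
    rw [← hN] at hg
    exact hTI g hg k hk hgk
  have hcardK : Nat.card (H.subgroupOf L) = Nat.card H :=
    Nat.card_congr (Subgroup.subgroupOfEquivOfLe hHL.le).toEquiv
  have hmul := Subgroup.card_mul_index (H.subgroupOf L)
  rw [hcardK] at hmul
  rcases sibley_sub L H hHL.le hn hH1 hK2 hnil hC hTI' with h1 | ⟨h1, -⟩ | hcoh
  · exfalso
    rw [h1] at hmul
    rw [← hmul] at hodd
    have : Even (((H.subgroupOf L).index + 1) * (H.subgroupOf L).index) := by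
      rw [mul_comm]
      exact Nat.even_mul_succ_self _
    exact (Nat.not_even_iff_odd.mpr hodd) this
  · exfalso
    rw [← hmul] at hodd
    have hoddH : Odd (Nat.card H) := (Nat.odd_mul.mp hodd).1
    rw [h1] at hoddH
    rcases Nat.eq_zero_or_pos ((Nat.card G).factorization 2) with h0 | h0
    · rw [h0, pow_zero] at h1
      exact hH1 (Subgroup.card_eq_one.mp h1)
    · have : Even (2 ^ (Nat.card G).factorization 2) := (Nat.even_pow' h0.ne').mpr even_two
      exact (Nat.not_even_iff_odd.mpr hoddH) this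
  · exact hcoh

end Family

end Cfsg.Agent.Lib.Helper34
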