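import Cfsg.Agent.S1534

/-!
# Sibley's coherence theorem for a TI Frobenius kernel inside an arbitrary subgroup (helper34)

`S1534.result` is phrased with `N = Subgroup.normalizer K`.  Here `N` is any subgroup of `G`
containing `K` as a normal subgroup, with the trivial-intersection condition
`∀ g ∉ N, ∀ k ∈ K, g * k * g⁻¹ ∈ K → k = 1`; this forces `N = N_G(K)`.
-/

set_option autoImplicit false
set_option linter.style.haveILetI false

namespace Cfsg.Agent.Lib.Helper34

open Cfsg

section Sub

variable {G : Type*} [Group G]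

/-- a subgroup `N` normalizing `K ≠ 1` off which `K` meets its conjugates trivially is the
normalizer of `K` -/
theorem normalizer_eq_of_ti (N K : Subgroup G) (hKN : K ≤ N) (hn : (K.subgroupOf N).Normal)
    (hK1 : K ≠ ⊥) (hTI : ∀ g : G, g ∉ N → ∀ k ∈ K, g * k * g⁻¹ ∈ K → k = 1) :
    Subgroup.normalizer (K : Set G) = N := by
  apply le_antisymm
  · intro g hg
    by_contra hgN
    obtain ⟨k, hk, hk1⟩ : ∃ k ∈ K, k ≠ 1 := by
      by_contra h
      push Not at h
      exact hK1 ((Subgroup.eq_bot_iff_forall _).mpr h)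
    apply hk1
    apply hTI g hgN k hk
    exact (Subgroup.mem_normalizer_iff.mp hg k).mp hk
  · intro x hx
    rw [Subgroup.mem_normalizer_iff]
    intro h
    constructor
    · intro hh
      have := hn.conj_mem ⟨h, hKN hh⟩ (Subgroup.mem_subgroupOf.mpr hh) ⟨x, hx⟩
      exact Subgroup.mem_subgroupOf.mp this
    · intro hh
      have := hn.conj_mem ⟨x * h * x⁻¹, hKN hh⟩ (Subgroup.mem_subgroupOf.mpr hh) ⟨x, hx⟩⁻¹
      have h2 : x⁻¹ * (x * h * x⁻¹) * x⁻¹⁻¹ ∈ K := Subgroup.mem_subgroupOf.mp this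
      have h3 : x⁻¹ * (x * h * x⁻¹) * x⁻¹⁻¹ = h := by group
      rw [h3] at h2
      exact h2

/-- **Sibley's coherence theorem** for a nilpotent TI Frobenius kernel `K` of an arbitrary
subgroup `N` of `G` (which is then `N_G(K)`): either `|K| = |N : K| + 1`, or `K` is a Sylow
`2`-subgroup of `G` with `|K : K'| < 4 |N : K|²`, or the irreducible characters of `N` not
containing `K` in their kernel form a coherent set for induction to `G`. -/
theorem sibley_sub [Fintype G] (N : Subgroup G) [Fintype N] (K : Subgroup G) (hKN : K ≤ N)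
    (hn : (K.subgroupOf N).Normal) (hK1 : K ≠ ⊥) (hK2 : K.subgroupOf N ≠ ⊤)
    (hnil : Group.IsNilpotent K)
    (hC : ∀ k ∈ K.subgroupOf N, k ≠ 1 → Subgroup.centralizer ({k} : Set N) ≤ K.subgroupOf N)
    (hTI : ∀ g : G, g ∉ N → ∀ k ∈ K, g * k * g⁻¹ ∈ K → k = 1) :
    Nat.card K = (K.subgroupOf N).index + 1 ∨
    (Nat.card K = 2 ^ (Nat.card G).factorization 2 ∧
      (⁅K, K⁆.subgroupOf K).index < 4 * (K.subgroupOf N).index ^ 2) ∨
    IsCoherent {χ : N → ℂ | IsIrrCharacter N χ ∧ ∃ h ∈ K.subgroupOf N, χ h ≠ χ 1} {1}ᶜ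
      (fun α => indFun N α) := by
  have hN := normalizer_eq_of_ti N K hKN hn hK1 hTI
  subst hN
  have hTI' : IsTISubset (K : Set G) := fun g hg x hx hgx => hTI g hg x hx hgx
  have hlt : K < Subgroup.normalizer (K : Set G) := by
    refine lt_of_le_of_ne hKN ?_
    intro heq
    apply hK2
    rw [Subgroup.subgroupOf_eq_top]
    exact heq.symm.le
  have hCG : ∀ k ∈ K, k ≠ 1 → Subgroup.centralizer ({k} : Set G) ≤ K := by
    intro k hk hk1 x hx
    have hxk : x * k = k * x :=
      ((Subgroup.mem_centralizer_iff.mp hx) k (Set.mem_singleton k)).symm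
    have hxN : x ∈ Subgroup.normalizer (K : Set G) := by
      by_contra hxN
      apply hk1
      apply hTI x hxN k hk
      rw [hxk, mul_inv_cancel_right]
      exact hk
    have h1 : (⟨x, hxN⟩ : ↥(Subgroup.normalizer (K : Set G))) ∈
        K.subgroupOf (Subgroup.normalizer (K : Set G)) := by
      apply hC ⟨k, hKN hk⟩ (Subgroup.mem_subgroupOf.mpr hk)
        (fun h => hk1 (congrArg Subtype.val h))
      rw [Subgroup.mem_centralizer_iff]
      intro c hc
      rw [Set.mem_singleton_iff] at hc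
      subst hc
      apply Subtype.ext
      exact hxk.symm
    exact Subgroup.mem_subgroupOf.mp h1
  rcases Cfsg.Agent.S1534.result K hK1 hnil hTI' hlt hCG with ⟨-, h1, -⟩ | h2 | hcoh
  · exact Or.inl h1
  · exact Or.inr (Or.inl h2)
  · exact Or.inr (Or.inr hcoh)

end Sub

end Cfsg.Agent.Lib.Helper34
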