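import Cfsg.Agent.Lib.Helper64.StBDefs
import Cfsg.Agent.Lib.Helper08.BNPairSimple
import Cfsg.Agent.Lib.Helper57.StBA3
import Cfsg.Agent.Lib.Helper23.StBRedUnique
import Cfsg.Agent.Lib.Helper59.StBB1

/-!
# K-S2311-B2 (keystone 2311006, architect helper64): parabolic double cosets and `(J,K)`-reduced elements.
-/

set_option autoImplicit false

namespace Cfsg.Agent.Lib.Helper34.StB

open Cfsg Cfsg.Agent.Lib.Helper08 Cfsg.Agent.Lib.Helper64.StB

variable {G : Type*} [Group G] (P : Cfsg.BNPair G)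

theorem closure_le_parabolic (J : Set G) : Subgroup.closure J ≤ P.parabolic J := le_sup_right

/-- K-B2a. from `bruhat_exists` + K-A3. -/
theorem exists_red_dcoset {J K : Set G} (hJ : J ⊆ P.S) (hK : K ⊆ P.S) (g : G) :
    ∃ d, RedJK P J K d ∧ ∃ p ∈ P.parabolic J, ∃ p' ∈ P.parabolic K, g = p * d * p' := by
  obtain ⟨n, hn, b1, hb1, b2, hb2, rfl⟩ := bruhat_exists P g
  obtain ⟨a, ha, b, hb, d, hd, hE⟩ := Cfsg.Agent.Lib.Helper57.StB.exists_red P hJ hK hn
  -- `hE : n⁻¹ * (a * d * b) ∈ B`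
  refine ⟨d, hd, b1 * a, ?_, b * ((n⁻¹ * (a * d * b))⁻¹ * b2), ?_, ?_⟩
  · exact (P.parabolic J).mul_mem (B_le_parabolic P J hb1) (closure_le_parabolic P J ha)
  · exact (P.parabolic K).mul_mem (closure_le_parabolic P K hb)
      (B_le_parabolic P K (P.B.mul_mem (P.B.inv_mem hE) hb2))
  · group

/-- K-B2b. from K-B1 + K-A2. -/
theorem red_dcoset_iff {J K : Set G} (hJ : J ⊆ P.S) (hK : K ⊆ P.S) {d d' : G}
    (hd : RedJK P J K d) (hd' : RedJK P J K d') :
    (∃ p ∈ P.parabolic J, ∃ p' ∈ P.parabolic K, d' = p * d * p') ↔ Eqv P d d' := by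
  constructor
  · rintro ⟨p, hp, p', hp', h⟩
    exact Cfsg.Agent.Lib.Helper23.StB.red_unique P hJ hK hd hd'
      (Cfsg.Agent.Lib.Helper59.StB.eqv_of_mem_dcoset P hJ hK hd.1 hd'.1 hp hp' h)
  · intro h
    refine ⟨1, (P.parabolic J).one_mem, d⁻¹ * d', B_le_parabolic P K h, ?_⟩
    group

end Cfsg.Agent.Lib.Helper34.StB
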