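import Cfsg.Agent.Lib.Helper64.StBDefs
import Cfsg.Agent.Lib.Helper08.BNPairSimple
import Cfsg.Agent.Lib.Helper47.PermCharInner
import Cfsg.Agent.Lib.Helper62.StBC0
import Cfsg.Agent.Lib.Helper34.StBB2

/-!
# K-S2311-C1 (keystone 2311010, architect helper64): `⟨1_{P_J}^G, 1_{P_K}^G⟩ = #{(J,K)-reduced representatives}`.
-/

set_option autoImplicit false

namespace Cfsg.Agent.Lib.Helper34.StB

open Cfsg Cfsg.Agent.Lib.Helper08 Cfsg.Agent.Lib.Helper64.StB

variable {G : Type*} [Group G] (P : Cfsg.BNPair G)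

/-- K-C1. -/
theorem fpc_inner_parabolic [Fintype G] {J K : Set G} (hJ : J ⊆ P.S) (hK : K ⊆ P.S)
    {R : Finset G} (hR : IsTrans P R) [DecidablePred (RedJK P J K)] :
    (Nat.card G : ℂ)⁻¹ * ∑ g : G,
        Cfsg.fixedPointCharacter (P.parabolic J) g * Cfsg.fixedPointCharacter (P.parabolic K) g =
      ((R.filter (RedJK P J K)).card : ℂ) := by
  classical
  set W := {r // r ∈ R.filter (RedJK P J K)} with hW
  have hmem : ∀ w : W, (w : G) ∈ R ∧ RedJK P J K (w : G) := fun w => Finset.mem_filter.mp w.2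
  have ha : ∀ g : G, ∃ w : W, Cfsg.Agent.Lib.Helper47.dcRel (P.parabolic J) (P.parabolic K)
      ((fun w : W => (w : G)) w) g := by
    intro g
    obtain ⟨d, hd, p, hp, p', hp', rfl⟩ := exists_red_dcoset P hJ hK g
    obtain ⟨r, hr, hrd⟩ := hR.cover d hd.1
    have hrred : RedJK P J K r := Cfsg.Agent.Lib.Helper62.StB.redJK_congr P hJ hK (hR.mem_N r hr) (Eqv_symm P hrd) hd
    refine ⟨⟨r, Finset.mem_filter.mpr ⟨hr, hrred⟩⟩, p, hp, (r⁻¹ * d) * p', ?_, ?_⟩
    · exact (P.parabolic K).mul_mem (B_le_parabolic P K hrd) hp'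
    · simp only [mul_assoc, mul_inv_cancel_left]
  have hb : ∀ w w' : W, Cfsg.Agent.Lib.Helper47.dcRel (P.parabolic J) (P.parabolic K)
      ((fun w : W => (w : G)) w) ((fun w : W => (w : G)) w') ↔ (id : W → W) w = id w' := by
    intro w w'
    constructor
    · rintro ⟨p, hp, p', hp', h⟩
      have h1 : Eqv P (w : G) (w' : G) :=
        (red_dcoset_iff P hJ hK (hmem w).2 (hmem w').2).mp ⟨p, hp, p', hp', h⟩
      exact Subtype.ext (hR.inj _ (hmem w).1 _ (hmem w').1 h1)
    · intro h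
      have : w = w' := h
      subst this
      exact Cfsg.Agent.Lib.Helper47.dcRel_refl _ _ _
  rw [Cfsg.Agent.Lib.Helper47.fpc_inner_eq_card_range (P.parabolic J) (P.parabolic K)
    (fun w : W => (w : G)) (id : W → W) ha hb]
  congr 1
  rw [Set.range_id, Nat.card_congr (Equiv.Set.univ W), Nat.card_eq_fintype_card, Fintype.card_coe]

end Cfsg.Agent.Lib.Helper34.StB
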