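import Cfsg.Agent.Lib.Helper49.StSUDefs

/-!
# K-StSU leaf F3S (keystone 254609, S2546 pack, architect helper49): the rank one identity for the short simple roots of `SU_n(q)`

`s x(t) = x(1/t) h y(1/t)`, in the antidiagonal model.
-/

set_option autoImplicit false
set_option linter.unusedSectionVars false
set_option linter.unusedVariables false
set_option linter.unusedSimpArgs false
set_option linter.unreachableTactic false
set_option linter.unusedTactic false
set_option linter.style.multiGoal false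

namespace Cfsg.Agent.Lib.Helper34.StSU

open Cfsg Cfsg.Agent.Lib.Helper49.StSU Matrix

section generic

variable {ι κ : Type*} [Fintype ι] [DecidableEq ι] {F : Type*} [Field F]

/-- `1 + w E_{A,B} + w' E_{B',A'}` as a product of two transvections -/
def xM (A B B' A' : ι) (w w' : F) : Matrix ι ι F :=
  Matrix.transvection A B w * Matrix.transvection B' A' w'

theorem mul_transvection_apply'' (M : Matrix κ ι F) (j i : ι) (c : F) (a : κ) (b : ι) :
    (M * Matrix.transvection j i c) a b = M a b + (if b = i then M a j * c else 0) := by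
  unfold Matrix.transvection
  rw [Matrix.mul_add, Matrix.mul_one, Matrix.add_apply]
  by_cases hb : b = i
  · subst hb
    rw [Matrix.mul_single_apply_same, if_pos rfl]
  · rw [Matrix.mul_single_apply_of_ne c j i a b hb, if_neg hb]

theorem mul_xM_apply (A B B' A' : ι) (hBB' : B' ≠ B) (w w' : F) (M : Matrix κ ι F) (a : κ)
    (b : ι) :
    (M * xM A B B' A' w w') a b =
      M a b + (if b = B then M a A * w else 0) + (if b = A' then M a B' * w' else 0) := by
  unfold xM
  rw [← Matrix.mul_assoc, mul_transvection_apply'' (M * Matrix.transvection A B w),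
    mul_transvection_apply'' M, mul_transvection_apply'' M, if_neg hBB', add_zero]

theorem xM_apply (A B B' A' : ι) (hBB' : B' ≠ B) (w w' : F) (a b : ι) :
    xM A B B' A' w w' a b =
      (if a = b then 1 else 0) + (if b = B then (if a = A then w else 0) else 0) +
        (if b = A' then (if a = B' then w' else 0) else 0) := by
  have := mul_xM_apply A B B' A' hBB' w w' (1 : Matrix ι ι F) a b
  rw [Matrix.one_mul] at this
  rw [this]
  simp [Matrix.one_apply]

theorem sum_xM_mul (A B B' A' : ι) (hBB' : B' ≠ B) (w w' : F) (a : ι) (Z : ι → F) :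
    ∑ c, xM A B B' A' w w' c a * Z c =
      Z a + (if a = B then Z A * w else 0) + (if a = A' then Z B' * w' else 0) := by
  have := mul_xM_apply A B B' A' hBB' w w' (Matrix.of fun (_ : Unit) c => Z c) () a
  rw [Matrix.mul_apply] at this
  simp only [Matrix.of_apply] at this
  rw [← this]
  exact Finset.sum_congr rfl fun c _ => mul_comm _ _

theorem xM_zero (A B B' A' : ι) : xM A B B' A' (0 : F) 0 = 1 := by
  unfold xM
  rw [Matrix.transvection_zero, Matrix.transvection_zero, Matrix.one_mul]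

theorem det_xM (A B B' A' : ι) (hAB : A ≠ B) (hBA' : B' ≠ A') (w w' : F) :
    (xM A B B' A' w w').det = 1 := by
  unfold xM
  rw [Matrix.det_mul, Matrix.det_transvection_of_ne _ _ hAB, Matrix.det_transvection_of_ne _ _ hBA',
    one_mul]

end generic

variable {n : ℕ} {F : Type*} [Field F] {q : ℕ}

theorem q_ne_zero (ok : Ok n F q) : q ≠ 0 := by
  intro h
  have h0 := ok.frob_frob 0
  rw [h] at h0
  simp at h0

theorem frob_neg (ok : Ok n F q) (x : F) : (-x) ^ q = -(x ^ q) := by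
  have h := ok.frob_add (-x) x
  rw [neg_add_cancel, zero_pow (q_ne_zero ok)] at h
  exact eq_neg_of_add_eq_zero_left h.symm

theorem frob_sum (ok : Ok n F q) {α : Type*} (s : Finset α) (f : α → F) :
    (∑ b ∈ s, f b) ^ q = ∑ b ∈ s, (f b) ^ q := by
  classical
  induction s using Finset.induction_on with
  | empty => simp [zero_pow (q_ne_zero ok)]
  | insert a s ha ih => rw [Finset.sum_insert ha, Finset.sum_insert ha, ok.frob_add, ih]

theorem hJ_mulVec (ok : Ok n F q) (M : Matrix (Fin n) (Fin n) F) (u v : Fin n → F) :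
    hJ n F q (M *ᵥ u) (M *ᵥ v) =
      ∑ a, ∑ b, u a * (v b) ^ q * ∑ c, M c a * (M (Fin.rev c) b) ^ q := by
  unfold hJ
  simp only [Matrix.mulVec, dotProduct]
  simp_rw [frob_sum ok, mul_pow, Finset.sum_mul_sum, Finset.mul_sum]
  rw [Finset.sum_comm]
  refine Finset.sum_congr rfl fun a _ => ?_
  rw [Finset.sum_comm]
  refine Finset.sum_congr rfl fun b _ => ?_
  refine Finset.sum_congr rfl fun c _ => ?_
  ring

theorem preserves_of_entries (ok : Ok n F q) (M : Matrix (Fin n) (Fin n) F)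
    (h : ∀ a b, ∑ c, M c a * (M (Fin.rev c) b) ^ q = if b = Fin.rev a then 1 else 0)
    (u v : Fin n → F) : hJ n F q (M *ᵥ u) (M *ᵥ v) = hJ n F q u v := by
  rw [hJ_mulVec ok]
  simp_rw [h]
  unfold hJ
  refine Finset.sum_congr rfl fun a _ => ?_
  simp

theorem entries_of_mem (ok : Ok n F q) (g : GJ n F q) (a b : Fin n) :
    ∑ c, mat g c a * (mat g (Fin.rev c) b) ^ q = if b = Fin.rev a then 1 else 0 := by
  have h := hJ_mat g (Pi.single a 1) (Pi.single b 1)
  rw [Matrix.mulVec_single_one, Matrix.mulVec_single_one] at h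
  have h1 : hJ n F q ((mat g).col a) ((mat g).col b) =
      ∑ c, mat g c a * (mat g (Fin.rev c) b) ^ q := rfl
  rw [← h1, h]
  unfold hJ
  rw [Finset.sum_eq_single a]
  · rw [Pi.single_eq_same, one_mul]
    by_cases hb : b = Fin.rev a
    · rw [if_pos hb, hb, Pi.single_eq_same, one_pow]
    · rw [if_neg hb, Pi.single_eq_of_ne (Ne.symm hb), zero_pow (q_ne_zero ok)]
  · intro c _ hc
    rw [Pi.single_eq_of_ne hc, zero_mul]
  · intro h; exact absurd (Finset.mem_univ a) h

/-- the entries criterion holds for `1 + w E_{A,B} + w' E_{rev B, rev A}` when `w'^q = -w` -/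
theorem xM_entries (ok : Ok n F q) (A B : Fin n) (hAB : A ≠ B) (hAB' : A ≠ Fin.rev B)
    (hAA' : A ≠ Fin.rev A) (hBB' : B ≠ Fin.rev B) (w w' : F) (hw : w' ^ q = -w) (a b : Fin n) :
    ∑ c, xM A B (Fin.rev B) (Fin.rev A) w w' c a *
        (xM A B (Fin.rev B) (Fin.rev A) w w' (Fin.rev c) b) ^ q =
      if b = Fin.rev a then 1 else 0 := by
  have hq := q_ne_zero ok
  have hw2 : w ^ q = -w' := by
    have := ok.frob_frob w'
    rw [hw, frob_neg ok] at this
    rw [← this, neg_neg]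
  have hB'B : Fin.rev B ≠ B := Ne.symm hBB'
  have hA'A : Fin.rev A ≠ A := Ne.symm hAA'
  have hBA' : B ≠ Fin.rev A := by
    intro h; apply hAB'; rw [h, Fin.rev_rev]
  have hB'A' : Fin.rev B ≠ Fin.rev A := fun h => hAB (Fin.rev_injective h).symm
  have key : ∀ Z : Fin n → F, ∑ c, xM A B (Fin.rev B) (Fin.rev A) w w' c a * Z c =
      Z a + (if a = B then Z A * w else 0) + (if a = Fin.rev A then Z (Fin.rev B) * w' else 0) := by
    intro Z
    have := mul_xM_apply A B (Fin.rev B) (Fin.rev A) hB'B w w'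
      (Matrix.of fun (_ : Unit) c => Z c) () a
    rw [Matrix.mul_apply] at this
    simp only [Matrix.of_apply] at this
    rw [← this]
    exact Finset.sum_congr rfl fun c _ => mul_comm _ _
  rw [key]
  simp only [xM_apply A B (Fin.rev B) (Fin.rev A) hB'B, Fin.rev_rev]
  have hAA'' : A ≠ Fin.rev B := hAB'
  by_cases haB : a = B
  · subst haB
    by_cases hb1 : b = Fin.rev a
    · subst hb1
      simp [hq, hAB, hAB', hAA', hBB', hB'B, hA'A, hBA', hB'A', Ne.symm hAB, Ne.symm hAB',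
        Ne.symm hBA', Ne.symm hB'A']
    · by_cases hb2 : b = Fin.rev A
      · subst hb2
        simp [hq, hAB, hAB', hAA', hBB', hB'B, hA'A, hBA', hB'A', Ne.symm hAB, Ne.symm hAB',
          Ne.symm hBA', Ne.symm hB'A', hw]
      · simp [hq, hAB, hAB', hAA', hBB', hB'B, hA'A, hBA', hB'A', Ne.symm hAB, Ne.symm hAB',
          Ne.symm hBA', Ne.symm hB'A', hb1, hb2, Ne.symm hb1, Ne.symm hb2]
  · by_cases haA' : a = Fin.rev A
    · subst haA'
      rw [Fin.rev_rev]
      by_cases hb1 : b = A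
      · subst hb1
        simp [hq, hAB, hAB', hAA', hBB', hB'B, hA'A, hBA', hB'A', Ne.symm hAB, Ne.symm hAB',
          Ne.symm hBA', Ne.symm hB'A']
      · by_cases hb2 : b = B
        · subst hb2
          simp [hq, hAB, hAB', hAA', hBB', hB'B, hA'A, hBA', hB'A', Ne.symm hAB, Ne.symm hAB',
            Ne.symm hBA', Ne.symm hB'A', hw2]
        · simp [hq, hAB, hAB', hAA', hBB', hB'B, hA'A, hBA', hB'A', Ne.symm hAB, Ne.symm hAB',
            Ne.symm hBA', Ne.symm hB'A', hb1, hb2, Ne.symm hb1, Ne.symm hb2]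
    · have h1 : Fin.rev a ≠ A := fun h => haA' (by rw [← h, Fin.rev_rev])
      have h2 : Fin.rev a ≠ Fin.rev B := fun h => haB (Fin.rev_injective h)
      by_cases hb1 : b = Fin.rev a
      · subst hb1
        simp [hq, haB, haA', h1, h2]
      · simp [hq, haB, haA', h1, h2, hb1, Ne.symm hb1]

section generic2

variable {ι : Type*} [Fintype ι] [DecidableEq ι] {K : Type*} [Field K]

/-- the diagonal of the torus element -/
def dM (I J J' I' : ι) (t t' : K) : ι → K :=
  fun a => if a = I then -t⁻¹ else if a = J then t else if a = J' then -t'⁻¹ else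
    if a = I' then t' else 1

/-- the rank one identity for matrices -/
theorem rank_one_matrix (I J J' I' : ι) (hIJ : I ≠ J) (hIJ' : I ≠ J') (hII' : I ≠ I')
    (hJJ' : J ≠ J') (hJI' : J ≠ I') (hJ'I' : J' ≠ I') (t t' : K) (ht : t ≠ 0) (ht' : t' ≠ 0)
    (S : Matrix ι ι K)
    (hSI : ∀ a, S a I = if a = J then 1 else 0) (hSJ : ∀ a, S a J = if a = I then 1 else 0)
    (hSJ' : ∀ a, S a J' = if a = I' then 1 else 0) (hSI' : ∀ a, S a I' = if a = J' then 1 else 0)
    (hSo : ∀ a b, b ≠ I → b ≠ J → b ≠ J' → b ≠ I' → S a b = if a = b then 1 else 0) :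
    S * xM I J J' I' t t' =
      xM I J J' I' t⁻¹ t'⁻¹ * Matrix.diagonal (dM I J J' I' t t') * xM J I I' J' t⁻¹ t'⁻¹ := by
  ext a b
  rw [mul_xM_apply I J J' I' hJJ'.symm, mul_xM_apply J I I' J' hII'.symm, Matrix.mul_diagonal,
    Matrix.mul_diagonal, Matrix.mul_diagonal]
  simp only [xM_apply I J J' I' hJJ'.symm]
  by_cases hbI : b = I
  · skip
    by_cases haI : a = I
    · simp [hbI, haI, dM, hIJ, hIJ', hII', hJJ', hJI', hJ'I', hIJ.symm, hIJ'.symm, hII'.symm, hJJ'.symm, hJI'.symm, hJ'I'.symm, hSI, hSJ, hSJ', hSI'] <;> try field_simp <;> try ring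
    · skip
      by_cases haJ : a = J
      · simp [hbI, haJ, haI, Ne.symm haI, dM, hIJ, hIJ', hII', hJJ', hJI', hJ'I', hIJ.symm, hIJ'.symm, hII'.symm, hJJ'.symm, hJI'.symm, hJ'I'.symm, hSI, hSJ, hSJ', hSI'] <;> try field_simp <;> try ring
      · skip
        by_cases haJ' : a = J'
        · simp [hbI, haJ', haI, Ne.symm haI, haJ, Ne.symm haJ, dM, hIJ, hIJ', hII', hJJ', hJI', hJ'I', hIJ.symm, hIJ'.symm, hII'.symm, hJJ'.symm, hJI'.symm, hJ'I'.symm, hSI, hSJ, hSJ', hSI'] <;> try field_simp <;> try ring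
        · skip
          by_cases haI' : a = I'
          · simp [hbI, haI', haI, Ne.symm haI, haJ, Ne.symm haJ, haJ', Ne.symm haJ', dM, hIJ, hIJ', hII', hJJ', hJI', hJ'I', hIJ.symm, hIJ'.symm, hII'.symm, hJJ'.symm, hJI'.symm, hJ'I'.symm, hSI, hSJ, hSJ', hSI'] <;> try field_simp <;> try ring
          · skip
            simp [hbI, haI, Ne.symm haI, haJ, Ne.symm haJ, haJ', Ne.symm haJ', haI', Ne.symm haI', dM, hIJ, hIJ', hII', hJJ', hJI', hJ'I', hIJ.symm, hIJ'.symm, hII'.symm, hJJ'.symm, hJI'.symm, hJ'I'.symm, hSI, hSJ, hSJ', hSI'] <;> try field_simp <;> try ring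
  · skip
    by_cases hbJ : b = J
    · skip
      by_cases haI : a = I
      · simp [hbJ, hbI, Ne.symm hbI, haI, dM, hIJ, hIJ', hII', hJJ', hJI', hJ'I', hIJ.symm, hIJ'.symm, hII'.symm, hJJ'.symm, hJI'.symm, hJ'I'.symm, hSI, hSJ, hSJ', hSI'] <;> try field_simp <;> try ring
      · skip
        by_cases haJ : a = J
        · simp [hbJ, hbI, Ne.symm hbI, haJ, haI, Ne.symm haI, dM, hIJ, hIJ', hII', hJJ', hJI', hJ'I', hIJ.symm, hIJ'.symm, hII'.symm, hJJ'.symm, hJI'.symm, hJ'I'.symm, hSI, hSJ, hSJ', hSI'] <;> try field_simp <;> try ring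
        · skip
          by_cases haJ' : a = J'
          · simp [hbJ, hbI, Ne.symm hbI, haJ', haI, Ne.symm haI, haJ, Ne.symm haJ, dM, hIJ, hIJ', hII', hJJ', hJI', hJ'I', hIJ.symm, hIJ'.symm, hII'.symm, hJJ'.symm, hJI'.symm, hJ'I'.symm, hSI, hSJ, hSJ', hSI'] <;> try field_simp <;> try ring
          · skip
            by_cases haI' : a = I'
            · simp [hbJ, hbI, Ne.symm hbI, haI', haI, Ne.symm haI, haJ, Ne.symm haJ, haJ', Ne.symm haJ', dM, hIJ, hIJ', hII', hJJ', hJI', hJ'I', hIJ.symm, hIJ'.symm, hII'.symm, hJJ'.symm, hJI'.symm, hJ'I'.symm, hSI, hSJ, hSJ', hSI'] <;> try field_simp <;> try ring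
            · skip
              simp [hbJ, hbI, Ne.symm hbI, haI, Ne.symm haI, haJ, Ne.symm haJ, haJ', Ne.symm haJ', haI', Ne.symm haI', dM, hIJ, hIJ', hII', hJJ', hJI', hJ'I', hIJ.symm, hIJ'.symm, hII'.symm, hJJ'.symm, hJI'.symm, hJ'I'.symm, hSI, hSJ, hSJ', hSI'] <;> try field_simp <;> try ring
    · skip
      by_cases hbJ' : b = J'
      · skip
        by_cases haI : a = I
        · simp [hbJ', hbI, Ne.symm hbI, hbJ, Ne.symm hbJ, haI, dM, hIJ, hIJ', hII', hJJ', hJI', hJ'I', hIJ.symm, hIJ'.symm, hII'.symm, hJJ'.symm, hJI'.symm, hJ'I'.symm, hSI, hSJ, hSJ', hSI'] <;> try field_simp <;> try ring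
        · skip
          by_cases haJ : a = J
          · simp [hbJ', hbI, Ne.symm hbI, hbJ, Ne.symm hbJ, haJ, haI, Ne.symm haI, dM, hIJ, hIJ', hII', hJJ', hJI', hJ'I', hIJ.symm, hIJ'.symm, hII'.symm, hJJ'.symm, hJI'.symm, hJ'I'.symm, hSI, hSJ, hSJ', hSI'] <;> try field_simp <;> try ring
          · skip
            by_cases haJ' : a = J'
            · simp [hbJ', hbI, Ne.symm hbI, hbJ, Ne.symm hbJ, haJ', haI, Ne.symm haI, haJ, Ne.symm haJ, dM, hIJ, hIJ', hII', hJJ', hJI', hJ'I', hIJ.symm, hIJ'.symm, hII'.symm, hJJ'.symm, hJI'.symm, hJ'I'.symm, hSI, hSJ, hSJ', hSI'] <;> try field_simp <;> try ring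
            · skip
              by_cases haI' : a = I'
              · simp [hbJ', hbI, Ne.symm hbI, hbJ, Ne.symm hbJ, haI', haI, Ne.symm haI, haJ, Ne.symm haJ, haJ', Ne.symm haJ', dM, hIJ, hIJ', hII', hJJ', hJI', hJ'I', hIJ.symm, hIJ'.symm, hII'.symm, hJJ'.symm, hJI'.symm, hJ'I'.symm, hSI, hSJ, hSJ', hSI'] <;> try field_simp <;> try ring
              · skip
                simp [hbJ', hbI, Ne.symm hbI, hbJ, Ne.symm hbJ, haI, Ne.symm haI, haJ, Ne.symm haJ, haJ', Ne.symm haJ', haI', Ne.symm haI', dM, hIJ, hIJ', hII', hJJ', hJI', hJ'I', hIJ.symm, hIJ'.symm, hII'.symm, hJJ'.symm, hJI'.symm, hJ'I'.symm, hSI, hSJ, hSJ', hSI'] <;> try field_simp <;> try ring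
      · skip
        by_cases hbI' : b = I'
        · skip
          by_cases haI : a = I
          · simp [hbI', hbI, Ne.symm hbI, hbJ, Ne.symm hbJ, hbJ', Ne.symm hbJ', haI, dM, hIJ, hIJ', hII', hJJ', hJI', hJ'I', hIJ.symm, hIJ'.symm, hII'.symm, hJJ'.symm, hJI'.symm, hJ'I'.symm, hSI, hSJ, hSJ', hSI'] <;> try field_simp <;> try ring
          · skip
            by_cases haJ : a = J
            · simp [hbI', hbI, Ne.symm hbI, hbJ, Ne.symm hbJ, hbJ', Ne.symm hbJ', haJ, haI, Ne.symm haI, dM, hIJ, hIJ', hII', hJJ', hJI', hJ'I', hIJ.symm, hIJ'.symm, hII'.symm, hJJ'.symm, hJI'.symm, hJ'I'.symm, hSI, hSJ, hSJ', hSI'] <;> try field_simp <;> try ring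
            · skip
              by_cases haJ' : a = J'
              · simp [hbI', hbI, Ne.symm hbI, hbJ, Ne.symm hbJ, hbJ', Ne.symm hbJ', haJ', haI, Ne.symm haI, haJ, Ne.symm haJ, dM, hIJ, hIJ', hII', hJJ', hJI', hJ'I', hIJ.symm, hIJ'.symm, hII'.symm, hJJ'.symm, hJI'.symm, hJ'I'.symm, hSI, hSJ, hSJ', hSI'] <;> try field_simp <;> try ring
              · skip
                by_cases haI' : a = I'
                · simp [hbI', hbI, Ne.symm hbI, hbJ, Ne.symm hbJ, hbJ', Ne.symm hbJ', haI', haI, Ne.symm haI, haJ, Ne.symm haJ, haJ', Ne.symm haJ', dM, hIJ, hIJ', hII', hJJ', hJI', hJ'I', hIJ.symm, hIJ'.symm, hII'.symm, hJJ'.symm, hJI'.symm, hJ'I'.symm, hSI, hSJ, hSJ', hSI'] <;> try field_simp <;> try ring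
                · skip
                  simp [hbI', hbI, Ne.symm hbI, hbJ, Ne.symm hbJ, hbJ', Ne.symm hbJ', haI, Ne.symm haI, haJ, Ne.symm haJ, haJ', Ne.symm haJ', haI', Ne.symm haI', dM, hIJ, hIJ', hII', hJJ', hJI', hJ'I', hIJ.symm, hIJ'.symm, hII'.symm, hJJ'.symm, hJI'.symm, hJ'I'.symm, hSI, hSJ, hSJ', hSI'] <;> try field_simp <;> try ring
        · skip
          by_cases haI : a = I
          · simp [hbI, Ne.symm hbI, hbJ, Ne.symm hbJ, hbJ', Ne.symm hbJ', hbI', Ne.symm hbI', haI, dM, hIJ, hIJ', hII', hJJ', hJI', hJ'I', hIJ.symm, hIJ'.symm, hII'.symm, hJJ'.symm, hJI'.symm, hJ'I'.symm, hSI, hSJ, hSJ', hSI', fun a => hSo a b hbI hbJ hbJ' hbI'] <;> try field_simp <;> try ring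
          · skip
            by_cases haJ : a = J
            · simp [hbI, Ne.symm hbI, hbJ, Ne.symm hbJ, hbJ', Ne.symm hbJ', hbI', Ne.symm hbI', haJ, haI, Ne.symm haI, dM, hIJ, hIJ', hII', hJJ', hJI', hJ'I', hIJ.symm, hIJ'.symm, hII'.symm, hJJ'.symm, hJI'.symm, hJ'I'.symm, hSI, hSJ, hSJ', hSI', fun a => hSo a b hbI hbJ hbJ' hbI'] <;> try field_simp <;> try ring
            · skip
              by_cases haJ' : a = J'
              · simp [hbI, Ne.symm hbI, hbJ, Ne.symm hbJ, hbJ', Ne.symm hbJ', hbI', Ne.symm hbI', haJ', haI, Ne.symm haI, haJ, Ne.symm haJ, dM, hIJ, hIJ', hII', hJJ', hJI', hJ'I', hIJ.symm, hIJ'.symm, hII'.symm, hJJ'.symm, hJI'.symm, hJ'I'.symm, hSI, hSJ, hSJ', hSI', fun a => hSo a b hbI hbJ hbJ' hbI'] <;> try field_simp <;> try ring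
              · skip
                by_cases haI' : a = I'
                · simp [hbI, Ne.symm hbI, hbJ, Ne.symm hbJ, hbJ', Ne.symm hbJ', hbI', Ne.symm hbI', haI', haI, Ne.symm haI, haJ, Ne.symm haJ, haJ', Ne.symm haJ', dM, hIJ, hIJ', hII', hJJ', hJI', hJ'I', hIJ.symm, hIJ'.symm, hII'.symm, hJJ'.symm, hJI'.symm, hJ'I'.symm, hSI, hSJ, hSJ', hSI', fun a => hSo a b hbI hbJ hbJ' hbI'] <;> try field_simp <;> try ring
                · skip
                  simp [hbI, Ne.symm hbI, hbJ, Ne.symm hbJ, hbJ', Ne.symm hbJ', hbI', Ne.symm hbI', haI, Ne.symm haI, haJ, Ne.symm haJ, haJ', Ne.symm haJ', haI', Ne.symm haI', dM, hIJ, hIJ', hII', hJJ', hJI', hJ'I', hIJ.symm, hIJ'.symm, hII'.symm, hJJ'.symm, hJI'.symm, hJ'I'.symm, hSI, hSJ, hSJ', hSI', fun a => hSo a b hbI hbJ hbJ' hbI'] <;> try field_simp <;> try ring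

end generic2

section concrete

variable {n : ℕ} {F : Type*} [Field F] {q : ℕ}

/-- LEAF F3S (254609): the rank one identity, short simple root -/
theorem rank_one_short (ok : Ok n F q) (i : ℕ) (hi : i + 1 < n / 2) (x : GJ n F q)
    (hx : x ∈ XS n F q i) (hx1 : x ≠ 1) :
    ∃ x' ∈ XS n F q i, ∃ h ∈ Tsub n F q, ∃ y ∈ YS n F q i,
      sShort n F q i * x = x' * h * y := by
  have hq := q_ne_zero ok
  obtain ⟨I, hIdef⟩ : ∃ I : Fin n, I = ⟨i, by omega⟩ := ⟨_, rfl⟩
  obtain ⟨J, hJdef⟩ : ∃ J : Fin n, J = ⟨i + 1, by omega⟩ := ⟨_, rfl⟩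
  have hIv : I.val = i := by rw [hIdef]
  have hJv : J.val = i + 1 := by rw [hJdef]
  have hI'v : (Fin.rev I).val = n - 1 - i := by rw [Fin.val_rev, hIv]; omega
  have hJ'v : (Fin.rev J).val = n - 2 - i := by rw [Fin.val_rev, hJv]; omega
  have hIJ : I ≠ J := fun h => by rw [Fin.ext_iff] at h; omega
  have hIJ' : I ≠ Fin.rev J := fun h => by rw [Fin.ext_iff] at h; omega
  have hII' : I ≠ Fin.rev I := fun h => by rw [Fin.ext_iff] at h; omega
  have hJJ' : J ≠ Fin.rev J := fun h => by rw [Fin.ext_iff] at h; omega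
  have hJI' : J ≠ Fin.rev I := fun h => by rw [Fin.ext_iff] at h; omega
  have hJ'I' : Fin.rev J ≠ Fin.rev I := fun h => by rw [Fin.ext_iff] at h; omega
  -- the shape of `x`
  have hX : mat x = xM I J (Fin.rev J) (Fin.rev I) (mat x I J) (mat x (Fin.rev J) (Fin.rev I)) := by
    ext a b
    rw [xM_apply I J (Fin.rev J) (Fin.rev I) hJJ'.symm]
    by_cases h1 : a = I ∧ b = J
    · obtain ⟨rfl, rfl⟩ := h1
      simp [hIJ, hJI']
    · by_cases h2 : a = Fin.rev J ∧ b = Fin.rev I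
      · obtain ⟨rfl, rfl⟩ := h2
        simp [hJ'I', hJI'.symm]
      · have hab : ¬((a.val = i ∧ b.val = i + 1) ∨ (a.val = n - 2 - i ∧ b.val = n - 1 - i)) := by
          rintro (⟨ha, hb⟩ | ⟨ha, hb⟩)
          · exact h1 ⟨Fin.ext (by rw [ha, hIv]), Fin.ext (by rw [hb, hJv])⟩
          · exact h2 ⟨Fin.ext (by rw [ha, hJ'v]), Fin.ext (by rw [hb, hI'v])⟩
        rw [hx a b hab, Matrix.one_apply]
        rw [not_and] at h1 h2
        by_cases hb1 : b = J
        · have hne : a ≠ I := fun h => h1 h hb1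
          simp [hb1, hne, hJI']
        · by_cases hb2 : b = Fin.rev I
          · have hne : a ≠ Fin.rev J := fun h => h2 h hb2
            simp [hb2, hne, hJI'.symm]
          · simp [hb1, hb2]
  obtain ⟨t, htdef⟩ : ∃ t : F, t = mat x I J := ⟨_, rfl⟩
  obtain ⟨t', ht'def⟩ : ∃ t' : F, t' = mat x (Fin.rev J) (Fin.rev I) := ⟨_, rfl⟩
  rw [← htdef, ← ht'def] at hX
  -- the unitarity relation
  have hrel : t' ^ q = -t := by
    have h := entries_of_mem ok x J (Fin.rev I)
    rw [if_neg (by rw [Fin.rev_inj]; exact hIJ), hX,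
      sum_xM_mul I J (Fin.rev J) (Fin.rev I) hJJ'.symm] at h
    simp only [xM_apply I J (Fin.rev J) (Fin.rev I) hJJ'.symm, Fin.rev_rev] at h
    simp [hJ'I', hJI', hJI'.symm, hIJ, hIJ.symm, hII', hII'.symm] at h
    exact eq_neg_of_add_eq_zero_left h
  have ht : t ≠ 0 := by
    intro h0
    have h1 : t' = 0 := by
      rw [h0, neg_zero] at hrel
      exact pow_eq_zero_iff hq |>.mp hrel
    rw [h0, h1, xM_zero] at hX
    exact hx1 (mat_injective (by rw [hX, mat_one]))
  have ht' : t' ≠ 0 := by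
    intro h0
    rw [h0, zero_pow hq] at hrel
    exact ht (by rw [← neg_eq_zero, ← hrel])
  have hw : (t'⁻¹) ^ q = -t⁻¹ := by rw [inv_pow, hrel, inv_neg]
  -- the factors
  obtain ⟨x', hx'⟩ : ∃ x' : GJ n F q, mat x' = xM I J (Fin.rev J) (Fin.rev I) t⁻¹ t'⁻¹ :=
    ⟨⟨⟨_, det_xM I J (Fin.rev J) (Fin.rev I) hIJ hJ'I' t⁻¹ t'⁻¹⟩,
      preserves_of_entries ok _ (xM_entries ok I J hIJ hIJ' hII' hJJ' t⁻¹ t'⁻¹ hw)⟩, rfl⟩
  obtain ⟨y, hy⟩ : ∃ y : GJ n F q, mat y = xM J I (Fin.rev I) (Fin.rev J) t⁻¹ t'⁻¹ :=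
    ⟨⟨⟨_, det_xM J I (Fin.rev I) (Fin.rev J) hIJ.symm hJ'I'.symm t⁻¹ t'⁻¹⟩,
      preserves_of_entries ok _ (xM_entries ok J I hIJ.symm hJI' hJJ' hII' t⁻¹ t'⁻¹ hw)⟩, rfl⟩
  -- the columns of the reflection
  have hSI : ∀ a, sShortMat n F i a I = if a = J then 1 else 0 := by
    intro a
    have h1 : tau n i I.val = i + 1 := by rw [hIv]; simp [tau]
    show (if a.val = tau n i I.val then (1 : F) else 0) = _
    rw [h1, ← hJv]
    simp only [Fin.val_inj]
  have hSJ : ∀ a, sShortMat n F i a J = if a = I then 1 else 0 := by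
    intro a
    have h1 : tau n i J.val = i := by rw [hJv]; simp [tau]
    show (if a.val = tau n i J.val then (1 : F) else 0) = _
    rw [h1, ← hIv]
    simp only [Fin.val_inj]
  have hSJ' : ∀ a, sShortMat n F i a (Fin.rev J) = if a = Fin.rev I then 1 else 0 := by
    intro a
    have h1 : tau n i (Fin.rev J).val = n - 1 - i := by
      rw [hJ'v]; unfold tau
      rw [if_neg (by omega), if_neg (by omega), if_neg (by omega), if_pos rfl]
    show (if a.val = tau n i (Fin.rev J).val then (1 : F) else 0) = _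
    rw [h1, ← hI'v]
    simp only [Fin.val_inj]
  have hSI' : ∀ a, sShortMat n F i a (Fin.rev I) = if a = Fin.rev J then 1 else 0 := by
    intro a
    have h1 : tau n i (Fin.rev I).val = n - 2 - i := by
      rw [hI'v]; unfold tau
      rw [if_neg (by omega), if_neg (by omega), if_pos rfl]
    show (if a.val = tau n i (Fin.rev I).val then (1 : F) else 0) = _
    rw [h1, ← hJ'v]
    simp only [Fin.val_inj]
  have hSo : ∀ a b, b ≠ I → b ≠ J → b ≠ Fin.rev J → b ≠ Fin.rev I →
      sShortMat n F i a b = if a = b then 1 else 0 := by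
    intro a b h1 h2 h3 h4
    have h5 : tau n i b.val = b.val := by
      unfold tau
      rw [if_neg (fun h => h1 (Fin.ext (by rw [h, hIv]))),
        if_neg (fun h => h2 (Fin.ext (by rw [h, hJv]))),
        if_neg (fun h => h4 (Fin.ext (by rw [h, hI'v]))),
        if_neg (fun h => h3 (Fin.ext (by rw [h, hJ'v])))]
    show (if a.val = tau n i b.val then (1 : F) else 0) = _
    rw [h5]
    simp only [Fin.val_inj]
  have hmain := rank_one_matrix I J (Fin.rev J) (Fin.rev I) hIJ hIJ' hII' hJJ' hJI' hJ'I' t t' ht ht'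
    (sShortMat n F i) hSI hSJ hSJ' hSI' hSo
  -- the torus element
  obtain ⟨h, hh⟩ : ∃ h : GJ n F q, h = x'⁻¹ * sShort n F q i * x * y⁻¹ := ⟨_, rfl⟩
  have hmat : mat h = Matrix.diagonal (dM I J (Fin.rev J) (Fin.rev I) t t') := by
    rw [hh, mat_mul, mat_mul, mat_mul, ok.short i hi, hX, Matrix.mul_assoc (mat x'⁻¹), hmain,
      ← hx', ← hy]
    calc mat x'⁻¹ * (mat x' * Matrix.diagonal (dM I J (Fin.rev J) (Fin.rev I) t t') * mat y) *
          mat y⁻¹
        = (mat x'⁻¹ * mat x') * Matrix.diagonal (dM I J (Fin.rev J) (Fin.rev I) t t') *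
            (mat y * mat y⁻¹) := by simp only [Matrix.mul_assoc]
      _ = Matrix.diagonal (dM I J (Fin.rev J) (Fin.rev I) t t') := by
          rw [mat_inv_mul, mat_mul_inv, Matrix.one_mul, Matrix.mul_one]
  refine ⟨x', ?_, h, ?_, y, ?_, ?_⟩
  · intro a b hab
    rw [hx', xM_apply I J (Fin.rev J) (Fin.rev I) hJJ'.symm, Matrix.one_apply]
    have h1 : ¬(b = J ∧ a = I) := fun hc => hab (Or.inl ⟨by rw [hc.2, hIv], by rw [hc.1, hJv]⟩)
    have h2 : ¬(b = Fin.rev I ∧ a = Fin.rev J) :=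
      fun hc => hab (Or.inr ⟨by rw [hc.2, hJ'v], by rw [hc.1, hI'v]⟩)
    rw [not_and] at h1 h2
    by_cases hb1 : b = J
    · have hne : a ≠ I := h1 hb1
      simp [hb1, hne, hJI']
    · by_cases hb2 : b = Fin.rev I
      · have hne : a ≠ Fin.rev J := h2 hb2
        simp [hb2, hne, hJI'.symm]
      · simp [hb1, hb2]
  · rw [mem_Tsub_iff]
    intro a b hab
    rw [hmat, Matrix.diagonal_apply_ne _ hab]
  · intro a b hab
    rw [hy, xM_apply J I (Fin.rev I) (Fin.rev J) hII'.symm, Matrix.one_apply]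
    have h1 : ¬(b = I ∧ a = J) := fun hc => hab (Or.inl ⟨by rw [hc.2, hJv], by rw [hc.1, hIv]⟩)
    have h2 : ¬(b = Fin.rev J ∧ a = Fin.rev I) :=
      fun hc => hab (Or.inr ⟨by rw [hc.2, hI'v], by rw [hc.1, hJ'v]⟩)
    rw [not_and] at h1 h2
    by_cases hb1 : b = I
    · have hne : a ≠ J := h1 hb1
      simp [hb1, hne, hIJ']
    · by_cases hb2 : b = Fin.rev J
      · have hne : a ≠ Fin.rev I := h2 hb2
        simp [hb2, hne, hIJ'.symm]
      · simp [hb1, hb2]
  · rw [hh]
    group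

end concrete

end Cfsg.Agent.Lib.Helper34.StSU
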