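import Mathlib

set_option autoImplicit false

/-! K-SylTwo-A8h: a nontrivial normal subgroup of a group inducing (at least) the alternating group on 8 points
induces the alternating group. -/

namespace Cfsg.Agent.Lib.Helper34.SylTwo

open Equiv Equiv.Perm
open MulAction

variable {M β : Type*} [Group M] [Finite M] [MulAction M β] [FaithfulSMul M β] [Fintype β] [DecidableEq β]

/-- **K-SylTwo-A8h.** -/
theorem a8_normal_contains_alt (h8 : Fintype.card β = 8) (K : Subgroup M) [K.Normal] (hK1 : K ≠ ⊥)
    (hcent : Subgroup.centralizer (K : Set M) ≤ K)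
    (hM : ∀ σ : Perm β, Perm.sign σ = 1 → ∃ m : M, MulAction.toPerm m = σ) :
    ∀ σ : Perm β, Perm.sign σ = 1 → ∃ k ∈ K, MulAction.toPerm k = σ := by
  classical
  have hKn : K.Normal := inferInstance
  let f : M →* Perm β := MulAction.toPermHom M β
  have hfinj : Function.Injective f := MulAction.toPerm_injective
  have hfapp : ∀ m, f m = MulAction.toPerm m := fun m => rfl
  let K' : Subgroup (Perm β) := K.map f
  have hnorm : ∀ a : Perm β, Perm.sign a = 1 → ∀ k ∈ K', a * k * a⁻¹ ∈ K' := by
    intro a ha k hk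
    obtain ⟨m, hm⟩ := hM a ha
    obtain ⟨k0, hk0, rfl⟩ := hk
    refine ⟨m * k0 * m⁻¹, hKn.conj_mem k0 hk0 m, ?_⟩
    rw [map_mul, map_mul, map_inv, hfapp m, hm]
  have hNn : (K'.subgroupOf (alternatingGroup β)).Normal := by
    constructor
    intro n hn g
    rw [Subgroup.mem_subgroupOf] at hn ⊢
    have := hnorm g.1 (mem_alternatingGroup.mp g.2) n.1 hn
    simpa using this
  have hsimple : IsSimpleGroup (alternatingGroup β) :=
    alternatingGroup.isSimpleGroup (by rw [Nat.card_eq_fintype_card, h8]; norm_num)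
  rcases hNn.eq_bot_or_eq_top with hbot | htop
  · exfalso
    have hcomm : ∀ k ∈ K', ∀ a : Perm β, Perm.sign a = 1 → k * a = a * k := by
      intro k hk a ha
      have h1 : k * a * k⁻¹ * a⁻¹ ∈ K' := by
        have := K'.mul_mem hk (hnorm a ha k⁻¹ (K'.inv_mem hk))
        simpa [mul_assoc] using this
      have h2 : Perm.sign (k * a * k⁻¹ * a⁻¹) = 1 := by
        rw [map_mul, map_mul, map_mul, map_inv, map_inv, ha]
        simp
      have h3 : (⟨k * a * k⁻¹ * a⁻¹, mem_alternatingGroup.mpr h2⟩ : alternatingGroup β) ∈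
          K'.subgroupOf (alternatingGroup β) := by
        rw [Subgroup.mem_subgroupOf]
        exact h1
      rw [hbot, Subgroup.mem_bot] at h3
      have h4 : k * a * k⁻¹ * a⁻¹ = 1 := congrArg Subtype.val h3
      have h5 : k * a * k⁻¹ = a := by
        rw [mul_inv_eq_one] at h4
        exact h4
      rw [mul_inv_eq_iff_eq_mul] at h5
      exact h5
    obtain ⟨⟨k0, hk0⟩, hne⟩ := (Subgroup.ne_bot_iff_exists_ne_one).mp hK1
    have hk0ne : k0 ≠ 1 := fun h => hne (Subtype.ext h)
    have hfk : f k0 ≠ 1 := by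
      intro h
      apply hk0ne
      apply hfinj
      rw [h, map_one]
    obtain ⟨x, hx⟩ : ∃ x, f k0 x ≠ x := by
      by_contra h
      push_neg at h
      exact hfk (Equiv.Perm.ext h)
    set y := f k0 x with hy
    obtain ⟨z, hz⟩ : ∃ z, z ∉ ({x, y} : Finset β) := by
      by_contra h
      push_neg at h
      have h1 := Finset.card_le_card (show (Finset.univ : Finset β) ⊆ {x, y} from fun a _ => h a)
      have h2 := Finset.card_le_two (a := x) (b := y)
      rw [Finset.card_univ, h8] at h1
      omega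
    obtain ⟨w, hw⟩ : ∃ w, w ∉ ({x, y, z} : Finset β) := by
      by_contra h
      push_neg at h
      have h1 := Finset.card_le_card (show (Finset.univ : Finset β) ⊆ {x, y, z} from fun a _ => h a)
      have h2 := Finset.card_le_three (a := x) (b := y) (c := z)
      rw [Finset.card_univ, h8] at h1
      omega
    simp only [Finset.mem_insert, Finset.mem_singleton, not_or] at hz hw
    obtain ⟨hzx, hzy⟩ := hz
    obtain ⟨hwx, hwy, hwz⟩ := hw
    have h3c : IsThreeCycle (swap y z * swap y w) :=
      isThreeCycle_swap_mul_swap_same (Ne.symm hzy) (Ne.symm hwy) (Ne.symm hwz)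
    have hc := hcomm (f k0) ⟨k0, hk0, rfl⟩ _ h3c.sign
    have h6 := congrArg (fun p : Perm β => p x) hc
    simp only [Perm.mul_apply] at h6
    rw [swap_apply_of_ne_of_ne (Ne.symm hx) (Ne.symm hwx),
      swap_apply_of_ne_of_ne (Ne.symm hx) (Ne.symm hzx), ← hy, swap_apply_left,
      swap_apply_of_ne_of_ne hwy hwz] at h6
    exact hwy h6.symm
  · intro σ hσ
    have h1 : (⟨σ, mem_alternatingGroup.mpr hσ⟩ : alternatingGroup β) ∈
        K'.subgroupOf (alternatingGroup β) := by
      rw [htop]
      trivial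
    rw [Subgroup.mem_subgroupOf] at h1
    obtain ⟨k, hk, hkσ⟩ := h1
    exact ⟨k, hk, hkσ⟩

end Cfsg.Agent.Lib.Helper34.SylTwo
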