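import Mathlib
import Cfsg.Prelude.Def_JordanBlocks
import Cfsg.Prelude.Def_LieClassical
import Cfsg.Agent.Lib.Helper73.UCDefs

set_option autoImplicit false

/-!
# K-UC-K4 (keystone 264604, S2646 pack, architect helper73): the generalised Cayley transform

For nilpotent `N`, `α + φ α = 1`, `φ ε = -ε ≠ 0`: the `(1 + N)`-invariant hermitian forms are the hermitian forms for
which `ε • (N * (1 + α • N)⁻¹)` is self-adjoint.
-/

namespace Cfsg.Agent.Lib.Helper34.UC

open Matrix Cfsg.Agent.Lib.Helper73.UC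

variable {K : Type*} [Field K] {ι : Type*} [Fintype ι] [DecidableEq ι]

theorem hadj_mul (φ : K →+* K) (A B : Matrix ι ι K) : hadj φ (A * B) = hadj φ B * hadj φ A := by
  unfold hadj
  rw [Matrix.map_mul, Matrix.transpose_mul]

theorem hadj_add (φ : K →+* K) (A B : Matrix ι ι K) : hadj φ (A + B) = hadj φ A + hadj φ B := by
  unfold hadj
  rw [Matrix.map_add (f := φ) (map_add φ), Matrix.transpose_add]

theorem hadj_one (φ : K →+* K) : hadj φ (1 : Matrix ι ι K) = 1 := by
  unfold hadj
  rw [Matrix.map_one φ (map_zero φ) (map_one φ), Matrix.transpose_one]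

theorem hadj_smul (φ : K →+* K) (a : K) (A : Matrix ι ι K) : hadj φ (a • A) = φ a • hadj φ A := by
  unfold hadj
  ext i j
  simp [Matrix.map_apply, Matrix.transpose_apply]

theorem det_hadj (φ : K →+* K) (A : Matrix ι ι K) : (hadj φ A).det = φ A.det := by
  unfold hadj
  rw [Matrix.det_transpose, RingHom.map_det]
  rfl

/-- the equivalence behind the generalised Cayley transform (no hypothesis on `M`) -/
theorem cayley_iff (φ : K →+* K) (α ε : K) (hα : α + φ α = 1) (hε : φ ε = -ε) (hε0 : ε ≠ 0)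
    (N : Matrix ι ι K) (hN : IsNilpotent N) (M : Matrix ι ι K) :
    hadj φ (1 + N) * M * (1 + N) = M ↔
      hadj φ (ε • (N * (1 + α • N)⁻¹)) * M = M * (ε • (N * (1 + α • N)⁻¹)) := by
  set P : Matrix ι ι K := 1 + α • N with hP
  clear_value P
  have hPu : IsUnit P := by
    rw [hP]
    exact IsNilpotent.isUnit_one_add (hN.smul α)
  have hPdet : IsUnit P.det := (Matrix.isUnit_iff_isUnit_det P).mp hPu
  have hPsdet : IsUnit (hadj φ P).det := by
    rw [det_hadj]
    exact hPdet.map φ
  have h1 : P⁻¹ * P = 1 := Matrix.nonsing_inv_mul P hPdet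
  have h2 : hadj φ P * (hadj φ P)⁻¹ = 1 := Matrix.mul_nonsing_inv _ hPsdet
  have h3 : P * P⁻¹ = 1 := Matrix.mul_nonsing_inv P hPdet
  have h4 : (hadj φ P)⁻¹ * hadj φ P = 1 := Matrix.nonsing_inv_mul _ hPsdet
  have hPs : hadj φ P = 1 + φ α • hadj φ N := by
    rw [hP, hadj_add, hadj_one, hadj_smul]
  have hinv : hadj φ (P⁻¹) = (hadj φ P)⁻¹ := by
    symm
    apply Matrix.inv_eq_left_inv
    rw [← hadj_mul, h3, hadj_one]
  -- the quantity `X`
  set X : Matrix ι ι K := (hadj φ P)⁻¹ * hadj φ N * M + M * N * P⁻¹ with hX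
  clear_value X
  have hR : hadj φ (ε • (N * P⁻¹)) * M = M * (ε • (N * P⁻¹)) ↔ X = 0 := by
    rw [hadj_smul, hε, hadj_mul, hinv]
    constructor
    · intro h
      have h5 : ε • X = 0 := by
        rw [hX, smul_add]
        have h6 : M * (ε • (N * P⁻¹)) = ε • (M * N * P⁻¹) := by
          rw [Matrix.mul_smul, Matrix.mul_assoc]
        rw [h6] at h
        rw [← h, Matrix.smul_mul, neg_smul]
        exact add_neg_cancel _
      rcases smul_eq_zero.mp h5 with h7 | h7
      · exact absurd h7 hε0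
      · exact h7
    · intro h
      have h5 : (hadj φ P)⁻¹ * hadj φ N * M = -(M * N * P⁻¹) := by
        rw [hX] at h
        exact eq_neg_of_add_eq_zero_left h
      rw [Matrix.smul_mul, h5, Matrix.mul_smul, ← Matrix.mul_assoc]
      simp
  have hPXP : hadj φ P * X * P = hadj φ N * M * P + hadj φ P * M * N := by
    rw [hX, Matrix.mul_add, Matrix.add_mul]
    congr 1
    · rw [← Matrix.mul_assoc, ← Matrix.mul_assoc, h2, Matrix.one_mul]
    · simp only [Matrix.mul_assoc]
      rw [h1, Matrix.mul_one]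
  have hX0 : X = 0 ↔ hadj φ P * X * P = 0 := by
    constructor
    · intro h
      rw [h, Matrix.mul_zero, Matrix.zero_mul]
    · intro h
      have : X = (hadj φ P)⁻¹ * (hadj φ P * X * P) * P⁻¹ := by
        have e : (hadj φ P)⁻¹ * (hadj φ P * X * P) * P⁻¹ =
            ((hadj φ P)⁻¹ * hadj φ P) * X * (P * P⁻¹) := by simp only [Matrix.mul_assoc]
        rw [e, h4, h3, Matrix.one_mul, Matrix.mul_one]
      rw [this, h, Matrix.mul_zero, Matrix.zero_mul]
  have hexp : hadj φ N * M * P + hadj φ P * M * N =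
      hadj φ N * M + M * N + hadj φ N * M * N := by
    have hα' : φ α = 1 - α := by rw [← hα]; ring
    have e1 : hadj φ N * M * (1 + α • N) = hadj φ N * M + α • (hadj φ N * M * N) := by
      rw [Matrix.mul_add, Matrix.mul_one, Matrix.mul_smul]
    have e2 : (1 + (1 - α) • hadj φ N) * M * N = M * N + (1 - α) • (hadj φ N * M * N) := by
      rw [Matrix.add_mul, Matrix.add_mul, Matrix.one_mul, Matrix.smul_mul, Matrix.smul_mul]
    rw [hPs, hP, hα', e1, e2, sub_smul, one_smul]
    abel
  have hL : hadj φ (1 + N) * M * (1 + N) = M ↔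
      hadj φ N * M + M * N + hadj φ N * M * N = 0 := by
    rw [hadj_add, hadj_one]
    simp only [Matrix.mul_add, Matrix.add_mul, Matrix.mul_one, Matrix.one_mul]
    constructor
    · intro h
      have : M + hadj φ N * M + (M * N + hadj φ N * M * N) - M = 0 := by rw [h, sub_self]
      rw [← this]
      abel
    · intro h
      have : M + hadj φ N * M + (M * N + hadj φ N * M * N) =
          M + (hadj φ N * M + M * N + hadj φ N * M * N) := by abel
      rw [this, h, add_zero]
  rw [hL, hR, hX0, hPXP, hexp]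

/-- LEAF K4 -/
theorem formsInv_one_add_eq_formsSA {ι : Type*} [Fintype ι] [DecidableEq ι] (φ : K →+* K)
    (hφφ : ∀ x, φ (φ x) = x) (α ε : K) (hα : α + φ α = 1) (hε : φ ε = -ε) (hε0 : ε ≠ 0)
    (N : Matrix ι ι K) (hN : IsNilpotent N) :
    FormsInv φ (1 + N) = FormsSA φ (ε • (N * (1 + α • N)⁻¹)) := by
  ext M
  unfold FormsInv FormsSA
  simp only [Set.mem_setOf_eq]
  rw [cayley_iff φ α ε hα hε hε0 N hN M]

end Cfsg.Agent.Lib.Helper34.UC
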